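import Mathlib
import Cfsg.Agent.H11.AbCent
import Cfsg.Agent.H15.CN1
import Cfsg.Agent.S0183
import Cfsg.Agent.S0215

/-!
# A non-solvable CN-group is a CIT-group
-/

set_option autoImplicit false

namespace Cfsg.Agent.H11

open MulAction Cfsg.Agent.H10 Cfsg.Agent.H15
open scoped Pointwise

variable {G : Type*} [Group G] [Finite G]

theorem isPGroup_two_of_forall_odd {K : Subgroup G} (h : ∀ a ∈ K, Odd (orderOf a) → a = 1) :
    IsPGroup 2 K := by
  intro c
  obtain ⟨k, m, hm, e⟩ := Nat.exists_eq_two_pow_mul_odd (orderOf_pos (c : G)).ne'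
  exact ⟨k, Subtype.ext (h ((c : G) ^ 2 ^ k) (K.pow_mem c.2 _) (hm.of_dvd_nat
    (orderOf_dvd_of_pow_eq_one (by rw [← pow_mul, ← e, pow_orderOf_eq_one]))))⟩

theorem cn_cit (hCN : IsCNGroup G) (hns : ¬ Group.IsSolvable G) {t : G} (ht : orderOf t = 2) :
    IsPGroup 2 (Subgroup.centralizer ({t} : Set G)) := by
  refine isPGroup_two_of_forall_odd fun a ha hao => by_contra fun ha1 => hns ?_
  obtain ⟨H, hH, hle⟩ := exists_maxNil_ge (hCN t (ne_one_of_orderOf_two ht))
  have htH : t ∈ H := hle (Subgroup.mem_centralizer_singleton_iff.2 rfl)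
  have h2 : 2 ∣ Nat.card H := ht ▸ H.orderOf_dvd_natCard htH
  have hn2 : ¬ IsPGroup 2 H := fun h => ha1 (eq_one_of_odd_of_isPGroup h (hle ha) hao)
  have hTI : ∀ g : G, MulAut.conj g • H ≠ H → H ⊓ MulAut.conj g • H = ⊥ := fun g hg =>
    by_contra fun h => hg (hH.eq_of_not_isPrimePow hCN (hH.conj g) (H8.card_conj_smul _ _).symm
      (fun h1 => by
        obtain ⟨p, k, hp, -, e⟩ := (isPrimePow_nat_iff _).1 h1
        rw [← (Nat.prime_dvd_prime_iff_eq Nat.prime_two hp).1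
          (Nat.prime_two.dvd_of_dvd_pow (e ▸ h2))] at e
        exact hn2 (IsPGroup.of_card e.symm)) h).symm
  have hN : ∀ x ∈ H, x ≠ 1 → ∀ g, g * x * g⁻¹ ∈ H → g ∈ Subgroup.normalizer (H : Set G) :=
    fun x hx hx1 g hg => H8.mem_normalizer_iff_conj_smul_eq.2 (by_contra fun h => hx1
      (conj_eq_one_iff.1 (Subgroup.mem_bot.1 ((hTI g h).le ⟨hg, Subgroup.smul_mem_pointwise_smul
        _ _ _ hx⟩))))
  have hmem : ∀ x ∈ Subgroup.normalizer (H : Set G), orderOf x ∣ Nat.card H → x ∈ H :=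
    fun x hx hd => mem_of_pow_card_pow_eq_one (hH.coprime hCN) hx (k := 1)
      (by rw [pow_one]; exact orderOf_dvd_iff_pow_eq_one.1 hd)
  by_cases hL : Subgroup.normalizer (H : Set G) = ⊤
  · have := Subgroup.normalizer_eq_top_iff.1 hL
    have := hH.nil
    have : Group.IsSolvable (G ⧸ H) := Cfsg.Agent.S0183.result
      (Nat.coprime_two_left.1 ((hH.coprime hCN).coprime_dvd_left h2))
      (cn_quotient hCN H inferInstance)
    exact solvable_of_ker_le_range H.subtype (QuotientGroup.mk' H) (by simp)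
  by_cases htwo : ∃ s ∈ H, orderOf s = 2 ∧ s ≠ t
  · obtain ⟨s, hs, hs2, hst⟩ := htwo
    refine (hn2 (SEK.cases ⟨SE.iff.2 ⟨hL, ⟨t, Subgroup.le_normalizer htH, ht⟩,
      fun v hv hv2 g hg => hN v (hmem v hv (hv2 ▸ h2)) (ne_one_of_orderOf_two hv2) g
        (hmem _ hg (by rwa [H10.orderOf_conj, hv2]))⟩, Subgroup.le_normalizer,
      fun l hl x hx => (Subgroup.mem_normalizer_iff.1 hl x).1 hx,
      fun v hv hv2 c hc => hH.centralizer_le_of_ti hCN hTI (hmem v hv (hv2 ▸ h2))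
        (ne_one_of_orderOf_two hv2) (Subgroup.mem_centralizer_singleton_iff.2 hc),
      fun c hc x hx hcx => by_contra fun hc1 => ?_, s, Subgroup.le_normalizer hs, t,
      Subgroup.le_normalizer htH, hs2, ht, hst⟩).1).elim
    obtain ⟨g, rfl⟩ := QuotientGroup.mk_surjective x
    refine hx (mk_eq_one_iff.2 ((Subgroup.inv_mem_iff _).1 (hN c hc hc1 g⁻¹ ?_)))
    rw [inv_inv]
    exact hmem _ (smul_mk_eq_iff.1 hcx) (orderOf_conj' g c ▸ H.orderOf_dvd_natCard hc)
  push Not at htwo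
  obtain ⟨P, hP⟩ := (isPGroup_zpowers_two ht).exists_le_sylow
  have hPH : ∀ s ∈ P, orderOf s = 2 → s ∈ H := by
    have : Nontrivial P := ⟨⟨⟨t, hP (Subgroup.mem_zpowers t)⟩, 1,
      fun h => ne_one_of_orderOf_two ht (congrArg Subtype.val h)⟩⟩
    obtain ⟨z, hz, hz2⟩ := exists_orderOf_eq_of_ne_bot
      (P.isPGroup'.to_subgroup (Subgroup.center P)) P.isPGroup'.bot_lt_center.ne'
    have hz3 : orderOf (z : G) = 2 := by rwa [Subgroup.orderOf_coe]
    have h3 : (z : G) ∈ H := hle (Subgroup.mem_centralizer_singleton_iff.2 (congrArg Subtype.val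
      (Subgroup.mem_center_iff.1 hz ⟨t, hP (Subgroup.mem_zpowers t)⟩)).symm)
    exact fun s hs _ => hH.centralizer_le_of_ti hCN hTI h3 (ne_one_of_orderOf_two hz3)
      (Subgroup.mem_centralizer_singleton_iff.2 (congrArg Subtype.val
        (Subgroup.mem_center_iff.1 hz ⟨s, hs⟩)))
  obtain ⟨N, _, hNo, hNc⟩ := Cfsg.Agent.S0215.result P t ht (hP (Subgroup.mem_zpowers t))
    fun g hg => htwo _ (hPH _ hg ((H10.orderOf_conj g t).trans ht)) ((H10.orderOf_conj g t).trans ht)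
  have : Group.IsSolvable N := Cfsg.Agent.S0183.result hNo (cn_subgroup hCN N)
  have : Group.IsNilpotent (⊤ : Subgroup (G ⧸ N)) := cn_nilpotent_of_commute
    (cn_quotient hCN N inferInstance) (z := (t : G ⧸ N))
    (fun e => odd_card_iff.1 hNo t ((QuotientGroup.eq_one_iff t).1 e) ht) fun x _ => by
      obtain ⟨g, rfl⟩ := QuotientGroup.mk_surjective x
      have h3 := (QuotientGroup.eq_one_iff _).2 (hNc g)
      simp only [QuotientGroup.mk_mul, QuotientGroup.mk_inv] at h3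
      exact (mul_inv_eq_iff_eq_mul.1 (mul_inv_eq_one.1 h3)).symm
  have : Group.IsSolvable (G ⧸ N) := solvable_of_surjective (f := (⊤ : Subgroup (G ⧸ N)).subtype)
    fun x => ⟨⟨x, trivial⟩, rfl⟩
  exact solvable_of_ker_le_range N.subtype (QuotientGroup.mk' N) (by simp)

end Cfsg.Agent.H11
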