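import Cfsg.Prelude.Def_Spor_J1
import Mathlib.LinearAlgebra.Matrix.ProjectiveSpecialLinearGroup
import Mathlib.GroupTheory.SpecificGroups.Dihedral
import Mathlib.GroupTheory.Sylow
import Mathlib.GroupTheory.Subgroup.Simple
import Mathlib.Data.Set.Card
import Mathlib.Algebra.CharP.Defs

/-!
# A class of subgroups of order 11 whose pairs generate `L₂(11)` or `J₁`: definitions and pieces
-/

set_option autoImplicit false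
open Subgroup

namespace Cfsg.Agent.H11.EL

universe u

section defs
variable {G : Type u} [Group G]

abbrev Nm (A : Subgroup G) : Subgroup G := normalizer (A : Set G)
abbrev Ct (A : Subgroup G) : Subgroup G := centralizer (A : Set G)
abbrev C1 (g : G) : Subgroup G := centralizer ({g} : Set G)
abbrev cj (g : G) (A : Subgroup G) : Subgroup G := A.map (MulAut.conj g).toMonoidHom
abbrev L11 : Type := Matrix.ProjectiveSpecialLinearGroup (Fin 2) (ZMod 11)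

def IsL (X : Subgroup G) : Prop := Nonempty (X ≃* L11)
def IsJ (X : Subgroup G) : Prop := Cfsg.Spor.IsoJ1 X

/-- `g` acts on `A` as the `i`-th power -/
def Ex (g : G) (A : Subgroup G) (i : ℤ) : Prop := ∀ a ∈ A, g * a * g⁻¹ = a ^ i

/-- `g` acts on `A` with an exponent whose square is not `1` -/
def Big (g : G) (A : Subgroup G) : Prop := ∃ i : ℤ, Ex g A i ∧ ¬ (11 : ℤ) ∣ i ^ 2 - 1

/-- the subgroups of order 11 of `L` -/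
def Pts (L : Subgroup G) : Set (Subgroup G) := {A | A ≤ L ∧ Nat.card A = 11}

/-- the members of `D` normalised by `g` -/
def Fx (D : Set (Subgroup G)) (g : G) : Set (Subgroup G) := {A | A ∈ D ∧ g ∈ Nm A}

/-- the subgroup generated by the members of `D` inside `X` -/
def gen (D : Set (Subgroup G)) (X : Subgroup G) : Subgroup G := sSup {A | A ∈ D ∧ A ≤ X}

structure LP (A B : Subgroup G) : Prop where
  cA : Nat.card A = 11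
  cB : Nat.card B = 11
  ne : A ≠ B
  iso : IsL (A ⊔ B)

structure Cls (D : Set (Subgroup G)) : Prop where
  card : ∀ A ∈ D, Nat.card A = 11
  conj : ∀ A ∈ D, ∀ g : G, cj g A ∈ D
  tr : ∀ A ∈ D, ∀ B ∈ D, ∃ g : G, cj g A = B
  pair : ∀ A ∈ D, ∀ B ∈ D, A ≠ B → IsL (A ⊔ B) ∨ IsJ (A ⊔ B)
  two : ∃ A ∈ D, ∃ B ∈ D, A ≠ B

structure Min (D : Set (Subgroup G)) : Prop extends Cls D where
  simple : IsSimpleGroup G
  ind : ∀ X : Subgroup G, X ≠ ⊤ → ∀ A ∈ D, ∀ B ∈ D, A ≠ B → A ≤ X → B ≤ X →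
    IsL (gen D X) ∨ IsJ (gen D X)

/-! ## facts on `L₂(11)` -/

structure LA (L : Subgroup G) : Prop where
  card : Nat.card L = 660
  simple : IsSimpleGroup L
  npts : (Pts L).ncard = 12
  cent : ∀ A ∈ Pts L, ∀ g ∈ L, g ∈ Ct A → g ∈ A
  cN : ∀ A ∈ Pts L, Nat.card (L ⊓ Nm A : Subgroup G) = 55
  reg : ∀ A ∈ Pts L, ∀ B ∈ Pts L, ∀ B' ∈ Pts L, B ≠ A → B' ≠ A → ∃! a : G, a ∈ A ∧ cj a B = B'
  sup : ∀ A ∈ Pts L, ∀ B ∈ Pts L, A ≠ B → A ⊔ B = L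
  tr : ∀ A ∈ Pts L, ∀ B ∈ Pts L, ∃ g ∈ L, cj g A = B
  ctr : ∀ g ∈ L, g ∈ Ct L → g = 1
  ker : ∀ g ∈ Nm L, (∀ A ∈ Pts L, g ∈ Nm A) → g ∈ Ct L

structure LB (L : Subgroup G) : Prop where
  cls : ∀ s ∈ L, ∀ t ∈ L, orderOf s = 2 → orderOf t = 2 → ∃ g ∈ L, g * s * g⁻¹ = t
  cC : ∀ s ∈ L, orderOf s = 2 → Nat.card (L ⊓ C1 s : Subgroup G) = 12
  d12 : ∀ s ∈ L, orderOf s = 2 → ∃ x ∈ L, ∃ w ∈ L, orderOf x = 3 ∧ orderOf w = 2 ∧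
    Commute s x ∧ Commute s w ∧ w * x * w⁻¹ = x⁻¹
  d12' : ∀ x ∈ L, orderOf x = 3 → ∃ s ∈ L, ∃ w ∈ L, orderOf s = 2 ∧ orderOf w = 2 ∧
    Commute s x ∧ Commute s w ∧ w * x * w⁻¹ = x⁻¹
  c3 : ∀ x ∈ L, orderOf x = 3 → Nat.card (L ⊓ C1 x : Subgroup G) = 6
  no4 : ∀ u ∈ L, u ^ 4 = 1 → u ^ 2 = 1

/-- the torus `⟨f⟩` of the pair and an involution `s` swapping the pair -/
structure LC1 (A B : Subgroup G) (f s : G) : Prop where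
  fL : f ∈ A ⊔ B
  fo : orderOf f = 5
  fA : f ∈ Nm A
  fB : f ∈ Nm B
  big : Big f A
  sL : s ∈ A ⊔ B
  so : orderOf s = 2
  sA : cj s A = B
  sB : cj s B = A
  sf : s * f * s⁻¹ = f⁻¹
  TL : ∀ g ∈ A ⊔ B, g ∈ Nm A → g ∈ Nm B → g ∈ zpowers f

structure LC (A B : Subgroup G) (f s : G) : Prop extends LC1 A B f s where
  cen : ∀ g ∈ Ct A, g ∈ Nm B → g ∈ Ct (A ⊔ B)
  com : ∀ g ∈ Nm A, g ∈ Nm B → Commute g f
  inv : ∀ u : G, cj u A = B → cj u B = A → ∀ g ∈ Nm A, g ∈ Nm B → u * g * u⁻¹ * g ∈ Ct (A ⊔ B)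
  sq : ∀ u : G, cj u A = B → cj u B = A → u * u ∈ Ct (A ⊔ B)
  mm : ∀ g ∈ Nm A, g ∈ Nm B → ∀ i j : ℤ, Ex g A i → Ex g B j → (11 : ℤ) ∣ i * j - 1

/-- no element of the pair stabiliser inverts `A` -/
def E1 (A B : Subgroup G) : Prop := ∀ g ∈ Nm A, g ∈ Nm B → ¬ Ex g A (-1)

structure LT (A B : Subgroup G) (f : G) : Prop where
  e1T : E1 A B → ∀ g ∈ Nm A, g ∈ Nm B → ∃ k ∈ Ct (A ⊔ B), ∃ n : ℕ, g = k * f ^ n
  e1c : E1 A B → Nat.card (Nm A ⊓ Nm B : Subgroup G) = 5 * Nat.card (Ct (A ⊔ B))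
  e1M : E1 A B → ∀ g ∈ Nm (A ⊔ B), ∃ k ∈ Ct (A ⊔ B), ∃ l ∈ A ⊔ B, g = k * l
  e2T : ∀ y ∈ Nm A, y ∈ Nm B → Ex y A (-1) → ∀ g ∈ Nm A, g ∈ Nm B →
    ∃ k ∈ Ct (A ⊔ B), ∃ n : ℕ, g = k * f ^ n ∨ g = k * f ^ n * y
  e2c : ¬ E1 A B → Nat.card (Nm A ⊓ Nm B : Subgroup G) = 10 * Nat.card (Ct (A ⊔ B))
  cM : Nat.card (Nm (A ⊔ B)) = 132 * Nat.card (Nm A ⊓ Nm B : Subgroup G)
  CM : ∀ c ∈ Ct A, c ∈ Nm (A ⊔ B) → ∃ k ∈ Ct (A ⊔ B), ∃ a ∈ A, c = k * a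
  small : ∀ g ∈ Nm A, g ∈ Nm B → g ∈ Ct (A ⊔ B) ∨ Ex g A (-1) ∨ Big g A

/-- an element inverting `A` and normalising `B` -/
structure LD (A B : Subgroup G) (y : G) : Prop where
  yB : Ex y B (-1)
  two : ∀ E ∈ Pts (A ⊔ B), y ∈ Nm E → E = A ∨ E = B
  card : y * y = 1 → Nat.card (A ⊔ B ⊔ zpowers y : Subgroup G) = 1320
  d8 : y * y = 1 → ∃ S : Subgroup G, S ≤ A ⊔ B ⊔ zpowers y ∧ Nonempty (S ≃* DihedralGroup 4)
  sqs : y * y = 1 → ∀ s ∈ A ⊔ B, orderOf s = 2 → ∃ u ∈ A ⊔ B ⊔ zpowers y, u * u = s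

/-! ## facts on `J₁` -/

structure JA (J : Subgroup G) : Prop where
  card : Nat.card J = 175560
  simple : IsSimpleGroup J
  ctr : ∀ g ∈ J, g ∈ Ct J → g = 1
  inn : ∀ g ∈ Nm J, ∃ k ∈ Ct J, ∃ l ∈ J, g = k * l
  cls : ∀ s ∈ J, ∀ t ∈ J, orderOf s = 2 → orderOf t = 2 → ∃ g ∈ J, g * s * g⁻¹ = t
  no4 : ∀ u ∈ J, u ^ 4 = 1 → u ^ 2 = 1
  e8 : ∀ y ∈ J, orderOf y = 2 → ∃ E : Subgroup G, E ≤ J ∧ y ∈ E ∧ Nat.card E = 8 ∧ ∀ x ∈ E, x * x = 1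
  cy : ∀ y ∈ J, orderOf y = 2 → ∃ U : Subgroup G, U ≤ J ∧ U ≤ C1 y ∧
    Nonempty (U ≃* alternatingGroup (Fin 5)) ∧ ∀ c ∈ J, Commute c y → c ∈ U ∨ c * y ∈ U
  cent : ∀ A ∈ Pts J, ∀ g ∈ J, g ∈ Ct A → g ∈ A
  cN : ∀ A ∈ Pts J, Nat.card (J ⊓ Nm A : Subgroup G) = 110
  tr : ∀ A ∈ Pts J, ∀ B ∈ Pts J, ∃ g ∈ J, cj g A = B
  inv : ∀ A ∈ Pts J, ∃ y ∈ J, y * y = 1 ∧ Ex y A (-1)
  pt : ∃ A, A ∈ Pts J

/-- `y` is an involution of a `J₁` containing `A`, inverting `A` -/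
def Std (D : Set (Subgroup G)) (y : G) (A : Subgroup G) : Prop :=
  A ∈ D ∧ y * y = 1 ∧ Ex y A (-1) ∧ ∃ J : Subgroup G, IsJ J ∧ A ≤ J ∧ y ∈ J

/-- basic facts for any class -/
structure MB (D : Set (Subgroup G)) : Prop where
  semi : ∀ A ∈ D, ∀ E ∈ D, ∀ a ∈ A, a ≠ 1 → a ∈ Nm E → E = A
  cen : ∀ A ∈ D, ∀ B ∈ D, ∀ g ∈ Ct A, g ∈ Nm B → g ∈ Ct (A ⊔ B)
  pts : ∀ X : Subgroup G, IsL X ∨ IsJ X → ∀ A ∈ D, A ≤ X → ∀ E ∈ Pts X, E ∈ D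
  tri : ∀ A ∈ D, ∀ g ∈ Nm A, g ∈ Ct A ∨ Ex g A (-1) ∨ Big g A
  v11 : D.ncard % 11 = 1

/-! ## the case without `J₁` -/

structure NJ (D : Set (Subgroup G)) : Prop extends Cls D where
  simple : IsSimpleGroup G
  lp : ∀ A ∈ D, ∀ B ∈ D, A ≠ B → LP A B
  ind : ∀ X : Subgroup G, X ≠ ⊤ → ∀ A ∈ D, ∀ B ∈ D, A ≠ B → A ≤ X → B ≤ X →
    ∀ E ∈ D, E ≤ X → E ≤ A ⊔ B
  big : ∀ A ∈ D, ∀ B ∈ D, A ⊔ B ≠ ⊤

structure NB (D : Set (Subgroup G)) : Prop extends NJ D, MB D where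
  fix : ∀ A ∈ D, ∀ B ∈ D, A ≠ B → ∀ k ∈ Ct (A ⊔ B), k ≠ 1 → ∀ E ∈ D, k ∈ Nm E → E ≤ A ⊔ B
  ti : ∀ A ∈ D, ∀ B ∈ D, A ≠ B → ∀ k ∈ Ct (A ⊔ B), k ≠ 1 → ∀ g : G,
    g * k * g⁻¹ ∈ Ct (A ⊔ B) → g ∈ Nm (A ⊔ B)
  ti' : ∀ A ∈ D, ∀ B ∈ D, A ≠ B → ∀ A' ∈ D, ∀ B' ∈ D, A' ≠ B' → ∀ k ∈ Ct (A ⊔ B), k ≠ 1 →
    k ∈ Ct (A' ⊔ B') → A ⊔ B = A' ⊔ B'
  line : ∀ A ∈ D, ∀ B ∈ D, ∀ A' ∈ D, ∀ B' ∈ D, A' ≠ B' → A' ≤ A ⊔ B → B' ≤ A ⊔ B →
    A' ⊔ B' = A ⊔ B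
  two' : ∀ A ∈ D, ∀ g ∈ Nm A, Big g A → ∀ B ∈ D, ∀ B' ∈ D, B ≠ A → B' ≠ A → g ∈ Nm B →
    g ∈ Nm B' → B = B'
  out : ∀ A ∈ D, ∀ B ∈ D, ∃ E ∈ D, ¬ E ≤ A ⊔ B
  five : ∀ A ∈ D, ∀ B ∈ D, ∀ B' ∈ D, B ≠ A → ¬ B' ≤ A ⊔ B → ∀ g ∈ Nm A, g ∈ Nm B → Big g A →
    g ∉ Nm (A ⊔ B')
  mix : ∀ A ∈ D, ∀ B ∈ D, ∀ B' ∈ D, B ≠ A → ¬ B' ≤ A ⊔ B → ∀ k ∈ Ct (A ⊔ B), k ≠ 1 →
    k ∈ Nm (A ⊔ B') → orderOf k = 11 ∧ (∃ a ∈ A, a ≠ 1 ∧ k * a ≠ 1 ∧ k * a ∈ Ct (A ⊔ B')) ∧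
      ∀ c ∈ Ct (A ⊔ B), Commute c k → c ∈ zpowers k
  nc : ¬ IsMulCommutative G
  faith : ∀ g : G, (∀ A ∈ D, g ∈ Nm A) → g = 1

structure NT (D : Set (Subgroup G)) : Prop extends NB D where
  tr2 : ∀ A ∈ D, ∀ B ∈ D, ∀ A' ∈ D, ∀ B' ∈ D, A ≠ B → A' ≠ B' → ∃ g : G, cj g A = A' ∧ cj g B = B'
  v5 : D.ncard % 5 = 2
  v12 : 12 < D.ncard
  cH : ∀ A ∈ D, ∀ B ∈ D, A ≠ B →
    Nat.card (Nm A) = (D.ncard - 1) * Nat.card (Nm A ⊓ Nm B : Subgroup G)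
  cG : ∀ A ∈ D, Nat.card G = D.ncard * Nat.card (Nm A)
  v132 : 132 ∣ D.ncard * (D.ncard - 1)

structure NE (D : Set (Subgroup G)) : Prop extends NT D where
  even : Even D.ncard
  ctr : ∀ A ∈ D, ∀ B ∈ D, ∀ B' ∈ D, B ≠ A → B' ≠ A → ∃ c ∈ Ct A, cj c B = B'
  cC : ∀ A ∈ D, ∀ B ∈ D, A ≠ B → Nat.card (Ct A) = (D.ncard - 1) * Nat.card (Ct (A ⊔ B))

/-- a pair of distinct members in the even case -/
structure Pr (D : Set (Subgroup G)) (A B : Subgroup G) : Prop where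
  ne : NE D
  hA : A ∈ D
  hB : B ∈ D
  AB : A ≠ B

/-- the last clause of the theorem on cyclic two-point stabilisers -/
def Cl4 (D : Set (Subgroup G)) (A B : Subgroup G) : Prop :=
  (∃! t : G, t ∈ Nm A ∧ t ∈ Nm B ∧ t ≠ 1 ∧ ∃ E ∈ D, E ≠ A ∧ E ≠ B ∧ t ∈ Nm E) ∧
  (∀ s t : G, orderOf s = 2 → orderOf t = 2 → IsConj s t) ∧
  ∃ (t : G) (K : Type) (_ : Field K) (_ : Fintype K), orderOf t = 2 ∧ Odd (Fintype.card K) ∧
    Nonempty (C1 t ≃* Matrix.ProjectiveSpecialLinearGroup (Fin 2) K × Multiplicative (ZMod 2))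

/-- the orders `(#K, #T)` killed by the theorem on cyclic two-point stabilisers -/
def CyN (k e : ℕ) : Prop := (k = 1 ∧ e = 5) ∨ (k = 2 ∧ e = 10) ∨ (k = 3 ∧ e = 15) ∨
  (k = 2 ∧ e = 20) ∨ (k = 11 ∧ e = 55)

/-- `C(y)/⟨y⟩` is doubly transitive on the fixed points of `y`, three-point stabilisers trivial -/
structure ZS (D : Set (Subgroup G)) (y : G) : Prop where
  tr2 : ∀ A ∈ Fx D y, ∀ B ∈ Fx D y, ∀ A' ∈ Fx D y, ∀ B' ∈ Fx D y, A ≠ B → A' ≠ B' →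
    ∃ g : G, Commute g y ∧ cj g A = A' ∧ cj g B = B'
  three : ∀ g : G, Commute g y → ∀ A ∈ Fx D y, ∀ B ∈ Fx D y, ∀ E ∈ Fx D y, A ≠ B → B ≠ E → A ≠ E →
    g ∈ Nm A → g ∈ Nm B → g ∈ Nm E → g ∈ zpowers y

/-- `C(y)/⟨y⟩ ≅ L₂(q)`, `q` odd -/
def CL2 (y : G) : Prop := ∃ (K : Type) (_ : Field K) (_ : Fintype K), ringChar K ≠ 2 ∧
  ∃ φ : C1 y →* Matrix.ProjectiveSpecialLinearGroup (Fin 2) K, Function.Surjective φ ∧
    ∀ g : C1 y, φ g = 1 ↔ (g : G) ∈ zpowers y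

/-- case N2: `K` odd, an involution `y` inverting `A` and normalising `B` -/
structure N2 (D : Set (Subgroup G)) (A B : Subgroup G) (y : G) : Prop extends Pr D A B where
  odd : Odd (Nat.card (Ct (A ⊔ B)))
  yy : y * y = 1
  yA : Ex y A (-1)
  yN : y ∈ Nm A
  yB : y ∈ Nm B

/-- case N3: `K` odd, nothing inverts -/
structure N3 (D : Set (Subgroup G)) (A B : Subgroup G) : Prop extends Pr D A B where
  odd : Odd (Nat.card (Ct (A ⊔ B)))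
  e1 : E1 A B

/-- `W/A` is a nontrivial elementary abelian `l`-section of `C(A)/A`, normal in `N(A)/A` -/
structure WS (A W : Subgroup G) (l : ℕ) : Prop where
  pr : l.Prime
  le : A ≤ W
  ne : A ≠ W
  ct : W ≤ Ct A
  nm : Nm A ≤ Nm W
  ab : ∀ x ∈ W, ∀ y ∈ W, x * y * x⁻¹ * y⁻¹ ∈ A
  el : ∀ x ∈ W, x ^ l ∈ A

/-- `E` acts semiregularly on `W/A` -/
def Fpf (E A W : Subgroup G) : Prop :=
  ∀ g ∈ E, g ≠ 1 → ∀ w ∈ W, g * w * g⁻¹ * w⁻¹ ∈ A → w ∈ A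

/-- subgroups of order `pq` are cyclic -/
def PQ (E : Subgroup G) : Prop :=
  ∀ p q : ℕ, p.Prime → q.Prime → ∀ U : Subgroup G, U ≤ E → Nat.card U = p * q → IsCyclic U

/-- some nonidentity element of `K` fixes a second line through `A` -/
def Mixed (D : Set (Subgroup G)) (A B : Subgroup G) (k : G) : Prop :=
  k ∈ Ct (A ⊔ B) ∧ k ≠ 1 ∧ ∃ B' ∈ D, ¬ B' ≤ A ⊔ B ∧ k ∈ Nm (A ⊔ B')

/-- `R` is a Sylow `r`-subgroup of `K` -/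
def Syl (r : ℕ) (R K : Subgroup G) : Prop := R ≤ K ∧ IsPGroup r R ∧ ¬ r ∣ R.relIndex K

/-- two commuting involutions of `X` are equal -/
def R1 (X : Subgroup G) : Prop :=
  ∀ s ∈ X, ∀ t ∈ X, orderOf s = 2 → orderOf t = 2 → Commute s t → s = t

/-- an involution of `K` which is self-centralising in `K` -/
def SC (K : Subgroup G) (t : G) : Prop :=
  t ∈ K ∧ orderOf t = 2 ∧ ∀ c ∈ K, Commute c t → c ∈ zpowers t

/-- the normal 2-complement `O` of `C(A)` -/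
structure OS (A O : Subgroup G) (t : G) : Prop where
  le : A ≤ O
  ct : O ≤ Ct A
  nm : Nm A ≤ Nm O
  card : 2 * Nat.card O = Nat.card (Ct A)
  odd : Odd (Nat.card O)
  mem : ∀ c ∈ Ct A, Odd (orderOf c) → c ∈ O
  inv : ∀ x ∈ O, t * x * t⁻¹ * x ∈ A
  ab : ∀ x ∈ O, ∀ y ∈ O, x * y * x⁻¹ * y⁻¹ ∈ A

/-- the last case: `K = ⟨t⟩` and an inverting involution `y` -/
structure N6 (D : Set (Subgroup G)) (A B O : Subgroup G) (t y : G) : Prop extends Pr D A B where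
  t2 : orderOf t = 2
  hK : Ct (A ⊔ B) = zpowers t
  os : OS A O t
  yy : y * y = 1
  yA : Ex y A (-1)
  yN : y ∈ Nm A
  yB : y ∈ Nm B

/-! ## the action on the class -/

theorem cj_one (A : Subgroup G) : cj 1 A = A := by
  ext x; simp

theorem cj_mul (g h : G) (A : Subgroup G) : cj (g * h) A = cj g (cj h A) := by
  rw [cj, cj, cj, map_map]; congr 1; ext x; simp [mul_assoc]

theorem mem_cj {g x : G} {A : Subgroup G} : x ∈ cj g A ↔ g⁻¹ * x * g ∈ A := by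
  constructor
  · rintro ⟨a, ha, rfl⟩; simpa [mul_assoc] using ha
  · intro h; exact ⟨_, h, by simp [mul_assoc]⟩

theorem cj_eq_iff {g : G} {A : Subgroup G} : cj g A = A ↔ g ∈ Nm A := by
  rw [mem_normalizer_iff'']
  constructor
  · intro h x; rw [← mem_cj, h]
  · intro h; ext x; rw [mem_cj, ← h]

theorem cj_sup (g : G) (A B : Subgroup G) : cj g (A ⊔ B) = cj g A ⊔ cj g B := map_sup _ _ _

theorem card_cj (g : G) (A : Subgroup G) : Nat.card (cj g A) = Nat.card A :=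
  card_map_of_injective (MulAut.conj g).injective

/-- the points -/
def Pt {D : Set (Subgroup G)} (_ : Cls D) : Type u := {A : Subgroup G // A ∈ D}

instance ptAction {D : Set (Subgroup G)} (h : Cls D) : MulAction G (Pt h) where
  smul g A := ⟨cj g A.1, h.conj _ A.2 g⟩
  one_smul A := Subtype.ext (cj_one A.1)
  mul_smul g k A := Subtype.ext (cj_mul g k A.1)

theorem pt_smul {D : Set (Subgroup G)} (h : Cls D) (g : G) (A : Pt h) : (g • A).1 = cj g A.1 := rfl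

theorem pt_fix {D : Set (Subgroup G)} (h : Cls D) (g : G) (A : Pt h) : g • A = A ↔ g ∈ Nm A.1 := by
  rw [← cj_eq_iff]; exact Subtype.ext_iff

instance ptFinite [Finite G] {D : Set (Subgroup G)} (h : Cls D) : Finite (Pt h) :=
  inferInstanceAs (Finite {A : Subgroup G // A ∈ D})

theorem pt_card {D : Set (Subgroup G)} (h : Cls D) : Nat.card (Pt h) = D.ncard := rfl

end defs

/-! ## the pieces: base facts -/

def LAStmt : Prop := ∀ {G : Type u} [Group G] [Finite G] (L : Subgroup G), IsL L → LA L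
def LBStmt : Prop := ∀ {G : Type u} [Group G] [Finite G] (L : Subgroup G), IsL L → LB L
def LC1Stmt : Prop := ∀ {G : Type u} [Group G] [Finite G] (A B : Subgroup G), LP A B →
  ∃ f s, LC1 A B f s
def LCStmt : Prop := ∀ {G : Type u} [Group G] [Finite G] (A B : Subgroup G) (f s : G), LP A B →
  LC1 A B f s → LC A B f s
def LTStmt : Prop := ∀ {G : Type u} [Group G] [Finite G] (A B : Subgroup G) (f s : G), LP A B →
  LC A B f s → LT A B f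
def LDStmt : Prop := ∀ {G : Type u} [Group G] [Finite G] (A B : Subgroup G) (y : G), LP A B →
  y ∈ Nm A → y ∈ Nm B → Ex y A (-1) → LD A B y
def LEStmt : Prop := ∀ {G : Type u} [Group G] [Finite G] (L : Subgroup G) (u : G), IsL L →
  u ∈ Nm L → u * u = 1 → (∀ A ∈ Pts L, u ∉ Nm A) → ∃ k ∈ Ct L, ∃ s ∈ L, u = k * s
def LXStmt : Prop := ∀ {G : Type u} [Group G] [Finite G] (L : Subgroup G) (x w c : G), IsL L →
  x ∈ Nm L → w ∈ Nm L → c ∈ Nm L → x ^ 3 = 1 → x ∉ Ct L → w * w = 1 → w * x * w⁻¹ = x⁻¹ →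
  Commute c x → Commute c w → c * c ∈ Ct L
def JAStmt : Prop := ∀ {G : Type u} [Group G] [Finite G] (J : Subgroup G), IsJ J → JA J
def JYStmt : Prop := ∀ {G : Type u} [Group G] [Finite G] (J A : Subgroup G) (y : G), IsJ J →
  A ∈ Pts J → y ∈ J → y * y = 1 → Ex y A (-1) → ∃ f ∈ J, ∃ B ∈ Pts J, orderOf f = 5 ∧
    Commute f y ∧ f ∈ Nm A ∧ Big f A ∧ B ≠ A ∧ y ∈ Nm B ∧ f ∈ Nm B ∧ ¬ IsL (A ⊔ B)
def JMStmt : Prop := ∀ {G : Type u} [Group G] [Finite G] (A B : Subgroup G) (y g : G),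
  Nat.card A = 11 → Nat.card B = 11 → A ≠ B → IsJ (A ⊔ B) → y * y = 1 → y ∈ Nm A → Ex y A (-1) →
  y ∈ Nm B → Commute g y → g ∈ Nm A → g ∈ Nm B → ∀ i j : ℤ, Ex g A i → Ex g B j →
  (11 : ℤ) ∣ i * j - 1
def MBStmt : Prop := ∀ {G : Type u} [Group G] [Finite G] (D : Set (Subgroup G)), Cls D → MB D

structure Base : Prop where
  la : LAStmt.{u}
  lb : LBStmt.{u}
  lc1 : LC1Stmt.{u}
  lc : LCStmt.{u}
  lt : LTStmt.{u}
  ld : LDStmt.{u}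
  le : LEStmt.{u}
  lx : LXStmt.{u}
  ja : JAStmt.{u}
  jy : JYStmt.{u}
  jm : JMStmt.{u}
  mb : MBStmt.{u}

/-! ## the pieces: abstract lemmas -/

def TEStmt : Prop := ∀ {G : Type u} [Group G] [Finite G] [IsSimpleGroup G] (K L : Subgroup G),
  Even (Nat.card K) → K ≠ ⊤ → (∀ g : G, g ∉ Nm K → K ⊓ cj g K = ⊥) → L ≤ Nm K →
  IsL L ∨ IsJ L → ∃ g : G, g ∉ Nm K ∧ ∃ u ∈ cj g K, u ∈ Nm K ∧ orderOf u = 2
def ZAStmt : Prop := ∀ {X : Type u} [Group X] [Finite X] {Ω : Type u} [Finite Ω] [MulAction X Ω]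
  (Y : Subgroup X) (a b : Ω) (f : X) (e : ℕ), Y.Normal → (∀ y ∈ Y, ∀ x : Ω, y • x = x) →
  (∀ a b c d : Ω, a ≠ b → c ≠ d → ∃ g : X, g • a = c ∧ g • b = d) →
  (∀ g : X, ∀ x y z : Ω, x ≠ y → y ≠ z → x ≠ z → g • x = x → g • y = y → g • z = z → g ∈ Y) →
  2 < Nat.card Ω → a ≠ b → f • a = a → f • b = b → f ∉ Y →
  (∀ n : X, n • a = b → n • b = a → n * f * n⁻¹ * f⁻¹ ∉ Y) →
  Nat.card (MulAction.stabilizer X a ⊓ MulAction.stabilizer X b : Subgroup X) = Nat.card Y * e →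
  (Even e → Nat.card Ω - 2 ≤ 2 * e) ∧ (Odd e → Even (Nat.card Ω) →
    ∃ (K : Type) (_ : Field K) (_ : Fintype K), ringChar K ≠ 2 ∧
      ∃ φ : X →* Matrix.ProjectiveSpecialLinearGroup (Fin 2) K, Function.Surjective φ ∧
        ∀ g : X, φ g = 1 ↔ g ∈ Y)
def ZGStmt : Prop := ∀ {G : Type u} [Group G] [Finite G] (D : Set (Subgroup G)) (A B : Subgroup G)
  (y f s : G) (e : ℕ), Cls D → A ∈ Fx D y → B ∈ Fx D y → LP A B → LC A B f s → orderOf y = 2 →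
  ZS D y → 2 < (Fx D y).ncard → Nat.card (C1 y ⊓ (Nm A ⊓ Nm B) : Subgroup G) = 2 * e →
  (Even e → (Fx D y).ncard - 2 ≤ 2 * e) ∧ (Odd e → Even (Fx D y).ncard → CL2 y)
def TWStmt : Prop := ∀ {G : Type u} [Group G] [Finite G] [IsSimpleGroup G] (y u : G),
  ¬ IsMulCommutative G → orderOf y = 2 → (∀ x : G, x * x ≠ y) → ¬ 8 ∣ Nat.card (C1 y) →
  orderOf u = 4 → False
def SPStmt : Prop := ∀ {G : Type u} [Group G] [Finite G] [IsSimpleGroup G] (y u : G),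
  ¬ IsMulCommutative G → orderOf y = 2 → (∀ x : G, x * x ≠ y) → CL2 y → 5 ∣ Nat.card (C1 y) →
  orderOf u = 4 → False
def PQStmt : Prop := ∀ {G : Type u} [Group G] [Finite G] (E A W : Subgroup G), A ≤ W → A ≠ W →
  W ≤ Nm A → E ≤ Nm A → E ≤ Nm W → (∀ x ∈ W, ∀ y ∈ W, x * y * x⁻¹ * y⁻¹ ∈ A) → Fpf E A W → PQ E
def ZKStmt : Prop := ∀ {G : Type u} [Group G] [Finite G] (K : Subgroup G), Odd (Nat.card K) →
  K ≠ ⊥ → PQ K → ∃ (r : ℕ) (R : Subgroup G), r = (Nat.card K).minFac ∧ r.Prime ∧ Syl r R K ∧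
    R ≠ ⊥ ∧ IsCyclic R ∧ (∀ n ∈ K, n ∈ Nm R → n ∈ Ct R) ∧
    ∀ k ∈ K, orderOf k = r → ∀ c ∈ K, Commute c k
def ABStmt : Prop := ∀ {G : Type u} [Group G] [Finite G] (A W : Subgroup G) (k f : G),
  Nat.card A = 11 → WS A W 11 → k ∈ Ct A → k ^ 11 = 1 → f ∈ Nm A → f ^ 5 = 1 → Big f A →
  Commute f k → (∀ w ∈ W, Commute w k → w ∈ A) → ∀ x ∈ W, ∀ y ∈ W, Commute x y
def NUStmt : Prop := ∀ {G : Type u} [Group G] [Finite G] (A W K : Subgroup G) (k : G),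
  Nat.card A = 11 → WS A W 11 → (∀ x ∈ W, ∀ y ∈ W, Commute x y) → K ≤ Ct A → k ∈ K →
  orderOf k = 11 → (∀ n ∈ K, n ∈ Nm (zpowers k) → n ∈ zpowers k) → K ≠ zpowers k →
  (∀ c ∈ K, c ≠ 1 → ¬ 11 ∣ orderOf c → ∀ w ∈ W, Commute w c → w ∈ A) →
  (∀ w ∈ W, Commute w k → w ∈ A) → False
def FAStmt : Prop := ∀ {G : Type u} [Group G] [Finite G] (A O : Subgroup G) (t y : G),
  Nat.card A = 11 → OS A O t → t ∈ Ct A → t * t = 1 → y * y = 1 → Commute t y → y ∈ Nm A →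
  Ex y A (-1) → Nat.card O =
    11 * Nat.card (O ⊓ C1 y : Subgroup G) * Nat.card (O ⊓ C1 (y * t) : Subgroup G)
def J7Stmt : Prop := ∀ {G : Type u} [Group G] [Finite G] [IsSimpleGroup G] (J : Subgroup G),
  IsJ J → (∀ u : G, u ^ 4 = 1 → u ^ 2 = 1) → J = ⊤

/-! ## the pieces: the case with `J₁` -/

def J1Stmt : Prop := ∀ {G : Type u} [Group G] [Finite G] (D : Set (Subgroup G)) (y : G)
  (A : Subgroup G), Cls D → Std D y A → Even (Fx D y).ncard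
def J3Stmt : Prop := ∀ {G : Type u} [Group G] [Finite G] (D : Set (Subgroup G)), Min D →
  ∀ A ∈ D, ∀ B ∈ D, IsJ (A ⊔ B) → Odd (Nat.card (Ct (A ⊔ B)))
def J4Stmt : Prop := ∀ {G : Type u} [Group G] [Finite G] (D : Set (Subgroup G)) (y : G)
  (A : Subgroup G), Cls D → Std D y A → ∀ B ∈ D, B ≠ A → y ∈ Nm B → IsJ (A ⊔ B)
def J5Stmt : Prop := ∀ {G : Type u} [Group G] [Finite G] (D : Set (Subgroup G)) (y : G)
  (A : Subgroup G), Min D → Std D y A → Odd (Nat.card (Ct A))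
def J6Stmt : Prop := ∀ {G : Type u} [Group G] [Finite G] (D : Set (Subgroup G)) (y : G)
  (A : Subgroup G), Cls D → Std D y A → Odd (Nat.card (Ct A)) → ∀ u : G, u ^ 4 = 1 → u ^ 2 = 1

/-! ## the pieces: the case without `J₁` -/

def NBStmt : Prop := ∀ {G : Type u} [Group G] [Finite G] (D : Set (Subgroup G)), NJ D → NB D
def NTStmt : Prop := ∀ {G : Type u} [Group G] [Finite G] (D : Set (Subgroup G)), NB D → NT D
def N1Stmt : Prop := ∀ {G : Type u} [Group G] [Finite G] (D : Set (Subgroup G)), NT D →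
  Even D.ncard
def NEStmt : Prop := ∀ {G : Type u} [Group G] [Finite G] (D : Set (Subgroup G)), NT D →
  Even D.ncard → NE D
def CY1Stmt : Prop := ∀ {G : Type u} [Group G] [Finite G] (D : Set (Subgroup G))
  (A B : Subgroup G), Pr D A B → IsCyclic (Nm A ⊓ Nm B : Subgroup G) →
  Nat.card (Nm A ⊓ Nm B : Subgroup G) ∈ ({5, 10, 15, 20, 55} : Set ℕ) → Cl4 D A B
def CY2Stmt : Prop := ∀ {G : Type u} [Group G] [Finite G] (D : Set (Subgroup G))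
  (A B : Subgroup G), Pr D A B → IsCyclic (Nm A ⊓ Nm B : Subgroup G) →
  CyN (Nat.card (Ct (A ⊔ B))) (Nat.card (Nm A ⊓ Nm B : Subgroup G)) → Cl4 D A B → False
def CYStmt : Prop := ∀ {G : Type u} [Group G] [Finite G] (D : Set (Subgroup G))
  (A B : Subgroup G), Pr D A B → IsCyclic (Nm A ⊓ Nm B : Subgroup G) →
  CyN (Nat.card (Ct (A ⊔ B))) (Nat.card (Nm A ⊓ Nm B : Subgroup G)) → False
/-- odd `K`, nothing inverts, `K` cyclic of order `1`, `3` or `11`; or `K` of order 2 -/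
def CKStmt : Prop := ∀ {G : Type u} [Group G] [Finite G] (D : Set (Subgroup G))
  (A B : Subgroup G), Pr D A B →
  (E1 A B → Nat.card (Ct (A ⊔ B)) ∈ ({1, 2, 3, 11} : Set ℕ) → False) ∧
  (Nat.card (Ct (A ⊔ B)) = 2 → ∀ y ∈ Nm A, y ∈ Nm B → Ex y A (-1) → y * y = 1)

def N2aStmt : Prop := ∀ {G : Type u} [Group G] [Finite G] (D : Set (Subgroup G))
  (A B : Subgroup G) (y : G), N2 D A B y → (∀ x : G, x * x ≠ y) ∧ Even (Fx D y).ncard ∧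
  (∃ e : ℕ, Odd e ∧ 5 ∣ e ∧ Nat.card (C1 y ⊓ (Nm A ⊓ Nm B) : Subgroup G) = 2 * e) ∧
  ((Fx D y).ncard ≤ 2 → ¬ 8 ∣ Nat.card (C1 y))
def Z3Stmt : Prop := ∀ {G : Type u} [Group G] [Finite G] (D : Set (Subgroup G))
  (A₀ : Subgroup G) (y : G), NB D → A₀ ∈ D → y * y = 1 → Ex y A₀ (-1) →
  (∀ A ∈ Fx D y, Ex y A (-1)) ∧ ∀ g : G, Commute g y → ∀ A ∈ Fx D y, ∀ B ∈ Fx D y, ∀ E ∈ Fx D y,
    A ≠ B → B ≠ E → A ≠ E → g ∈ Nm A → g ∈ Nm B → g ∈ Nm E → g ∈ zpowers y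
def N2zStmt : Prop := ∀ {G : Type u} [Group G] [Finite G] (D : Set (Subgroup G))
  (A B : Subgroup G) (y : G), N2 D A B y → ZS D y
def N2Stmt : Prop := ∀ {G : Type u} [Group G] [Finite G] (D : Set (Subgroup G))
  (A B : Subgroup G), Pr D A B → Odd (Nat.card (Ct (A ⊔ B))) → E1 A B

def WStmt : Prop := ∀ {G : Type u} [Group G] [Finite G] (D : Set (Subgroup G))
  (A B : Subgroup G), N3 D A B → ∃ W l, WS A W l
def WKStmt : Prop := ∀ {G : Type u} [Group G] [Finite G] (D : Set (Subgroup G))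
  (A B W : Subgroup G) (l : ℕ), Pr D A B → WS A W l →
  (∀ k ∈ W, k ∈ Ct (A ⊔ B) → k ≠ 1 → Mixed D A B k) ∧
  (W ⊓ Ct (A ⊔ B) = ⊥ → ∀ g ∈ Nm A, g ∈ Nm B → ∀ w ∈ W, g * w * g⁻¹ * w⁻¹ ∈ A →
    w ∈ A ∨ ∃ B' ∈ D, ¬ B' ≤ A ⊔ B ∧ g ∈ Nm (A ⊔ B')) ∧
  (W ⊓ Ct (A ⊔ B) = ⊥ → ∀ k ∈ Ct (A ⊔ B), k ≠ 1 → ∀ w ∈ W, Commute w k → w ∈ A)
def N3TStmt : Prop := ∀ {G : Type u} [Group G] [Finite G] (D : Set (Subgroup G))
  (A B R U : Subgroup G) (r : ℕ), N3 D A B → r.Prime → Syl r R (Ct (A ⊔ B)) → R ≠ ⊥ → IsCyclic R →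
  (∀ n ∈ Ct (A ⊔ B), n ∈ Nm R → n ∈ Ct R) → Syl r U (A ⊔ B) → IsCyclic U →
  Nm (R ⊔ U) ≤ Nm (A ⊔ B) → False
def N3rStmt : Prop := ∀ {G : Type u} [Group G] [Finite G] (D : Set (Subgroup G))
  (A B R : Subgroup G) (x : G), N3 D A B → Syl 3 R (Ct (A ⊔ B)) → R ≠ ⊥ →
  (∀ k ∈ Ct (A ⊔ B), orderOf k = 3 → ∀ c ∈ Ct (A ⊔ B), Commute c k) → x ∈ A ⊔ B → orderOf x = 3 →
  Nm (R ⊔ zpowers x) ≤ Nm (A ⊔ B) ∨ Nat.card (Ct (A ⊔ B)) = 3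
def N3eStmt : Prop := ∀ {G : Type u} [Group G] [Finite G] (D : Set (Subgroup G))
  (A B R : Subgroup G), Pr D A B → (∀ k, ¬ Mixed D A B k) → R ≤ Ct (A ⊔ B) → R ≠ ⊥ →
  IsPGroup 11 R → Nm (R ⊔ A) ≤ Nm (A ⊔ B)
def N3aStmt : Prop := ∀ {G : Type u} [Group G] [Finite G] (D : Set (Subgroup G))
  (A B : Subgroup G), N3 D A B → ∃ k, Mixed D A B k
def N3nStmt : Prop := ∀ {G : Type u} [Group G] [Finite G] (D : Set (Subgroup G))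
  (A B : Subgroup G) (k : G), N3 D A B → Mixed D A B k →
  ∀ n ∈ Ct (A ⊔ B), n ∈ Nm (zpowers k) → n ∈ zpowers k
def N3bStmt : Prop := ∀ {G : Type u} [Group G] [Finite G] (D : Set (Subgroup G))
  (A B : Subgroup G) (k : G), N3 D A B → Mixed D A B k → False

def N41Stmt : Prop := ∀ {G : Type u} [Group G] [Finite G] (D : Set (Subgroup G))
  (A B : Subgroup G), Pr D A B → Even (Nat.card (Ct (A ⊔ B))) → R1 (Ct A)
def N42Stmt : Prop := ∀ {G : Type u} [Group G] [Finite G] (D : Set (Subgroup G))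
  (A B : Subgroup G), Pr D A B → Even (Nat.card (Ct (A ⊔ B))) →
  ∃ A' ∈ D, ∃ B' ∈ D, A' ≠ B' ∧ A' ⊔ B' ≠ A ⊔ B ∧ ∃ k ∈ Ct (A ⊔ B), ∃ s ∈ A ⊔ B,
    k * k = 1 ∧ orderOf s = 2 ∧ k * s ∈ Ct (A' ⊔ B')
def N4xStmt : Prop := ∀ {G : Type u} [Group G] [Finite G] (D : Set (Subgroup G))
  (A B A' B' : Subgroup G) (t u x w : G), Pr D A B → Pr D A' B' → A' ⊔ B' ≠ A ⊔ B →
  t ∈ Ct (A ⊔ B) → orderOf t = 2 → u ∈ Ct (A' ⊔ B') → orderOf u = 2 →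
  (∀ c ∈ Ct (A ⊔ B), Commute c t → Commute c u) → x ∈ A ⊔ B → w ∈ A ⊔ B → orderOf x = 3 →
  orderOf w = 2 → w * x * w⁻¹ = x⁻¹ → Commute x u → Commute w u → x ∉ Ct (A' ⊔ B')
def N43Stmt : Prop := ∀ {G : Type u} [Group G] [Finite G] (D : Set (Subgroup G))
  (A B : Subgroup G), Pr D A B → Even (Nat.card (Ct (A ⊔ B))) → ∃ t, SC (Ct (A ⊔ B)) t
def N44Stmt : Prop := ∀ {G : Type u} [Group G] [Finite G] (D : Set (Subgroup G))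
  (A B : Subgroup G) (t : G), Pr D A B → SC (Ct (A ⊔ B)) t → ∃ O, OS A O t
def N45Stmt : Prop := ∀ {G : Type u} [Group G] [Finite G] (D : Set (Subgroup G))
  (A B O : Subgroup G) (t : G), Pr D A B → SC (Ct (A ⊔ B)) t → OS A O t →
  Ct (A ⊔ B) = zpowers t
def N6zStmt : Prop := ∀ {G : Type u} [Group G] [Finite G] (D : Set (Subgroup G))
  (A B O : Subgroup G) (t y : G), N6 D A B O t y → ZS D y ∧
  (Fx D y).ncard = Nat.card (O ⊓ C1 y : Subgroup G) + 1 ∧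
  Nat.card (C1 y ⊓ (Nm A ⊓ Nm B) : Subgroup G) = 20 ∧ Nat.card O = D.ncard - 1
def N6aStmt : Prop := ∀ {G : Type u} [Group G] [Finite G] (D : Set (Subgroup G))
  (A B O : Subgroup G) (t y : G), N6 D A B O t y →
  Nat.card (O ⊓ C1 y : Subgroup G) = 1 ∨ Nat.card (O ⊓ C1 y : Subgroup G) = 11
def N6cStmt : Prop := ∀ {G : Type u} [Group G] [Finite G] (D : Set (Subgroup G))
  (A B O : Subgroup G) (t y : G), N6 D A B O t y → D.ncard ≠ 1332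
def N6Stmt : Prop := ∀ {G : Type u} [Group G] [Finite G] (D : Set (Subgroup G))
  (A B O : Subgroup G) (t y : G), N6 D A B O t y → False

/-! ## the pieces: reduction -/

def SimStmt : Prop := ∀ {G : Type u} [Group G] [Finite G] (D : Set (Subgroup G)), Min D →
  IsL (⊤ : Subgroup G) ∨ IsJ (⊤ : Subgroup G)
def R1Stmt : Prop := ∀ {G : Type u} [Group G] [Finite G] (D : Set (Subgroup G)), Cls D →
  sSup D = ⊤ → ∀ N : Subgroup G, N.Normal → N = ⊤ ∨ N ≤ center G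
def R2Stmt : Prop := ∀ {G : Type u} [Group G] [Finite G] (D : Set (Subgroup G)), Cls D →
  sSup D = ⊤ → (Cls ((fun A => A.map (QuotientGroup.mk' (center G))) '' D) ∧
    sSup ((fun A => A.map (QuotientGroup.mk' (center G))) '' D) = ⊤) ∧
  (IsL (⊤ : Subgroup (G ⧸ center G)) ∨ IsJ (⊤ : Subgroup (G ⧸ center G)) → center G = ⊥)
def R3Stmt : Prop := ∀ {G : Type u} [Group G] [Finite G] (D : Set (Subgroup G)) (X : Subgroup G),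
  Cls D → ∀ A ∈ D, ∀ B ∈ D, A ≠ B → A ≤ X → B ≤ X →
  Cls {E : Subgroup (gen D X) | E.map (gen D X).subtype ∈ D} ∧
    sSup {E : Subgroup (gen D X) | E.map (gen D X).subtype ∈ D} = ⊤
def MainStmt : Prop := ∀ {G : Type u} [Group G] [Finite G] (D : Set (Subgroup G)), Cls D →
  sSup D = ⊤ → IsL (⊤ : Subgroup G) ∨ IsJ (⊤ : Subgroup G)

end Cfsg.Agent.H11.EL
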