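import Cfsg.Agent.H10.CyN41
import Cfsg.Agent.H11.CyLa
import Cfsg.Agent.H12.CyAd
import Cfsg.Agent.H13.CyN3n
import Cfsg.Agent.H14.CyN44
import Cfsg.Agent.H16.CyTi2
import Cfsg.Agent.H20.CyLw
import Cfsg.Agent.H24.CyB3
import Cfsg.Agent.H27.LpB2a
import Cfsg.Agent.H28.LpFs
import Cfsg.Agent.H29.LpN7
import Cfsg.Agent.H30.CyLpNe
import Cfsg.Agent.H33.CyRes
import Cfsg.Agent.H35.CgAll
import Cfsg.Agent.H37.LpB1
import Cfsg.Agent.H40.LpN3b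
import Cfsg.Agent.H43.CyAc
import Cfsg.Agent.H43.CyNs
import Cfsg.Agent.H47.LpAa
import Cfsg.Agent.H47.LpAb
import Cfsg.Agent.H49.LpTe
import Cfsg.Agent.H5.LpN45
import Cfsg.Agent.H52.CyB4
import Cfsg.Agent.H53.LpMm
import Cfsg.Agent.H54.CyN1
import Cfsg.Agent.H55.LpSub
import Cfsg.Agent.H62.CyAe
import Cfsg.Agent.H65.CyLt
import Cfsg.Agent.H66.CyNu
import Cfsg.Agent.H67.CyN6
import Cfsg.Agent.H68.LpN2a
import Cfsg.Agent.H70.LpLv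
import Cfsg.Agent.H71.CyT1
import Cfsg.Agent.H74.LpN3c
import Cfsg.Agent.H75.CyN2
import Cfsg.Agent.H77.CyTip
import Cfsg.Agent.H79.CyLA
import Cfsg.Agent.H8.CyN43
import Cfsg.Agent.H83.CyWk
import Cfsg.Agent.H84.LpN5
import Cfsg.Agent.H85.LpB0
import Cfsg.Agent.H87.CyLpSp
import Cfsg.Agent.H88.CyLpAb
import Cfsg.Agent.H89.CyLpW
import Cfsg.Agent.H9.CyNg
import Cfsg.Agent.H95.CyLc
import Cfsg.Agent.S0111

/-! Project CY, chapter LP: all pieces together. -/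

set_option autoImplicit false

namespace Cfsg.Agent.H11.Cy.Lp

theorem p_LA : LAStmt := _root_.Cfsg.Agent.H79.CyLA.la 
theorem p_LC : LCStmt := _root_.Cfsg.Agent.H11.Cy.Lp.Lc.lc 
theorem p_MM : MMStmt := _root_.Cfsg.Agent.H53.LpMm.mm 
theorem p_LT : LTStmt := _root_.Cfsg.Agent.H65.CyLt.lt p_MM
theorem p_LV : LVStmt := _root_.Cfsg.Agent.H70.LpLv.lv 
theorem p_LW : LWStmt := _root_.Cfsg.Agent.H20.CyLw.lw 
theorem p_NG : NGStmt := _root_.Cfsg.Agent.H9.CyNg.ng 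
theorem p_NS : NSStmt := _root_.Cfsg.Agent.H43.CyNs.ns 
theorem p_Sub : SubStmt := _root_.Cfsg.Agent.H55.LpSub.sub _root_.Cfsg.Agent.H33.CyRes.res
theorem p_TI2 : TI2Stmt := _root_.Cfsg.Agent.H16.CyTi2.ti2 
theorem p_TIp : TIpStmt := _root_.Cfsg.Agent.H77.CyTip.tip 
theorem p_TE : TEStmt := _root_.Cfsg.Agent.H49.LpTe.te 
theorem p_B0 : B0Stmt := _root_.Cfsg.Agent.H85.LpB0.b0 
theorem p_B1 : B1Stmt := _root_.Cfsg.Agent.H37.LpB1.b1 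
theorem p_B2 : B2Stmt := _root_.Cfsg.Agent.H27.LpB2a.b2 p_B0
theorem p_B3 : B3Stmt := _root_.Cfsg.Agent.H24.CyB3.b3 
theorem p_B4 : B4Stmt := _root_.Cfsg.Agent.H52.CyB4.b4 p_B0
theorem p_N1 : N1Stmt := _root_.Cfsg.Agent.H54.CyN1.n1 
theorem p_NE : NEStmt := _root_.Cfsg.Agent.H30.CyLpNe.ne 
theorem p_SP : SPStmt := _root_.Cfsg.Agent.H87.CyLpSp.sp 
theorem p_N2a : N2aStmt := _root_.Cfsg.Agent.H68.LpN2a.n2a 
theorem p_N2 : N2Stmt := _root_.Cfsg.Agent.H75.CyN2.n2 p_N2a p_SP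
theorem p_FS : FSStmt := _root_.Cfsg.Agent.H28.LpFs.fs 
theorem p_T1 : T1Stmt := _root_.Cfsg.Agent.H71.CyT1.t1 
theorem p_W : WStmt := _root_.Cfsg.Agent.H89.CyLpW.w 
theorem p_WK : WKStmt := _root_.Cfsg.Agent.H83.CyWk.wk 
theorem p_AB : ABStmt := _root_.Cfsg.Agent.H88.CyLpAb.ab 
theorem p_NU : NUStmt := _root_.Cfsg.Agent.H66.CyNu.nu 
theorem p_N3n : N3nStmt := _root_.Cfsg.Agent.H13.CyN3n.n3n 
theorem p_N3b : N3bStmt := _root_.Cfsg.Agent.H40.LpN3b.n3b p_W p_WK p_AB p_NU p_N3n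
theorem p_N3c : N3cStmt := _root_.Cfsg.Agent.H74.LpN3c.n3c 
theorem p_N41 : N41Stmt := _root_.Cfsg.Agent.H10.CyN41.n41 
theorem p_N43 : N43Stmt := _root_.Cfsg.Agent.H8.CyN43.n43 p_N41
theorem p_N44 : N44Stmt := _root_.Cfsg.Agent.H14.CyN44.n44 
theorem p_N45 : N45Stmt := _root_.Cfsg.Agent.H5.LpN45.n45 
theorem p_N5 : N5Stmt := _root_.Cfsg.Agent.H84.LpN5.n5 p_SP
theorem p_N6 : N6Stmt := _root_.Cfsg.Agent.H67.CyN6.n6 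
theorem p_N7 : N7Stmt := _root_.Cfsg.Agent.H29.LpN7.n7 p_N2a
theorem p_Aa : AaStmt := _root_.Cfsg.Agent.H47.LpAa.aa 
theorem p_Ab : AbStmt := _root_.Cfsg.Agent.H47.LpAb.ab 
theorem p_Ac : AcStmt := _root_.Cfsg.Agent.H43.CyAc.ac 
theorem p_Ad : AdStmt := _root_.Cfsg.Agent.H12.CyAd.ad 
theorem p_Ae : AeStmt := _root_.Cfsg.Agent.H62.CyAe.ae 
theorem p_A : AStmt := a_of p_Aa p_Ab p_Ac p_Ad p_Ae
  fun P Q h1 h2 u h3 h4 h5 => Cfsg.Agent.S0111.result P Q h1 h2 u h3 h4 h5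

theorem lpAll : LpStmt :=
  lp Cfsg.Agent.H35.Cg.cgAll p_LA p_LC p_LT p_LV p_LW p_NG p_NS p_Sub p_TI2 p_TIp p_TE p_A p_B0 p_B1
    p_B2 p_B3 p_B4 p_N1 p_NE p_N2 p_FS p_T1 p_N3b p_N3c p_N43 p_N44 p_N45 p_N5 p_N6 p_N7

end Cfsg.Agent.H11.Cy.Lp
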