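import Cfsg.Agent.H78.G40B

/-! Project L40G, piece CV1. -/

set_option autoImplicit false

namespace Cfsg.Agent.H11.G40Cv1

open Subgroup Cfsg.Agent.H83 Cfsg.Agent.H46.L40 Cfsg.Agent.H78.G40

universe u

local notation "C[" A "]" => Subgroup.centralizer (SetLike.coe A)
local notation "N[" A "]" => Subgroup.normalizer (SetLike.coe A)

theorem key {A : Type*} [CommGroup A] [Finite A] (H : Subgroup (MulAut A)) (hodd : Odd (Nat.card H))
    (τ : MulAut A) (hτ : ∀ h ∈ H, τ * h * τ⁻¹ ∈ H) (el : ∀ y : A, y * y = 1) (V : Subgroup A)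
    (hV : ∀ h ∈ H, ∀ v ∈ V, h v = v) (c16 : Nat.card A = 16) (c4 : 4 ≤ Nat.card V)
    (tv : ∀ y, y⁻¹ * τ y ∈ V) (tV : ∀ v ∈ V, τ v = v) (nt : ∃ y, τ y ≠ y) :
    ∀ h ∈ H, ∀ y, h y = y := by
  classical
  have : Fintype H := Fintype.ofFinite H
  let π : A →* A :=
    { toFun := fun y => ∏ h : H, (h : MulAut A) y
      map_one' := by simp
      map_mul' := fun x y => by simp [Finset.prod_mul_distrib] }
  have πd : ∀ y, π y = ∏ h : H, (h : MulAut A) y := fun _ => rfl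
  have p1 : ∀ h0 ∈ H, ∀ y, π (h0 y) = π y := fun h0 hh y => by
    rw [πd, πd]
    exact Fintype.prod_equiv (Equiv.mulRight (⟨h0, hh⟩ : H)) _ _ fun h => rfl
  have p2 : ∀ h0 ∈ H, ∀ y, h0 (π y) = π y := fun h0 hh y => by
    rw [πd, map_prod]
    exact Fintype.prod_equiv (Equiv.mulLeft (⟨h0, hh⟩ : H)) _ _ fun h => rfl
  have p3 : ∀ y, (∀ h ∈ H, h y = y) → π y = y := fun y hy => by
    rw [πd, Finset.prod_congr rfl fun (h : H) _ => hy h h.2, Finset.prod_const, Finset.card_univ,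
      ← Nat.card_eq_fintype_card]
    obtain ⟨k, hk⟩ := hodd
    rw [hk, pow_succ, pow_mul, pow_two, el, one_pow, one_mul]
  have p4 : ∀ y, τ (π y) = π (τ y) := fun y => by
    rw [πd, πd, map_prod]
    let c : H → H := fun h => ⟨τ * h * τ⁻¹, hτ h h.2⟩
    have ci : Function.Injective c := fun a b e => by
      have := congrArg Subtype.val e
      simp only [c, mul_left_inj, mul_right_inj] at this
      exact Subtype.ext this
    refine Fintype.prod_bijective c (Finite.injective_iff_bijective.1 ci) _ _ fun h => ?_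
    simp [c]
  have p5 : ∀ y ∈ π.ker, τ y = y := fun y hy => by
    have hy' : π y = 1 := hy
    have e1 : π (y⁻¹ * τ y) = 1 := by rw [map_mul, map_inv, ← p4, hy', map_one, inv_one, one_mul]
    rw [p3 _ fun h hh => hV h hh _ (tv y)] at e1
    exact (inv_mul_eq_one.1 e1).symm
  have p6 : ∀ y, (π y)⁻¹ * y ∈ π.ker := fun y => by
    rw [MonoidHom.mem_ker, map_mul, map_inv, p3 (π y) fun h hh => p2 h hh y, inv_mul_cancel]
  have hVr : V ≤ π.range := fun v hv => ⟨v, p3 v fun h hh => hV h hh v hv⟩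
  have hc : Nat.card π.ker * Nat.card π.range = 16 := by
    rw [← c16, ← Subgroup.index_ker, Subgroup.card_mul_index]
  have h4 : 4 ≤ Nat.card π.range := c4.trans (card_le_of_le hVr)
  by_contra hne
  push Not at hne
  obtain ⟨h, hh, y, hy⟩ := hne
  have w1 : h ((π y)⁻¹ * y) ≠ (π y)⁻¹ * y := fun e => by
    rw [map_mul, map_inv, p2 h hh] at e
    exact hy (mul_left_cancel e)
  have wk : h ((π y)⁻¹ * y) ∈ π.ker := by
    rw [MonoidHom.mem_ker, p1 h hh]; exact p6 y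
  have w0 : (π y)⁻¹ * y ≠ 1 := fun e => w1 (by rw [e, map_one])
  have w2 : h ((π y)⁻¹ * y) ≠ 1 := fun e => w0 ((map_eq_one_iff h h.injective).1 e)
  have k1 : Nat.card π.ker ≠ 1 := fun e => w0 (by
    have := (Subgroup.card_eq_one.1 e) ▸ p6 y
    simpa using this)
  have k2 : Nat.card π.ker ≠ 2 := fun e => by
    obtain ⟨x, -, hx⟩ := (Nat.card_eq_two_iff' (1 : π.ker)).1 e
    have a1 := hx ⟨_, p6 y⟩ fun e => w0 (congrArg Subtype.val e)
    have a2 := hx ⟨_, wk⟩ fun e => w2 (congrArg Subtype.val e)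
    exact w1 (congrArg Subtype.val (a2.trans a1.symm))
  have k4 : Nat.card π.range ≤ 4 := by
    generalize Nat.card π.ker = a at *
    generalize Nat.card π.range = b at *
    have : a ≤ 4 := by nlinarith
    interval_cases a <;> omega
  have eq : V = π.range := eq_of_le_of_card_ge hVr (k4.trans c4)
  obtain ⟨x, hx⟩ := nt
  apply hx
  have a1 := p5 _ (p6 x)
  rw [map_mul, map_inv, tV (π x) (eq ▸ ⟨x, rfl⟩)] at a1
  exact mul_left_cancel a1

/-- Burnside's normal complement theorem -/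
theorem nc2 {G : Type u} [Group G] [Finite G] {N A : Subgroup G} (h : IsSylowIn 2 A N)
    (hc : ∀ n ∈ N, n ∈ N[A] → n ∈ C[A]) : NC2 N := by
  have : Fact (Nat.Prime 2) := ⟨Nat.prime_two⟩
  have hP : normalizer ((h.toSylow : Subgroup N) : Set N) ≤
      centralizer ((h.toSylow : Subgroup N) : Set N) := by
    intro n hn
    have h1 : (n : G) ∈ N[A] := by
      rw [mem_normalizer_iff] at hn ⊢
      intro a
      constructor
      · intro ha
        exact (hn ⟨a, h.le ha⟩).1 ha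
      · intro ha
        have haN : a ∈ N := by
          have := N.mul_mem (N.mul_mem (N.inv_mem n.2) (h.le ha)) n.2
          simpa [mul_assoc] using this
        exact (hn ⟨a, haN⟩).2 ha
    have h2 := hc n n.2 h1
    intro a ha
    exact Subtype.ext (h2 a ha)
  refine ⟨(MonoidHom.transferSylow h.toSylow hP).ker.map N.subtype, map_subtype_le _, ?_, ?_⟩
  · rw [card_map_of_injective N.subtype_injective]
    have := MonoidHom.not_dvd_card_ker_transferSylow h.toSylow hP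
    exact Nat.not_even_iff_odd.1 fun e => this e.two_dvd
  · intro x hx ho
    refine ⟨⟨x, hx⟩, ?_, rfl⟩
    rw [SetLike.mem_coe, MonoidHom.mem_ker]
    set y := MonoidHom.transferSylow h.toSylow hP ⟨x, hx⟩
    have d1 : orderOf y ∣ orderOf x := by
      have := orderOf_map_dvd (MonoidHom.transferSylow h.toSylow hP) ⟨x, hx⟩
      rwa [← Subgroup.orderOf_coe (⟨x, hx⟩ : N)] at this
    obtain ⟨k, hk⟩ := h.toSylow.isPGroup' y
    have d2 : orderOf y ∣ 2 ^ k := orderOf_dvd_of_pow_eq_one hk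
    have : Nat.Coprime (2 ^ k) (orderOf x) := Nat.Coprime.pow_left _ (Nat.coprime_two_left.2 ho)
    exact orderOf_eq_one_iff.1 (Nat.eq_one_of_dvd_coprimes this d2 d1)

theorem V0_comm : V0 ≤ C[V0] := by
  rw [V0, closure_le, centralizer_closure]
  rintro x (rfl | rfl) y (rfl | rfl) <;> decide +kernel

theorem V0_card : 4 ≤ Nat.card V0 := by
  have hz : z0 ∈ V0 := subset_closure (by simp)
  have ha : a0 ∈ V0 := subset_closure (by simp)
  let f : Fin 4 → V0 := ![1, ⟨z0, hz⟩, ⟨a0, ha⟩, ⟨z0 * a0, V0.mul_mem hz ha⟩]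
  let g : Fin 4 → S3 := ![1, z0, a0, z0 * a0]
  have hg : Function.Injective g := by decide +kernel
  have hf : Function.Injective f := fun i j e => hg (by
    have : ∀ i, (f i : S3) = g i := fun i => by fin_cases i <;> rfl
    rw [← this, ← this, e])
  simpa using Nat.card_le_card_of_injective f hf

theorem norm_inf {G : Type u} [Group G] {A B : Subgroup G} {t : G} (h1 : t ∈ N[A]) (h2 : t ∈ N[B]) :
    t ∈ N[(A ⊓ B : Subgroup G)] := by
  rw [mem_normalizer_iff] at *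
  intro x
  exact and_congr (h1 x) (h2 x)

theorem cv1 : Cv1S.{u} := by
  intro kit dih oddi cvg X _ e σ τ θ F G _ _ S ψ T
  have : Fact (Nat.Prime 2) := ⟨Nat.prime_two⟩
  have hV : S.V = (V0.map e).map ψ := by
    have : ψ.comp e = S.φ := MonoidHom.ext fun m => T.he m
    rw [map_map, this]
  set A : Subgroup G := C[V0.map e].map ψ with hAd
  have memA : ∀ g, g ∈ A ↔ g ∈ S.R ∧ g ∈ C[S.V] := fun g => by
    rw [← T.rg, hV]
    constructor
    · rintro ⟨x, hx, rfl⟩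
      refine ⟨⟨x, rfl⟩, ?_⟩
      rintro _ ⟨v, hv, rfl⟩
      rw [← map_mul, ← map_mul, hx v hv]
    · rintro ⟨⟨x, rfl⟩, hx⟩
      refine ⟨x, fun v hv => T.inj ?_, rfl⟩
      rw [map_mul, map_mul]
      exact hx _ ⟨v, hv, rfl⟩
  have el : ∀ y ∈ A, y * y = 1 := by
    rintro _ ⟨x, hx, rfl⟩
    rw [← map_mul, F.el x hx, map_one]
  have hNA : S.X ⊓ C[S.V] ⊓ S.R = A := by
    ext g
    rw [memA]
    exact ⟨fun h => ⟨h.2, h.1.2⟩, fun h => ⟨⟨S.fn.le h.1, h.2⟩, h.1⟩⟩
  have tt : S.t * S.t = 1 := S.fn.tt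
  have ti : S.t⁻¹ = S.t := inv_eq_of_mul_eq_one_right tt
  have tC : S.t ∈ C[S.V] := by
    rintro _ ⟨m, -, rfl⟩
    exact (S.tL m).symm
  have tN : S.t ∈ N[(S.X ⊓ C[S.V] : Subgroup G)] :=
    norm_inf (by have := S.Xn; rw [normalizer_eq_top]; trivial) (le_normalizer tC)
  have tA : S.t ∈ N[A] := hNA ▸ norm_inf tN S.fn.tN
  have A2 : IsPGroup 2 A := fun y => ⟨1, Subtype.ext (by
    simpa [pow_two] using el y y.2)⟩
  have syl : IsSylowIn 2 A (S.X ⊓ C[S.V]) :=
    (dih G S.R S.X S.t S.fn _ inf_le_left tN).1 A tA (hNA ▸ IsSylowIn.self (hNA ▸ A2))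
  refine cvg kit dih oddi G S (nc2 syl ?_) fun r hr hc =>
    ⟨1, by simpa [pow_two] using el r ((memA r).2 ⟨hr, hc⟩)⟩
  have cm : ∀ x ∈ A, ∀ y ∈ A, x * y = y * x := fun x hx y hy => by
    have i : ∀ x ∈ A, x⁻¹ = x := fun x hx => inv_eq_of_mul_eq_one_right (el x hx)
    rw [← i _ (A.mul_mem hx hy), mul_inv_rev, i x hx, i y hy]
  let _ : CommGroup A :=
    { (inferInstance : Group A) with mul_comm := fun x y => Subtype.ext (cm x x.2 y y.2) }
  have VA : S.V ≤ A := by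
    rw [hV]
    refine map_mono ?_
    rintro _ ⟨v, hv, rfl⟩ _ ⟨w, hw, rfl⟩
    rw [← map_mul, ← map_mul, V0_comm hv w hw]
  let f := A.normalizerMonoidHom
  have fd : ∀ (n : N[A]) (y : A), ((f n y : A) : G) = n * y * (n : G)⁻¹ := fun _ _ => rfl
  let H : Subgroup (MulAut A) := ((S.X ⊓ C[S.V]).subgroupOf N[A]).map f
  have hodd : Odd (Nat.card H) := by
    refine Nat.not_even_iff_odd.1 fun ev => ?_
    obtain ⟨⟨_, n, hn, rfl⟩, ho⟩ := exists_prime_orderOf_dvd_card' 2 ev.two_dvd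
    rw [← Subgroup.orderOf_coe] at ho
    change orderOf (f n) = 2 at ho
    obtain ⟨k, m, hm, hk⟩ := Nat.exists_eq_two_pow_mul_odd (orderOf_pos (n : G)).ne'
    have h1 : (n : G) ^ m ∈ A := syl.mem_of_norm (pow_mem hn m) (k := k)
      (by rw [← pow_mul, mul_comm, ← hk, pow_orderOf_eq_one]) (pow_mem n.2 m)
    have h2 : f n ^ m = 1 := by
      rw [← map_pow]
      ext y
      rw [fd]
      change (n : G) ^ m * y * ((n : G) ^ m)⁻¹ = y
      rw [cm _ h1 _ y.2, mul_inv_cancel_right]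
    have := orderOf_dvd_of_pow_eq_one h2
    rw [ho] at this
    exact (Nat.not_even_iff_odd.2 hm) (even_iff_two_dvd.2 this)
  have K := key H hodd (f ⟨S.t, tA⟩) ?_ (fun y => Subtype.ext (el y y.2)) (S.V.subgroupOf A) ?_ ?_ ?_ ?_ ?_ ?_
  · intro n hn hnA y hy
    have := congrArg Subtype.val (K (f ⟨n, hnA⟩) ⟨⟨n, hnA⟩, hn, rfl⟩ ⟨y, hy⟩)
    rw [fd] at this
    exact (mul_inv_eq_iff_eq_mul.1 this).symm
  · rintro _ ⟨n, hn, rfl⟩
    refine ⟨⟨S.t, tA⟩ * n * ⟨S.t, tA⟩⁻¹, ?_, by rw [map_mul, map_mul, map_inv]⟩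
    exact (mem_normalizer_iff.1 tN n).1 hn
  · rintro _ ⟨n, hn, rfl⟩ v hv
    refine Subtype.ext ?_
    have h2 : (v : G) * n = n * v := hn.2 v hv
    rw [fd, ← h2, mul_inv_cancel_right]
  · rw [hAd, card_map_of_injective T.inj, F.c16]
  · rw [Nat.card_congr (subgroupOfEquivOfLe VA).toEquiv, card_map_of_injective S.inj]
    exact V0_card
  · rintro ⟨_, x, hx, rfl⟩
    change (ψ x)⁻¹ * (S.t * ψ x * S.t⁻¹) ∈ S.V
    rw [ti, T.ht, ← map_inv, ← map_mul, hV]
    exact ⟨_, F.tv x hx, rfl⟩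
  · intro v hv
    refine Subtype.ext ?_
    rw [fd]
    change S.t * v * S.t⁻¹ = v
    rw [← tC v hv, mul_inv_cancel_right]
  · obtain ⟨x, hx, hn⟩ := F.nt
    refine ⟨⟨ψ x, x, hx, rfl⟩, fun h => hn (T.inj ?_)⟩
    have := congrArg Subtype.val h
    rw [fd] at this
    change S.t * ψ x * S.t⁻¹ = ψ x at this
    rwa [ti, T.ht] at this

end Cfsg.Agent.H11.G40Cv1
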