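import Mathlib
import Cfsg.Agent.H89.Cj2
import Cfsg.Agent.H46.Mat

/-!
# The centraliser of a transvection of `SL(5, 2)`, coded by numbers
-/

set_option autoImplicit false
set_option maxRecDepth 100000
set_option exponentiation.threshold 20000

namespace Cfsg.Agent.H11.Hd

open Cfsg.Agent.H89.TG Cfsg.Agent.H89.Rec Cfsg.Agent.H46

/-- The product of two coded `5 × 5` matrices over the field with two elements. -/
noncomputable def mu (A B : ℕ) : ℕ :=
  Nat.rec (motive := fun _ => ℕ) (nat_lit 0) (fun a _ =>
  Nat.rec (motive := fun _ => ℕ) (nat_lit 0) (fun b _ =>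
  Nat.xor (Nat.xor (Nat.xor (Nat.xor
    (Nat.mul (Nat.land a (nat_lit 31)) (Nat.land b (nat_lit 0x108421)))
    (Nat.mul (Nat.land (Nat.shiftRight a (nat_lit 5)) (nat_lit 31))
      (Nat.land (Nat.shiftRight b (nat_lit 1)) (nat_lit 0x108421))))
    (Nat.mul (Nat.land (Nat.shiftRight a (nat_lit 10)) (nat_lit 31))
      (Nat.land (Nat.shiftRight b (nat_lit 2)) (nat_lit 0x108421))))
    (Nat.mul (Nat.land (Nat.shiftRight a (nat_lit 15)) (nat_lit 31))
      (Nat.land (Nat.shiftRight b (nat_lit 3)) (nat_lit 0x108421))))
    (Nat.mul (Nat.land (Nat.shiftRight a (nat_lit 20)) (nat_lit 31))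
      (Nat.land (Nat.shiftRight b (nat_lit 4)) (nat_lit 0x108421)))) (Nat.succ B)) (Nat.succ A)

/-- The code of the identity matrix. -/
def ONE : ℕ := nat_lit 0x1041041

theorem mu_eq (A B : ℕ) : mu A B = accX 1 5 (cmask 1 1 5) (smask 1 1 5 5) A B 5 := by
  have h1 : cmask 1 1 5 = 31 := by decide
  have h2 : smask 1 1 5 5 = 0x108421 := by decide
  rw [h1, h2]
  have : accX 1 5 31 0x108421 A B 1 = Nat.mul (Nat.land A 31) (Nat.land B 0x108421) :=
    Nat.zero_xor _
  rw [accX_succ, accX_succ, accX_succ, accX_succ, this]
  rfl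

/-- The numbering of rows and columns. -/
def ei : Fin 5 ≃ Fin 5 := ⟨![0, 4, 1, 2, 3], ![0, 2, 3, 4, 1], by decide, by decide⟩

/-- Matrices. -/
abbrev Mat : Type := Matrix (Fin 5) (Fin 5) (ZMod 2)

/-- The group `SL(5, 2)`. -/
abbrev SL5 : Type := Matrix.SpecialLinearGroup (Fin 5) (ZMod 2)

/-- The matrix with a given code. -/
def dec (a : ℕ) : Mat := decM (fun a : ℕ => (a : ZMod 2)) 1 ei a

theorem canon {a : ℕ} (h : a < 2 ^ 25) : Canon 1 2 (5 * 5) a := ⟨h, fun l _ => lane_lt 1 a l⟩

theorem mu_lt {a b : ℕ} (ha : a < 2 ^ 25) (hb : b < 2 ^ 25) : mu a b < 2 ^ 25 := by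
  rw [mu_eq]; exact (mulSpec_F2 (n := 5) (m := 5) (by norm_num) a b (canon ha) (canon hb)).1.1

theorem dec_mu {a b : ℕ} (ha : a < 2 ^ 25) (hb : b < 2 ^ 25) : dec (mu a b) = dec a * dec b := by
  rw [mu_eq]
  exact decM_mul (mulSpec_F2 (n := 5) (m := 5) (by norm_num)) (canon ha) (canon hb)

theorem dec_inj {a b : ℕ} (ha : a < 2 ^ 25) (hb : b < 2 ^ 25) (h : dec a = dec b) : a = b :=
  decM_inj one_pos inj_F2 (canon ha) (canon hb) h

theorem dec_apply (a : ℕ) (i j : Fin 5) :
    dec a i j = if a.testBit (5 * ei j + ei i) then 1 else 0 := by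
  simp only [dec, decM, Matrix.of_apply, lane, one_mul, pow_one, Nat.testBit_eq_decide_div_mod_eq,
    Nat.shiftRight_eq_div_pow]
  rcases Nat.mod_two_eq_zero_or_one (a / 2 ^ (5 * (ei j : ℕ) + ei i)) with h | h <;> simp [h]

theorem dec_ONE : dec ONE = 1 := by
  ext i j; rw [dec_apply]; fin_cases i <;> fin_cases j <;> decide

theorem dec_zero : dec 0 = 0 := by
  ext i j; rw [dec_apply]; simp

theorem ONE_lt : ONE < 2 ^ 25 := by decide

/-- The code of a matrix. -/
def cdM (A : Mat) : ℕ := pack 1 25 fun l =>
  (A (ei.symm ⟨l % 5, Nat.mod_lt _ (by norm_num)⟩)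
    (ei.symm ⟨l / 5 % 5, Nat.mod_lt _ (by norm_num)⟩)).val

theorem cdM_lt (A : Mat) : cdM A < 2 ^ 25 := pack_lt (w := 1) fun _ _ => ZMod.val_lt _

theorem dec_cdM (A : Mat) : dec (cdM A) = A := by
  ext i j
  have hi := (ei i).2
  have hj := (ei j).2
  simp only [dec, decM, Matrix.of_apply, cdM]
  rw [lane_pack_lt (w := 1) (fun _ _ => ZMod.val_lt _) (by omega), ZMod.natCast_zmod_val]
  congr 1 <;> rw [Equiv.symm_apply_eq] <;> ext <;> simp only <;> omega

theorem exists_code (A : Mat) : ∃ a, a < 2 ^ 25 ∧ dec a = A := ⟨_, cdM_lt A, dec_cdM A⟩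

/-- The code of an element of `SL(5, 2)`. -/
noncomputable def cdS (g : SL5) : ℕ := (exists_code g.1).choose

theorem cdS_lt (g : SL5) : cdS g < 2 ^ 25 := (exists_code g.1).choose_spec.1

theorem dec_cdS (g : SL5) : dec (cdS g) = g.1 := (exists_code g.1).choose_spec.2

theorem cdS_eq {g : SL5} {a : ℕ} (ha : a < 2 ^ 25) (h : dec a = g.1) : cdS g = a :=
  dec_inj (cdS_lt g) ha ((dec_cdS g).trans h.symm)

theorem cdS_mul (g h : SL5) : cdS (g * h) = mu (cdS g) (cdS h) :=
  cdS_eq (mu_lt (cdS_lt g) (cdS_lt h)) (by
    rw [dec_mu (cdS_lt g) (cdS_lt h), dec_cdS, dec_cdS]; rfl)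

theorem cdS_one : cdS 1 = ONE := cdS_eq ONE_lt dec_ONE

theorem cdS_inj {g h : SL5} (e : cdS g = cdS h) : g = h :=
  Subtype.ext (by rw [← dec_cdS, e, dec_cdS])

theorem exists_cdS {a b : ℕ} (ha : a < 2 ^ 25) (hb : b < 2 ^ 25) (h : mu a b = ONE) :
    ∃ g : SL5, cdS g = a ∧ cdS g⁻¹ = b := by
  have h1 := dec_mu ha hb
  rw [h, dec_ONE] at h1
  have hu : ∀ x y : ZMod 2, 1 = x * y → x = 1 ∧ y = 1 := by decide
  have h2 := hu (dec a).det (dec b).det (by rw [← Matrix.det_mul, ← h1, Matrix.det_one])
  let g : SL5 := ⟨dec a, h2.1⟩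
  let k : SL5 := ⟨dec b, h2.2⟩
  refine ⟨g, cdS_eq ha rfl, ?_⟩
  rw [inv_eq_of_mul_eq_one_right (a := g) (b := k) (Subtype.ext h1.symm)]
  exact cdS_eq hb rfl

theorem eq_zero_of_mu (g : SL5) {w : ℕ} (hw : w < 2 ^ 25) (h : mu (cdS g) w = 0) : w = 0 := by
  have h1 := dec_mu (cdS_lt g) hw
  rw [h, dec_zero, dec_cdS] at h1
  refine dec_inj hw (by norm_num) ?_
  have h2 : (g⁻¹).1 * g.1 = 1 := congrArg Subtype.val (inv_mul_cancel g)
  rw [dec_zero, ← one_mul (dec w), ← h2, mul_assoc, ← h1, mul_zero]

/-! ### Enumeration of affine subspaces -/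

/-- The numbers obtained from `a` by flipping bits from `l`. -/
def enum : List ℕ → ℕ → List ℕ
  | [], a => [a]
  | b :: l, a => enum l a ++ enum l (a ^^^ b)

/-- All these numbers pass the test. -/
noncomputable def allX (l : List ℕ) (q : ℕ → Bool) : ℕ → Bool :=
  List.rec (motive := fun _ => ℕ → Bool) q (fun b _ ih a =>
    Nat.rec (motive := fun _ => Bool) true (fun a' _ =>
    Bool.rec (motive := fun _ => Bool) false (ih (Nat.xor a' b)) (ih a')) (Nat.succ a)) l

/-- One of these numbers passes the test. -/
noncomputable def anyX (l : List ℕ) (q : ℕ → Bool) : ℕ → Bool :=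
  List.rec (motive := fun _ => ℕ → Bool) q (fun b _ ih a =>
    Nat.rec (motive := fun _ => Bool) true (fun a' _ =>
    Bool.rec (motive := fun _ => Bool) (ih (Nat.xor a' b)) true (ih a')) (Nat.succ a)) l

/-- The number of these numbers that pass the test. -/
noncomputable def cntX (l : List ℕ) (q : ℕ → Bool) : ℕ → ℕ :=
  List.rec (motive := fun _ => ℕ → ℕ) (fun a => Bool.rec (motive := fun _ => ℕ) 0 1 (q a))
    (fun b _ ih a => Nat.rec (motive := fun _ => ℕ) 0 (fun a' _ =>
      Nat.add (ih a') (ih (Nat.xor a' b))) (Nat.succ a)) l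

theorem allX_iff {l : List ℕ} {q : ℕ → Bool} {a : ℕ} :
    (∀ i, i ∈ enum l a → q i = true) ↔ allX l q a = true := by
  induction l generalizing a with
  | nil => simp [enum, allX]
  | cons b l ih =>
    have : allX (b :: l) q a = band (allX l q a) (allX l q (a ^^^ b)) := rfl
    rw [this, ← band_iff, ← ih, ← ih, enum]
    simp only [List.mem_append, or_imp, forall_and]

theorem anyX_iff {l : List ℕ} {q : ℕ → Bool} {a : ℕ} :
    (∃ i, i ∈ enum l a ∧ q i = true) ↔ anyX l q a = true := by
  induction l generalizing a with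
  | nil => simp [enum, anyX]
  | cons b l ih =>
    have : anyX (b :: l) q a = bor (anyX l q a) (anyX l q (a ^^^ b)) := rfl
    rw [this, ← bor_iff, ← ih, ← ih, enum]
    simp only [List.mem_append, or_and_right, exists_or]

theorem cntX_eq {l : List ℕ} {q : ℕ → Bool} {a : ℕ} : cntX l q a = (enum l a).countP q := by
  induction l generalizing a with
  | nil =>
    have : cntX [] q a = Bool.rec (motive := fun _ => ℕ) 0 1 (q a) := rfl
    rw [this, enum, List.countP_singleton]
    cases q a <;> rfl
  | cons b l ih =>
    have : cntX (b :: l) q a = cntX l q a + cntX l q (a ^^^ b) := rfl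
    rw [this, ih, ih, enum, List.countP_append]

theorem mem_enum {l : List ℕ} {a c : ℕ} (h : ∀ i, 2 ^ i ∉ l → c.testBit i = a.testBit i) :
    c ∈ enum l a := by
  induction l generalizing a with
  | nil => rw [enum, List.mem_singleton]; exact Nat.eq_of_testBit_eq fun i => h i (by simp)
  | cons b l ih =>
    rw [enum, List.mem_append]
    by_cases h1 : ∀ i, 2 ^ i = b → c.testBit i = a.testBit i
    · refine Or.inl (ih fun i hi => ?_)
      by_cases e : 2 ^ i = b
      exacts [h1 i e, h i (by simp [e, hi])]
    · push Not at h1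
      obtain ⟨j, rfl, hj⟩ := h1
      refine Or.inr (ih fun i hi => ?_)
      rw [Nat.testBit_xor, Nat.testBit_two_pow]
      by_cases e : j = i
      · subst e; revert hj; cases c.testBit j <;> cases a.testBit j <;> simp
      · rw [h i (by
          simp only [List.mem_cons, hi, or_false]
          exact fun e' => e (Nat.pow_right_injective le_rfl e').symm)]
        simp [e]

theorem mem_enum_append {l l' : List ℕ} {a c : ℕ} (h : c ∈ enum (l ++ l') a) :
    ∃ L ∈ enum l a, c ∈ enum l' L := by
  induction l generalizing a with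
  | nil => exact ⟨a, by simp [enum], h⟩
  | cons b l ih =>
    rw [List.cons_append, enum, List.mem_append] at h
    rcases h with h | h <;> obtain ⟨L, h1, h2⟩ := ih h
    exacts [⟨L, List.mem_append_left _ h1, h2⟩, ⟨L, List.mem_append_right _ h1, h2⟩]

/-- One entry of a list passes the test. -/
noncomputable def anyL {β : Type} (p : β → Bool) (l : List β) : Bool :=
  List.rec (motive := fun _ => Bool) false
    (fun o _ ih => Bool.rec (motive := fun _ => Bool) ih true (p o)) l

theorem anyL_iff {β : Type} {p : β → Bool} {l : List β} :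
    (∃ o, o ∈ l ∧ p o = true) ↔ anyL p l = true := by
  induction l with
  | nil => simp [anyL]
  | cons o l ih =>
    have : anyL p (o :: l) = bor (p o) (anyL p l) := rfl
    rw [this, ← bor_iff, ← ih]
    simp only [List.mem_cons, exists_eq_or_imp]

/-- `a` agrees with the identity on the bits of `K`. -/
noncomputable def pat (K a : ℕ) : Bool := Nat.beq (Nat.land (Nat.xor a ONE) K) (nat_lit 0)

/-- The bits outside `K` are listed in `l`. -/
noncomputable def patOK (K : ℕ) (l : List ℕ) : Bool :=
  allF (fun i => bor (Nat.testBit K i) (anyL (Nat.beq (Nat.pow 2 i)) l)) 25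

theorem mem_enum_of_pat {K a : ℕ} {l : List ℕ} (h : patOK K l = true) (ha : a < 2 ^ 25)
    (hp : pat K a = true) : a ∈ enum l ONE := by
  refine mem_enum fun i hi => ?_
  by_cases h25 : i < 25
  · have h1 := allF_iff.2 h i h25
    rw [← bor_iff, ← anyL_iff] at h1
    rcases h1 with h1 | ⟨o, ho, e⟩
    · have h2 : (a ^^^ ONE) &&& K = 0 := Nat.eq_of_beq_eq_true hp
      have h3 := congrArg (fun n => Nat.testBit n i) h2
      simp only [Nat.testBit_and, Nat.testBit_xor, h1, Nat.zero_testBit] at h3
      revert h3; cases a.testBit i <;> cases ONE.testBit i <;> simp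
    · exact absurd (by rw [← Nat.eq_of_beq_eq_true e] at ho; exact ho) hi
  · have h2 : 2 ^ 25 ≤ 2 ^ i := Nat.pow_le_pow_right two_pos (by omega)
    rw [Nat.testBit_lt_two_pow (ha.trans_le h2), Nat.testBit_lt_two_pow (ONE_lt.trans_le h2)]

/-! ### The centraliser -/

/-- The transvection. -/
def s0 : SL5 := ⟨Matrix.transvection 0 1 1, Matrix.det_transvection_of_ne _ _ (by decide) _⟩

/-- The centraliser of the transvection. -/
def M : Type := (Subgroup.centralizer {s0} : Subgroup SL5)

instance M.instGroup : Group M :=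
  inferInstanceAs (Group (Subgroup.centralizer {s0} : Subgroup SL5))

instance M.instFinite : Finite M :=
  inferInstanceAs (Finite (Subgroup.centralizer {s0} : Subgroup SL5))

/-- The inclusion. -/
def incl : M →* SL5 := (Subgroup.centralizer {s0} : Subgroup SL5).subtype

theorem incl_inj : Function.Injective incl := Subtype.val_injective

/-- The identification with the centraliser. -/
def eqv : M ≃* (Subgroup.centralizer {s0} : Subgroup SL5) := MulEquiv.refl _

/-- The code of an element. -/
noncomputable def cd (u : M) : ℕ := cdS (incl u)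

theorem cd_lt (u : M) : cd u < 2 ^ 25 := cdS_lt _

theorem cd_mul (u v : M) : cd (u * v) = mu (cd u) (cd v) := by rw [cd, map_mul, cdS_mul]; rfl

theorem cd_one : cd 1 = ONE := by rw [cd, map_one, cdS_one]

theorem cd_inj {u v : M} (h : cd u = cd v) : u = v := incl_inj (cdS_inj h)

theorem eq_iff {u v : M} : u = v ↔ Nat.beq (cd u) (cd v) = true := by
  rw [Nat.beq_eq]; exact ⟨fun h => h ▸ rfl, cd_inj⟩

/-- The code of the transvection. -/
def ZC : ℕ := nat_lit 0x1141041

theorem cdS_s0 : cdS s0 = ZC := cdS_eq (by decide) (by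
  ext i j; rw [dec_apply]; fin_cases i <;> fin_cases j <;> decide)

theorem exists_incl {g : SL5} (h : g * s0 = s0 * g) : ∃ u, incl u = g :=
  ⟨⟨g, Subgroup.mem_centralizer_singleton_iff.2 h⟩, rfl⟩

theorem incl_comm (u : M) : incl u * s0 = s0 * incl u :=
  Subgroup.mem_centralizer_singleton_iff.1 u.2

/-- The bits of the Levi factor. -/
def lL : List ℕ := [nat_lit 64, nat_lit 128, nat_lit 256, nat_lit 2048, nat_lit 4096, nat_lit 8192,
  nat_lit 65536, nat_lit 131072, nat_lit 262144]

/-- The bits of the unipotent radical. -/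
def lQ : List ℕ := [nat_lit 32, nat_lit 1024, nat_lit 32768, nat_lit 0x100000, nat_lit 0x200000,
  nat_lit 0x400000, nat_lit 0x800000]

/-- The bits that are the same in all codes. -/
def KM : ℕ := nat_lit 0x108421f

theorem pat_cd (u : M) : pat KM (cd u) = true := by
  have h := congrArg Subtype.val (incl_comm u)
  have hd := (incl u).2
  have e := dec_cdS (incl u)
  change _ = (incl u).1 at e
  change (incl u).1 * Matrix.transvection 0 1 1 = Matrix.transvection 0 1 1 * (incl u).1 at h
  change pat KM (cdS (incl u)) = true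
  generalize (incl u).1 = A at h hd e
  rw [Matrix.transvection, mul_add, add_mul, mul_one, one_mul, add_right_inj] at h
  have h1 : ∀ i, i ≠ 0 → A i 0 = 0 := fun i hi => by
    have := congrFun (congrFun h i) 1
    rwa [Matrix.mul_single_apply_same, mul_one, Matrix.single_mul_apply_of_ne _ _ _ _ _ hi] at this
  have h2 : ∀ j, j ≠ 1 → A 1 j = 0 := fun j hj => by
    have := congrFun (congrFun h 0) j
    rw [Matrix.single_mul_apply_same, one_mul, Matrix.mul_single_apply_of_ne _ _ _ _ _ hj] at this
    exact this.symm
  have h3 : A 0 0 = A 1 1 := by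
    have := congrFun (congrFun h 0) 1
    rwa [Matrix.single_mul_apply_same, one_mul, Matrix.mul_single_apply_same, mul_one] at this
  have h4 : A 0 0 = 1 := by
    have hz : ∀ x : ZMod 2, x ≠ 0 → x = 1 := by decide
    refine hz _ fun e0 => ?_
    rw [Matrix.det_eq_zero_of_column_eq_zero 0 fun i => by
      by_cases hi : i = 0
      exacts [hi ▸ e0, h1 i hi]] at hd
    exact zero_ne_one hd
  have h5 : ∀ i j, (cdS (incl u)).testBit (5 * ei j + ei i) = decide (A i j = 1) := fun i j => by
    rw [← e, dec_apply]; cases (cdS (incl u)).testBit (5 * ei j + ei i) <;> simp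
  have b0 := h5 0 0
  have b1 := h5 2 0
  have b2 := h5 3 0
  have b3 := h5 4 0
  have b4 := h5 1 0
  have b9 := h5 1 2
  have b14 := h5 1 3
  have b19 := h5 1 4
  have b24 := h5 1 1
  rw [h4] at b0
  rw [h1 _ (by decide)] at b1 b2 b3 b4
  rw [h2 _ (by decide)] at b9 b14 b19
  rw [← h3, h4] at b24
  have hlt := cdS_lt (incl u)
  generalize cdS (incl u) = a at *
  rw [pat, Nat.beq_eq]
  refine Nat.eq_of_testBit_eq fun i => ?_
  change ((a ^^^ ONE) &&& KM).testBit i = _
  rw [Nat.testBit_and, Nat.testBit_xor, Nat.zero_testBit]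
  by_cases h25 : i < 25
  · change a.testBit 0 = true at b0
    change a.testBit 1 = false at b1
    change a.testBit 2 = false at b2
    change a.testBit 3 = false at b3
    change a.testBit 4 = false at b4
    change a.testBit 9 = false at b9
    change a.testBit 14 = false at b14
    change a.testBit 19 = false at b19
    change a.testBit 24 = true at b24
    interval_cases i <;>
      first | exact Bool.and_false _ | (simp only [b0, b1, b2, b3, b4, b9, b14, b19, b24]; decide)
  · rw [Nat.testBit_lt_two_pow (x := KM) ((show KM < 2 ^ 25 by decide).trans_le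
      (Nat.pow_le_pow_right two_pos (by omega))), Bool.and_false]

/-- The position of the Levi part in the table. -/
noncomputable def lix (a : ℕ) : ℕ :=
  Nat.lor (Nat.lor (Nat.land (Nat.shiftRight a (nat_lit 6)) (nat_lit 7))
    (Nat.land (Nat.shiftRight a (nat_lit 8)) (nat_lit 56)))
    (Nat.land (Nat.shiftRight a (nat_lit 10)) (nat_lit 448))

/-- The inverses of the elements of the Levi factor. -/
def ltab : ℕ := nat_lit 0x20e5303011981829cc0c0c260400000000000000000041cc5040000010130c18298e0800000206608200000000000040865060451820000000000004082706047082000000000000418e5060c538200000000000041823060c308200000000000040c45040000010111c182886080000020e20820000000000000000002065103013881828c40c1c22040000000000000000000000000000000000000000000000000000000000000000000000000020e3303012981819cc0c14260400000000000000000000000000000000000000000000000000000000000000838ca080000000000010128c100000041427060670820000008118a080000020461820000008118e08000002046082000000819ca080000000000010129c100000041423060e30820000008308a080000020c238200000083086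080000020c20820000000000000000002067103012881838c40c1422040000000000000000000000000000000000000000000000000000000000000000000041cc3040000010131418198e080000020a6082000000839460800000000000101194100000040c27060a7082000000000000000000000000000000000000000000000000000000008114c0c086604000000000000811cc0c0826040000000000008194e0800000000000101394100000041c23060a308200000000000040c470400000101114183886080000020a2082000000831440c18e204000000000000830c40c18220400000000000000000000000000000000000000000000000000000000000000000000410a306083282000000000000410270608708200000082186080000020862820000008218e08000002086082000000820cc0c10a604000000000000821cc0c10260400000000000000000000000000000000000000000000000000000000000000000000410a70608728200000000000041023060830820000008208e080000020822820000008208608000002082082000000821c40c10a204000000000000820c40c10220400000000000000000000000000000000000000000000000000000000000000000000418e3060c338200000000000041825060c5082000000829c6080000000000010119c100000040c25060e5082000000828ce080000000000010138c1000000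41c250606508200000000000040867060471820000000000004082506045082000000000000000000000000000000000000000000000000000000008288c0c0c46060e23030111810000000000000000000000000829840c1cc20606610301308100000000000000000000000000000000000000000000000000000000000000000000000000000000041483040000010121c18190a080000020e408200000083106080000020c43820000008310a080000020c408200000000000041487040000010120c18390a080000020640820000008110e080000020441820000008110a080000020440820000008190c0c1486060e4303012181000000000000000000000000000000000000000000000000000000000000000000000000000839040c14820606410301208100000000000000000000000000000000000000000000000000000000000000000000000000000000000000020a3203013901819480c1c240400000000000000000000000020a7203011901839480c0c2404000000000000830c80c18e404000000000000831480c182404000000000000811c80c086404000000000000811480c082404000000000000819880c1cc4060a62030131010000000000000000000000000838880c0c44060a2203011101000000000000000000000000000000000000000000000000000000000000000000000000000000000000000000000000000000000000000000000000000000000000000000000000000000000000000000000000000000000000000000000000000000000000000000000000000000000000000000000000000000000000000000000000000000000000000000000000000000000000000000000000000000000000000000000000000000000000000000000000000000000000000000000000000000000000000000000000000000000000000000000000000000000000000000000000000000000000000000000000000000000000000000000000000000000000000000000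

/-- The inverse of the Levi part. -/
noncomputable def linv (a : ℕ) : ℕ :=
  Nat.land (Nat.shiftRight ltab (Nat.mul (lix a) (nat_lit 25))) (nat_lit 0x1ffffff)

/-- The inverse. -/
noncomputable def iv (A : ℕ) : ℕ :=
  force A fun a => force (linv a) fun li => force (mu (mu li a) li) fun b =>
    Nat.xor (Nat.xor b (mu a b)) ONE

/-- The elements of the Levi factor. -/
def levis : List ℕ := [nat_lit 0x1041041, nat_lit 0x1061041, nat_lit 0x1051041, nat_lit 0x1071041,
  nat_lit 0x1043041, nat_lit 0x1023041, nat_lit 0x1053041, nat_lit 0x1033041,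
  nat_lit 0x1062041, nat_lit 0x1022041, nat_lit 0x1072041, nat_lit 0x1032041,
  nat_lit 0x1041841, nat_lit 0x1061841, nat_lit 0x1051841, nat_lit 0x1071841,
  nat_lit 0x1043841, nat_lit 0x1023841, nat_lit 0x1053841, nat_lit 0x1033841,
  nat_lit 0x1062841, nat_lit 0x1022841, nat_lit 0x1072841, nat_lit 0x1032841,
  nat_lit 0x1041141, nat_lit 0x1061141, nat_lit 0x1011141, nat_lit 0x1031141,
  nat_lit 0x1043141, nat_lit 0x1023141, nat_lit 0x1013141, nat_lit 0x1073141,
  nat_lit 0x1062141, nat_lit 0x1022141, nat_lit 0x1072141, nat_lit 0x1032141,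
  nat_lit 0x1041941, nat_lit 0x1021941, nat_lit 0x1011941, nat_lit 0x1071941,
  nat_lit 0x1043941, nat_lit 0x1063941, nat_lit 0x1013941, nat_lit 0x1033941,
  nat_lit 0x1060941, nat_lit 0x1020941, nat_lit 0x1070941, nat_lit 0x1030941,
  nat_lit 0x10410c1, nat_lit 0x10610c1, nat_lit 0x10510c1, nat_lit 0x10710c1,
  nat_lit 0x10430c1, nat_lit 0x10230c1, nat_lit 0x10130c1, nat_lit 0x10730c1,
  nat_lit 0x10620c1, nat_lit 0x10220c1, nat_lit 0x10520c1, nat_lit 0x10120c1,
  nat_lit 0x10638c1, nat_lit 0x10238c1, nat_lit 0x10538c1, nat_lit 0x10138c1,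
  nat_lit 0x10408c1, nat_lit 0x10608c1, nat_lit 0x10508c1, nat_lit 0x10708c1,
  nat_lit 0x10428c1, nat_lit 0x10228c1, nat_lit 0x10128c1, nat_lit 0x10728c1,
  nat_lit 0x10411c1, nat_lit 0x10611c1, nat_lit 0x10111c1, nat_lit 0x10311c1,
  nat_lit 0x10431c1, nat_lit 0x10231c1, nat_lit 0x10531c1, nat_lit 0x10331c1,
  nat_lit 0x10621c1, nat_lit 0x10221c1, nat_lit 0x10521c1, nat_lit 0x10121c1,
  nat_lit 0x10619c1, nat_lit 0x10219c1, nat_lit 0x10519c1, nat_lit 0x10119c1,
  nat_lit 0x10409c1, nat_lit 0x10209c1, nat_lit 0x10509c1, nat_lit 0x10309c1,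
  nat_lit 0x10429c1, nat_lit 0x10629c1, nat_lit 0x10129c1, nat_lit 0x10329c1,
  nat_lit 0x1051101, nat_lit 0x1011101, nat_lit 0x1071101, nat_lit 0x1031101,
  nat_lit 0x1053101, nat_lit 0x1013101, nat_lit 0x1073101, nat_lit 0x1033101,
  nat_lit 0x1061901, nat_lit 0x1021901, nat_lit 0x1051901, nat_lit 0x1011901,
  nat_lit 0x1063901, nat_lit 0x1023901, nat_lit 0x1053901, nat_lit 0x1013901,
  nat_lit 0x1060901, nat_lit 0x1020901, nat_lit 0x1070901, nat_lit 0x1030901,
  nat_lit 0x1062901, nat_lit 0x1022901, nat_lit 0x1072901, nat_lit 0x1032901,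
  nat_lit 0x1053081, nat_lit 0x1013081, nat_lit 0x1073081, nat_lit 0x1033081,
  nat_lit 0x1052081, nat_lit 0x1012081, nat_lit 0x1072081, nat_lit 0x1032081,
  nat_lit 0x1041881, nat_lit 0x1061881, nat_lit 0x1051881, nat_lit 0x1071881,
  nat_lit 0x1043881, nat_lit 0x1063881, nat_lit 0x1013881, nat_lit 0x1033881,
  nat_lit 0x1040881, nat_lit 0x1060881, nat_lit 0x1050881, nat_lit 0x1070881,
  nat_lit 0x1042881, nat_lit 0x1062881, nat_lit 0x1012881, nat_lit 0x1032881,
  nat_lit 0x1051181, nat_lit 0x1011181, nat_lit 0x1071181, nat_lit 0x1031181,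
  nat_lit 0x1052181, nat_lit 0x1012181, nat_lit 0x1072181, nat_lit 0x1032181,
  nat_lit 0x1041981, nat_lit 0x1021981, nat_lit 0x1011981, nat_lit 0x1071981,
  nat_lit 0x1043981, nat_lit 0x1023981, nat_lit 0x1053981, nat_lit 0x1033981,
  nat_lit 0x1040981, nat_lit 0x1020981, nat_lit 0x1050981, nat_lit 0x1030981,
  nat_lit 0x1042981, nat_lit 0x1022981, nat_lit 0x1012981, nat_lit 0x1072981]

/-- All codes pass the test. -/
noncomputable def allM (q : ℕ → Bool) : Bool := allL (allX lQ q) levis

/-- One code passes the test. -/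
noncomputable def anyM (q : ℕ → Bool) : Bool := anyL (anyX lQ q) levis

/-- The number is a code. -/
def Ok (a : ℕ) : Prop := ∃ u, cd u = a

/-- The fast test for codes. -/
noncomputable def okC (a : ℕ) : Bool :=
  band (Nat.ble a (nat_lit 0x1ffffff)) (band (pat KM a) (bnot (Nat.beq (linv a) (nat_lit 0))))

/-- The defining test for codes. -/
noncomputable def okB (A : ℕ) : Bool :=
  force A (fun a => force (iv a) fun b => Bool.rec (motive := fun _ => ℕ) 0 1
    (band (okC a) (band (Nat.ble b (nat_lit 0x1ffffff))
      (band (Nat.beq (mu a b) ONE) (Nat.beq (mu a ZC) (mu ZC a)))))) == 1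

/-- A vector in the kernel. -/
noncomputable def kerB (w A : ℕ) : Bool :=
  force A (fun a => force (Nat.xor w (mu a w)) fun v => Bool.rec (motive := fun _ => ℕ) 0 1
    (band (Nat.beq (mu a v) 0) (band (Nat.ble v (nat_lit 0x1ffffff))
      (band (bnot (Nat.beq v 0)) (Nat.beq (linv a) 0))))) == 1

theorem rec_eq_one {b : Bool} : (Bool.rec (motive := fun _ => ℕ) 0 1 b == 1) = b := by
  cases b <;> rfl

theorem chk_ok : allM okB = true := by decide +kernel

theorem chk_ker : allX lL (fun L => bor (anyL (Nat.beq L) levis)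
    (anyL (fun w => allX lQ (kerB w) L) [2, 4, 6, 8, 10, 12, 14])) ONE = true := by decide +kernel

end Cfsg.Agent.H11.Hd
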