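import Mathlib
import Cfsg.Agent.H11.HdMod
import Cfsg.Agent.H11.HdGen

/-!
# Fusion in a group with the centraliser of a transvection of `SL(5, 2)`
-/

set_option autoImplicit false
set_option maxRecDepth 100000
set_option exponentiation.threshold 30000
set_option linter.unusedSectionVars false

namespace Cfsg.Agent.H11.Hd

open Cfsg.Agent.H89.TG Cfsg.Agent.H89.Rec Subgroup

/-- The central involution. -/
noncomputable abbrev z : M := x 0 4

/-- The position of an element of `T` in the tables. -/
noncomputable def tix (a : ℕ) : ℕ :=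
  Nat.lor (Nat.lor (Nat.land (Nat.shiftRight a (nat_lit 5)) (nat_lit 1))
    (Nat.land (Nat.shiftRight a (nat_lit 9)) (nat_lit 6)))
    (Nat.lor (Nat.land (Nat.shiftRight a (nat_lit 12)) (nat_lit 56))
    (Nat.land (Nat.shiftRight a (nat_lit 14)) (nat_lit 960)))

/-- The table of classes. -/
def clsT : ℕ := nat_lit 0x8000000000800000000044000004003000000000000000000000000000000000800000000080000000004400000400300000000000000000000000000000000080000000008000000004400000000430000000000000000000000000000000008000000000800000000440000000043000000000000000000000000000000000000000000000000000040400808040300000000000000000000000000000000000000000000000000004040080804030000000000000000000000000000000000000000000000000000000008084443000000000000000000000000000000000000000000000000000000000808444300007005000070060000000800000008000000080000000800004004000040030000700600007005000000080000000800000008000000080000400400004003000000080000000800000075000000760000000800000008000000440000004300000008000000080000007600000075000000080000000800000044000000430000000800000008000000080000000805070705070607060707040405060403000000080000000800000008000000080607070607050705070704040605040300007006000070060000007600000076060707060706070607072222060622210000700500007005000000750000007505070705070507050707222205052220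

/-- The table of conjugating elements. -/
def witT : ℕ := nat_lit 0x610c1840000000000000000000000000000000000000000000000000000000184b04100000000000000000000000000000000000000000000000000000000610c3070c22820000000000000000000000000000000c118a0800000000000106914100000000000000000000000000000000000000000000000000000000000000000000000000000000000000000000000000000000000000000000000000000000000000000000000000000000000000000000000000000000000000000000000000000000000000612c1840000000000000000000000000000000000000000000000000000000184304100000000000000000000000000000000000000000000000000000000410c3060c228200000000000000000000000000000008118a0800000000000106114100000000000000000000000000000000000000000000000000000000000000000000000000000000000000000000000000000000000000000000000000000000000000000000000000000000000000000000000000000000000000000000000000000000000000412c1840000000000000000000000000000000000000000000000000000000104b04100000000000000000000000000000000000000000000000000c398a0e1cc3040000000000000000000000000000000000000000000000000306228303914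100000000000000000000000000000000000000000000000000000000000000000000000000000000000000000000000000000000000000000000000000000000000000000000000000000000000000000000000000000000000000000000000000000000000000410c18400000000000000000000000000000000000000000000000000000001043041000000000000000000000000000000000000000000000000008398a0c1cc304000000000000000000000000000000000000000000000000020622830311410000000000000000000000000000000000000000000000000000000000000000000000000000000000000000000000000000000000000000000000000000000000000000000000000000000000000000000000000000000000000000000000000000000000000000000000000000000000000000000000000000000000000000000000000000000000000000000000000000000000000000000000000000000000000c218a08000003082282000000000000608c18400000182b041000000608c3040000010491410000000000000000000000000000000000000000000000000000000000000000000000000000000000000000000000000000000000000000000000000000000000000000000000000000000000000000000000000000000000000000000000000000000000000000000000000000000000000000000000000000000000000000000000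0000000000000000000000000000000000000000000000000000000000000008218a0800000208228200000000000060ac184000001823041000000408c3040000010411410000000000000000000000000000000000000000000000000000000000000000000000000000000000000000000000000000000000000000000000000000000000000000000000000000000000000000000000000000000000000000000000000000000000000000000000000000000000000000000000000000000000000000000000000000000000000000000000000000000000000000000000000000000000000000000000000000000000000000000040ac18400000102b041c098a0e04c30702228301914100000000000000000000000000000000000000000000000000000000000000000000000000000000000000000000000000000000000000000000000000000000000000000000000000000000000000000000000000000000000000000000000000000000000000000000000000000000000000000000000000000000000000000000000000000000000000000000000000000000000000000000000000000000000000000000000000000000000000000000408c1840000010230418098a0c04c3060222830111410000000000000000000000000c20a6080000000000018414c10000000000000000000000000e2086080000000000018410c10000000000000000000000000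0000000000000000001040cc1000000000000000000000000000000000000000000010408e100000000000000000000000000000000000000000001841061000000000000000000000000000000000000000000018414410000000000000000000000000c310a080000000000018410c10000000000000000000000000c110a080000000000010625410000000000000000000000000e20a6080000000000018414c10000000000000000000000000c2086080000000000018410c100000000000000000000000000000000000000000001040ce1000000000000000000000000000000000000000000010408c1000000000000000000000000000000000000000000018414610000000000000000000000000000000000000000000184104100000000000000000000000008310a080000000000010410c100000000000000000000000008110a08000000000001062141000000000000000000000000000000000000000000010414c1000000000000000000000000000000000000000000010414e100000000000000000000000000000000000003081983840cc1000000000000000000000000000000000000038811838408c10000000000000000000000000000000000000000000104146100000000000000000000000000000000000000000001041441000000000000000000000000000000000000030c12838408c100000000000000000000000000000000000003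041283060d41000000000000000000000000000000000000000000010410e1000000000000000000000000000000000000000000010410c100000000000000000000000000000000000003881983840cc1000000000000000000000000000000000000030811838408c10000000000000000000000000000000000000000000104106100000000000000000000000000000000000000000001041041000000000000000000000000000000000000020c12830408c100000000000000000000000000000000000002041283060941000000000000000000000000000000000000000000018410e1000000000000000000000000000000000000000000018414e100000000000000000000000000000000000000000001840ce1000000000000000000000000000000000000000000018408e1000000610c1840000018430610000006104184000001841061000000710c1040000018430410000007104104000001841041000000708c104000001823061000000610c104000001841041000000608c184000001823041000000608c104000001041061000000000000000000000000000000000000000000018414c1000000000000000000000000000000000000000000018410c100000000000000000000000000000000000000000001840cc1000000000000000000000000000000000000000000018408c1000000610c184000001c4306100000071041840000018410610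00000610c1040000018430410000006104104000001841041000000608c104000001c23061000000410c104000001041041000000608c184000001823041000000408c1040000010410410000000000000000000000000a20a6080000000000010414c10000000000000000000000000a2086080000000000010410c100000000000000000000000000000000000002881983040cc1000000000000000000000000000000000000028811830408c1000000410c1840000014430610000005104184000001041061000000510c1040000010430410000005104104000001041041000000508c104000001423061c218a0e10c107082283841041000000408c184000001023041c118a0e08c1070222830410410000000000000000000000000820a6080000000000010414c1000000000000000000000000082086080000000000010410c100000000000000000000000000000000000002081983040cc1000000000000000000000000000000000000020811830408c1000000410c1840000010430610000004104184000001041061000000410c1040000010430410000004104104000001041041000000408c1040000010230618218a0c10c106082283041041000000408c1840000010230418118a0c08c106022282000000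

/-- The class of an involution of `T`. -/
noncomputable def cls (A : ℕ) : ℕ := force A fun a =>
  Nat.land (Nat.shiftRight clsT (Nat.mul (tix a) (nat_lit 4))) (nat_lit 15)

/-- An element that conjugates the involution to the representative of its class. -/
noncomputable def wit (A : ℕ) : ℕ := force A fun a =>
  Nat.land (Nat.shiftRight witT (Nat.mul (tix a) (nat_lit 25))) (nat_lit 0x1ffffff)

/-- The codes of the representatives. -/
noncomputable def repN (k : ℕ) : ℕ := nthD ONE [nat_lit 0x1041041, nat_lit 0x1141041, nat_lit 0x1049041, nat_lit 0x1241041,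
  nat_lit 0x1249041, nat_lit 0x1051041, nat_lit 0x1151041, nat_lit 0x1051441,
  nat_lit 0x1451041] k

/-- The representatives of the classes of involutions. -/
noncomputable def rep (k : ℕ) : M := el (repN k)

theorem cd_rep (k : ℕ) : cd (rep k) = fixC (repN k) := cd_el _

/-- The class of the involution belongs to the pattern. -/
noncomputable def dB (π a : ℕ) : Bool :=
  Nat.beq (Nat.land (Nat.shiftRight π (cls a)) (nat_lit 1)) (nat_lit 1)

theorem nat_eq_iff {a b : ℕ} : a = b ↔ Nat.beq a b = true := Nat.beq_eq.symm.to_iff

theorem nat_lt_iff {a b : ℕ} : a < b ↔ Nat.ble (Nat.succ a) b = true := Nat.ble_eq.symm.to_iff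

theorem cls_spec : ∀ u ∈ T, Nat.ble (cls (cd u)) 8 = true ∧
    el (wit (cd u)) * u * (el (wit (cd u)))⁻¹ = rep (cls (cd u)) ∨
    Nat.beq (cls (cd u)) 0 = true ∧ u * u ≠ 1 := by mdec [cd_rep]

theorem exp8 : ∀ u ∈ T, u ^ 2 ^ 3 = 1 := by md
theorem normT : ∀ k : M, k * x 1 2 * k⁻¹ ∈ T → k * x 2 3 * k⁻¹ ∈ T → k ∈ T := by md
theorem centT : ∀ u ∈ T, (∀ s ∈ [x 0 1, x 1 2, x 2 3, x 3 4], Commute s u) → u ≠ 1 → u = z := by md
theorem centM : ∀ u : M, (∀ s ∈ [x 0 1, x 1 2, x 2 3, x 3 4, x 2 1, x 3 2], Commute s u) →
    u ≠ 1 → u = z := by md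
theorem R1_le : R1 ≤ T := PS.sub_le (by md)
theorem R2_le : R2 ≤ T := PS.sub_le (by md)
theorem U_le : U ≤ T := PS.sub_le (by md)
theorem R1_U : R1 ≤ U := PS.sub_le (by md)
theorem R2_U : R2 ≤ U := PS.sub_le (by md)
theorem Z0_eq : R1 ⊓ R2 = Z0 :=
  le_antisymm (fun u hu => (show ∀ u ∈ R1, u ∈ R2 → u ∈ Z0 by md) u hu.1 hu.2)
    (PS.sub_le (by simp only [mem_inf]; md))
theorem Z0_R1 : Z0 ≤ R1 := Z0_eq ▸ inf_le_left
theorem Z0_R2 : Z0 ≤ R2 := Z0_eq ▸ inf_le_right
theorem U_prod : ∀ u ∈ U, ∃ p ∈ R1, p⁻¹ * u ∈ R2 := fun u hu =>
  ⟨el (Nat.xor ONE (Nat.land (cd u) 0xc00)), by revert u; md⟩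
theorem comm1 : ∀ u ∈ R1, ∀ v ∈ R1, Commute u v := by md
theorem comm2 : ∀ u ∈ R2, ∀ v ∈ R2, Commute u v := by md
theorem sq1 : ∀ u ∈ R1, u * u = 1 := by md
theorem sq2 : ∀ u ∈ R2, u * u = 1 := by md
theorem commZ : ∀ u ∈ U, ∀ v ∈ Z0, Commute u v := by md
theorem comm12 : ∀ u ∈ R1, ∀ v ∈ R2, Commute u v → u ∈ R2 ∨ v ∈ R1 := by md
theorem nodup1 : (enum pR1.l ONE).Nodup := by decide +kernel
theorem nodup2 : (enum pR2.l ONE).Nodup := by decide +kernel
theorem card1 : Nat.card R1 = 64 := (PS.card_sub nodup1).trans (by decide +kernel)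
theorem card2 : Nat.card R2 = 64 := (PS.card_sub nodup2).trans (by decide +kernel)
theorem nrm1 : ∀ c ∈ T, ∀ u ∈ R1, c * u * c⁻¹ ∈ R1 := fun c hc =>
  PS.sub_le (K := R1.comap (MulAut.conj c).toMonoidHom) (by
    simp only [mem_comap, MulEquiv.coe_toMonoidHom, MulAut.conj_apply]; revert c; md)
theorem nrm2 : ∀ c ∈ T, ∀ u ∈ R2, c * u * c⁻¹ ∈ R2 := fun c hc =>
  PS.sub_le (K := R2.comap (MulAut.conj c).toMonoidHom) (by
    simp only [mem_comap, MulEquiv.coe_toMonoidHom, MulAut.conj_apply]; revert c; md)
theorem cnt56 : ∀ y ∈ T, y * y = 1 → y ∈ R1 ∨ y ∈ R2 ∨ Nat.ble (cntX pT.l (fun a =>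
    band (Nat.beq (mu a a) ONE) (Nat.beq (mu a (cd y)) (mu (cd y) a))) ONE) 63 = true := by md
theorem not_comm_mb : ∀ p ∈ R1, ∀ q ∈ R2, p * q * p * q ≠ rep 4 ∧ p * q * p * q ≠ rep 6 := by
  mdec [cd_rep]

theorem zc (u : M) : Commute u z := incl_inj (by
  have : incl z = s0 := cdS_inj (by rw [cdS_s0]; change cd z = _; rw [cd_x]; decide +kernel)
  rw [map_mul, map_mul, this, incl_comm])

theorem sylT : Syl T ⊤ :=
  (Syl.refl (R := T) fun u => ⟨3, Subtype.ext (exp8 u u.2)⟩).of_normalizer le_top fun k _ hk =>
    normT k ((mem_normalizer_iff.1 hk _).1 (by md)) ((mem_normalizer_iff.1 hk _).1 (by md))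

variable {G : Type*} [Group G] [Finite G] {ι : M →* G}

theorem sylG (h : Emb ι z) : Syl (T.map ι) ⊤ :=
  h.syl sylT (by md) fun u hu hc _ h1 => centT u hu (fun s hs => hc s (by revert s; md)) h1

theorem mem_T_of_into (h : Emb ι z) {g : G} (hg : Into ι g T T) : ∃ c ∈ T, ι c = g := by
  obtain ⟨v, hv, e⟩ := hg z (by md)
  have h1 : v = z := centT v hv (fun s hs => by
    obtain ⟨s', -, e'⟩ := hg.symm' h.inj s (by revert s; md)
    exact e'.symm'.comm h.inj e (zc s')) (e.ne_one h.inj h.z1)
  obtain ⟨c, rfl⟩ := h.of_cj (h1 ▸ e)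
  exact ⟨c, normT c (hg.mem h.inj (by md) (Cj.self _ _)) (hg.mem h.inj (by md) (Cj.self _ _)), rfl⟩

theorem e64 (h : Emb ι z) {P : PS} (hn : (enum P.l ONE).Nodup)
    (hc : cntX P.l (fun _ => true) ONE = 64) (h1 : ∀ u ∈ P.sub, u * u = 1)
    (h2 : ∀ u ∈ P.sub, ∀ v ∈ P.sub, Commute u v) {g : G} (hg : Into ι g P.sub T) :
    Into ι g P.sub R1 ∨ Into ι g P.sub R2 := by
  have key : ∀ u ∈ P.sub, ∀ y, Cj ι g u y → y ∈ R1 ∨ y ∈ R2 := fun u hu y e => by
    rcases cnt56 y (hg.mem h.inj hu e) ((e.mul e).eq_one h.inj (h1 u hu)) with a | a | a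
    · exact Or.inl a
    · exact Or.inr a
    have := PS.cnt_le (P' := pT) hn (p := fun _ => true) (p' := fun a =>
      band (Nat.beq (mu a a) ONE) (Nat.beq (mu a (cd y)) (mu (cd y) a))) (r := Cj ι g)
      (fun u' hu' _ => by
        obtain ⟨v, hv, e'⟩ := hg u' hu'
        refine ⟨v, hv, ?_, e'⟩
        rw [← band_iff, ← cd_mul, ← cd_mul, ← cd_mul, ← cd_one, ← eq_iff, ← eq_iff]
        exact ⟨(e'.mul e').eq_one h.inj (h1 u' hu'), e'.comm h.inj e (h2 _ hu' _ hu)⟩)
      fun _ _ _ e1 e2 => e1.uniq' h.inj e2
    have := Nat.le_of_ble_eq_true a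
    omega
  by_contra hn
  simp only [Into, not_or, not_forall, not_exists, not_and] at hn
  obtain ⟨⟨u, hu, n1⟩, u', hu', n2⟩ := hn
  obtain ⟨v, -, e⟩ := hg u hu
  obtain ⟨v', -, e'⟩ := hg u' hu'
  have a1 := (key u hu v e).resolve_left fun a => n1 v a e
  have a2 := (key u' hu' v' e').resolve_right fun a => n2 v' a e'
  rcases comm12 v' a2 v a1 (e'.comm h.inj e (h2 _ hu' _ hu)) with a | a
  exacts [n2 v' a e', n1 v a e]

theorem not12 (h : Emb ι z) {g : G} (hg : Into ι g R1 R2) : False := by
  have hg' := hg.symm h.inj (card1.trans card2.symm).ge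
  have hS : Syl (T.map ι) (normalizer (R2.map ι : Set G)) := (sylG h).mono (by
    rintro _ ⟨c, hc, rfl⟩
    exact mem_normalizer_of_cj (Into.self (nrm2 c hc))) le_top
  obtain ⟨k, hk, hk'⟩ := syl_conj_sub hS (X := (T.map ι).map (MulAut.conj g).toMonoidHom) (by
    rintro _ ⟨_, ⟨c, hc, rfl⟩, rfl⟩
    have := mem_normalizer_of_cj ((hg'.trans (Into.self (nrm1 c hc))).trans hg)
    rwa [← mul_assoc] at this) (hS.grp.map _)
  obtain ⟨c, hc, e⟩ := mem_T_of_into h (g := k * g) fun u hu => by
    obtain ⟨v, hv, e⟩ := hk' _ (mem_map_of_mem _ (mem_map_of_mem ι hu))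
    exact ⟨v, hv, by rw [Cj, e]; simp [mul_assoc]⟩
  have h1 := hg.trans (Into.of_normalizer hk)
  rw [← e] at h1
  exact (show ∀ c ∈ T, c * x 0 2 * c⁻¹ ∉ R2 by md) c hc (h1.mem h.inj (by md) (Cj.self _ _))

theorem wc1 (h : Emb ι z) {g : G} (hg : Into ι g R1 T) : Into ι g R1 R1 :=
  (e64 h nodup1 (by decide +kernel) sq1 comm1 hg).resolve_right (not12 h)

theorem wc2 (h : Emb ι z) {g : G} (hg : Into ι g R2 T) : Into ι g R2 R2 :=
  (e64 h nodup2 (by decide +kernel) sq2 comm2 hg).resolve_left fun a =>
    not12 h (a.symm h.inj (card1.trans card2.symm).le)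

theorem intoU {g : G} (h1 : Into ι g R1 R1) (h2 : Into ι g R2 R2) : Into ι g U U := fun u hu => by
  obtain ⟨p, hp, hq⟩ := U_prod u hu
  obtain ⟨p', hp', e⟩ := h1 p hp
  obtain ⟨q', hq', e'⟩ := h2 _ hq
  exact ⟨_, mul_mem (R1_U hp') (R2_U hq'), (e.mul e').of_eq (by group) rfl⟩

theorem intoZ (h : Emb ι z) {g : G} (h1 : Into ι g R1 R1) (h2 : Into ι g R2 R2) :
    Into ι g Z0 Z0 := Z0_eq ▸ h1.inf h.inj h2

/-- A subgroup of `T` that centralises an element conjugate to `z`. -/
theorem fuse (h : Emb ι z) {A : Subgroup M} (hA : A ≤ T) {u : M} (hu : ∀ y ∈ A, Commute y u)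
    {g : G} (hg : Cj ι g u z) : ∃ c : M, Cj ι (ι c * g) u z ∧ Into ι (ι c * g) A T :=
  let ⟨c, hc⟩ := into_syl h.inj sylT (fun y hy => exp8 y (hA hy))
    fun y hy => h.exists_cj hg (hu y hy)
  ⟨c, hg.trans (h.cj_z c), hc⟩

theorem fuse1 (h : Emb ι z) {u : M} (hu : u ∈ R1) {g : G} (hg : Cj ι g u z) :
    ∃ c : M, Cj ι (ι c * g) u z ∧ Into ι (ι c * g) R1 R1 :=
  let ⟨c, h1, h2⟩ := fuse h R1_le (fun y hy => comm1 y hy u hu) hg; ⟨c, h1, wc1 h h2⟩

theorem fuse2 (h : Emb ι z) {u : M} (hu : u ∈ R2) {g : G} (hg : Cj ι g u z) :
    ∃ c : M, Cj ι (ι c * g) u z ∧ Into ι (ι c * g) R2 R2 :=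
  let ⟨c, h1, h2⟩ := fuse h R2_le (fun y hy => comm2 y hy u hu) hg; ⟨c, h1, wc2 h h2⟩

theorem fuseZ (h : Emb ι z) {u : M} (hu : u ∈ Z0) (hD : InD ι z u) :
    ∃ g, Cj ι g u z ∧ Into ι g R1 R1 ∧ Into ι g R2 R2 :=
  let ⟨_, hg⟩ := hD
  let ⟨_, h1, h2⟩ := fuse h U_le (fun y hy => commZ y hy u hu) hg
  ⟨_, h1, wc1 h (h2.mono R1_U), wc2 h (h2.mono R2_U)⟩

theorem not_mb (h : Emb ι z) {u : M} (hu : u = rep 4 ∨ u = rep 6) : ¬ InD ι z u := fun hD => by
  obtain ⟨g, e, h1, h2⟩ := fuseZ h (by rcases hu with rfl | rfl <;> mdec [cd_rep]) hD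
  obtain ⟨p, hp, e1⟩ := h1.symm' h.inj (x 0 2) (by md)
  obtain ⟨q, hq, e2⟩ := h2.symm' h.inj (x 2 4) (by md)
  have := (((e1.mul e2).mul e1).mul e2).uniq h.inj (e.symm.of_eq (by md) rfl)
  rcases hu with rfl | rfl
  exacts [(not_comm_mb p hp q hq).1 this, (not_comm_mb p hp q hq).2 this]

/-- The classes of `M` in the pattern `π` are those that are fused to `z`. -/
structure Pat (ι : M →* G) (π : ℕ) : Prop where
  emb : Emb ι z
  iff : ∀ u ∈ T, InD ι z u ↔ dB π (cd u) = true

theorem dB_iff {π a : ℕ} : dB π a = true ↔ π.testBit (cls a) = true := by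
  rw [dB, Nat.beq_eq, Nat.testBit_eq_decide_div_mod_eq, decide_eq_true_iff,
    ← Nat.shiftRight_eq_div_pow, ← Nat.and_one_is_mod]; rfl

theorem pat_of (h : Emb ι z) {π : ℕ} (hπ : ∀ k < 9, InD ι z (rep k) ↔ π.testBit k = true) :
    Pat ι π := by
  have h0 : ¬ InD ι z (rep 0) := fun a => (h.inD_sq a).2 (by mdec [cd_rep])
  refine ⟨h, fun u hu => ?_⟩
  rw [dB_iff]
  rcases cls_spec u hu with ⟨h1, h2⟩ | ⟨h1, h2⟩
  · rw [← hπ _ (Nat.lt_succ_of_le (Nat.le_of_ble_eq_true h1))]
    exact ⟨(Cj.self' h2).inD', (Cj.self' h2).inD⟩
  · rw [Nat.eq_of_beq_eq_true h1, ← hπ 0 (by norm_num)]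
    exact ⟨fun a => absurd (h.inD_sq a).1 h2, fun a => absurd a h0⟩

theorem Pat.cj {π : ℕ} (hP : Pat ι π) {g : G} {u v : M} (hu : u ∈ T) (hv : v ∈ T)
    (e : Cj ι g u v) : dB π (cd u) = true ↔ dB π (cd v) = true := by
  rw [← hP.iff u hu, ← hP.iff v hv]; exact ⟨e.inD', e.inD⟩

/-- The number of ways to write `a` as a product of two elements of the pattern. -/
noncomputable def ways (l : List ℕ) (π a : ℕ) : ℕ :=
  cntX l (fun y => band (dB π y) (dB π (mu a y))) ONE

theorem Pat.ways_le {π : ℕ} (hP : Pat ι π) {P : PS} (hn : (enum P.l ONE).Nodup) (hT : P.sub ≤ T)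
    {g : G} (hg : Into ι g P.sub P.sub) {u v : M} (hu : u ∈ P.sub) (e : Cj ι g u v) :
    ways P.l π (cd u) ≤ ways P.l π (cd v) := by
  refine PS.cnt_le hn (r := Cj ι g) (fun y hy h1 => ?_) fun _ _ _ e1 e2 => e1.uniq' hP.emb.inj e2
  obtain ⟨y', hy', e'⟩ := hg y hy
  refine ⟨y', hy', ?_, e'⟩
  rw [← band_iff, ← cd_mul] at h1 ⊢
  exact ⟨(hP.cj (hT hy) (hT hy') e').1 h1.1, (hP.cj (hT (mul_mem hu hy))
    (hT (mul_mem (hg.mem hP.emb.inj hu e) hy')) (e.mul e')).1 h1.2⟩

theorem Pat.ways_eq {π : ℕ} (hP : Pat ι π) {P : PS} (hn : (enum P.l ONE).Nodup) (hT : P.sub ≤ T)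
    {g : G} (hg : Into ι g P.sub P.sub) {u v : M} (hu : u ∈ P.sub) (e : Cj ι g u v) :
    Nat.beq (ways P.l π (cd u)) (ways P.l π (cd v)) = true :=
  nat_eq_iff.1 (le_antisymm (hP.ways_le hn hT hg hu e)
    (hP.ways_le hn hT (hg.symm' hP.emb.inj) (hg.mem hP.emb.inj hu e) e.symm))

theorem pats : ∀ π, π < 512 → ¬ π.testBit 0 = true → π.testBit 1 = true → ¬ π.testBit 4 = true →
    ¬ π.testBit 6 = true →
    (∀ u ∈ [rep 2, rep 3, rep 5, rep 7], dB π (cd u) = true →
      Nat.beq (ways pR1.l π (cd u)) (ways pR1.l π (cd z)) = true) →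
    (∀ u ∈ [rep 2, rep 3, rep 5, rep 8], dB π (cd u) = true →
      Nat.beq (ways pR2.l π (cd u)) (ways pR2.l π (cd z)) = true) →
    anyL (Nat.beq π) [2, 6, 10, 46, 174, 302, 430] = true := by mdec [cd_rep]

theorem exists_pat (h : Emb ι z) : ∃ π ∈ [2, 6, 10, 46, 174, 302, 430], Pat ι π := by
  classical
  let π := Nat.ofBits fun k : Fin 9 => decide (InD ι z (rep k))
  have hπ : ∀ k < 9, InD ι z (rep k) ↔ π.testBit k = true := fun k hk => by
    rw [Nat.testBit_ofBits_lt _ _ hk, decide_eq_true_iff]
  have hP := pat_of h hπ
  have := pats π (Nat.ofBits_lt_two_pow _)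
    (fun a => (h.inD_sq ((hπ 0 (by norm_num)).2 a)).2 (by mdec [cd_rep]))
    ((hπ 1 (by norm_num)).1 (by rw [show rep 1 = z by mdec [cd_rep]]; exact InD.self _ _))
    (fun a => not_mb h (Or.inl rfl) ((hπ 4 (by norm_num)).2 a))
    (fun a => not_mb h (Or.inr rfl) ((hπ 6 (by norm_num)).2 a))
    (fun u hu hd => by
      have h1 : u ∈ R1 := by clear hd; revert u; mdec [cd_rep]
      obtain ⟨g, hg⟩ := (hP.iff u (R1_le h1)).2 hd
      obtain ⟨c, e, hc⟩ := fuse1 h h1 hg
      exact hP.ways_eq nodup1 R1_le hc h1 e)
    (fun u hu hd => by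
      have h1 : u ∈ R2 := by clear hd; revert u; mdec [cd_rep]
      obtain ⟨g, hg⟩ := (hP.iff u (R2_le h1)).2 hd
      obtain ⟨c, e, hc⟩ := fuse2 h h1 hg
      exact hP.ways_eq nodup2 R2_le hc h1 e)
  obtain ⟨o, ho, e⟩ := anyL_iff.2 this
  exact ⟨π, Nat.eq_of_beq_eq_true e ▸ ho, hP⟩

theorem exists_conj_T {u : M} (hu : u * u = 1) : ∃ c : M, c * u * c⁻¹ ∈ T :=
  let ⟨c, _, hc⟩ := sylT.exists_conj (mem_top u) (n := 1) (by rw [pow_one, pow_two, hu]); ⟨c, hc⟩

theorem not_two (hP : Pat ι 2) {u : M} (hu : InD ι z u) : u = z := by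
  obtain ⟨c, hc⟩ := exists_conj_T (hP.emb.inD_sq hu).1
  have := (show ∀ u ∈ T, dB 2 (cd u) = true → u = z by md) _ hc
    ((hP.iff _ hc).1 (hu.conj c rfl))
  rw [mul_inv_eq_iff_eq_mul, ← (zc c).eq] at this
  exact mul_left_cancel this

/-! ### The graph automorphism -/

/-- The reversal of the numbering. -/
def ρ : Fin 5 ≃ Fin 5 := ⟨![1, 0, 4, 3, 2], ![1, 0, 4, 3, 2], by decide, by decide⟩

/-- The graph automorphism of `SL(5, 2)`. -/
def σS : SL5 →* SL5 := MonoidHom.mk'
  (fun g => ⟨((g⁻¹).1.transpose).submatrix ρ ρ, by
    rw [Matrix.det_submatrix_equiv_self, Matrix.det_transpose, (g⁻¹).2]⟩)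
  fun g k => Subtype.ext (by
    change _ = Matrix.submatrix _ ρ ρ * Matrix.submatrix _ ρ ρ
    rw [Matrix.submatrix_mul_equiv, ← Matrix.transpose_mul, mul_inv_rev]; rfl)

theorem σS_apply (g : SL5) (i j : Fin 5) : (σS g).1 i j = (g⁻¹).1 (ρ j) (ρ i) := rfl

theorem σS_eq {g k : SL5} (h : ∀ i j : Fin 5, (cdS k).testBit (5 * ei j + ei i) =
    (cdS g⁻¹).testBit (5 * ei (ρ i) + ei (ρ j))) : σS g = k := by
  refine Subtype.ext ?_
  ext i j
  rw [σS_apply, ← dec_cdS, ← dec_cdS k, dec_apply, dec_apply, h]

theorem σS_inj : Function.Injective σS := fun g k e => by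
  refine inv_injective (Subtype.ext ?_)
  ext i j
  have := σS_apply g (ρ.symm j) (ρ.symm i)
  rw [e, σS_apply, ρ.apply_symm_apply, ρ.apply_symm_apply] at this
  exact this.symm

theorem σS_s0 : σS s0 = s0 := σS_eq (by
  rw [inv_eq_of_mul_eq_one_right (a := s0) (b := s0)
    (cdS_inj (by rw [cdS_mul, cdS_s0, cdS_one]; decide +kernel)), cdS_s0]
  decide +kernel)

theorem exists_tau : ∃ τ : M →* M, Function.Bijective τ ∧ ∀ u, incl (τ u) = σS (incl u) := by
  have key : ∀ u : M, ∃ v, incl v = σS (incl u) := fun u => exists_incl (by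
    have := congrArg σS (incl_comm u)
    rwa [map_mul, map_mul, σS_s0] at this)
  choose f hf using key
  refine ⟨MonoidHom.mk' f fun u v => incl_inj (by simp only [map_mul, hf]),
    Finite.injective_iff_bijective.1 fun u v e => incl_inj (σS_inj ?_), hf⟩
  rw [← hf, ← hf]; exact congrArg incl e

theorem tau_eq {τ : M →* M} (hτ : ∀ u, incl (τ u) = σS (incl u)) {u v : M}
    (h : ∀ i j : Fin 5, (cd v).testBit (5 * ei j + ei i) =
      (iv (cd u)).testBit (5 * ei (ρ i) + ei (ρ j))) : τ u = v :=
  incl_inj ((hτ u).trans (σS_eq (by rw [← map_inv, ← cd_inv] at *; exact h)))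

/-- The action of the graph automorphism on the classes. -/
noncomputable def swp (k : ℕ) : ℕ := nthD 0 [0, 1, 3, 2, 4, 5, 6, 8, 7] k

theorem Pat.swap {π π' : ℕ} (hP : Pat ι π) (h : ∀ k < 9, π.testBit (swp k) = π'.testBit k) :
    ∃ ι' : M →* G, Pat ι' π' := by
  obtain ⟨τ, hb, hτ⟩ := exists_tau
  have h1 : ∀ k < 9, τ (rep k) = rep (swp k) := fun k hk => tau_eq hτ (by
    rw [cd_rep, cd_rep]; revert k; decide +kernel)
  have hz : τ z = z := tau_eq hτ (by rw [cd_x]; decide +kernel)
  have h2 : ∀ k, k < 9 → rep (swp k) ∈ T ∧ Nat.beq (cls (cd (rep (swp k)))) (swp k) = true := by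
    mdec [cd_rep]
  refine ⟨ι.comp τ, pat_of (hP.emb.comp hb hz) fun k hk => ?_⟩
  rw [← h k hk, ← Nat.eq_of_beq_eq_true (h2 k hk).2, ← dB_iff, ← hP.iff _ (h2 k hk).1, ← h1 k hk]
  simp only [InD, Cj.comp, hz]

end Cfsg.Agent.H11.Hd
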