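import Mathlib
import Cfsg.Agent.H11.HdRel

/-!
# The three configurations
-/

set_option autoImplicit false
set_option maxRecDepth 100000
set_option exponentiation.threshold 30000

namespace Cfsg.Agent.H11.Hd

open Cfsg.Agent.H89.TG Cfsg.Agent.H89.Rec Subgroup

/-- Decide a statement about a configuration. -/
scoped macro "sd" : tactic => `(tactic| mdec [↓ List.forall_mem_cons, Rig, CommOK, agree_iff,
  List.map_cons, List.map_nil,
  bU, bR1, bR2, Fix, DOK, FOK, COK, Sys.cd_lt, List.mem_cons, or_false])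

/-- A configuration. -/
def sl5 : Sys where
  π := 46
  cs := [nat_lit 0x1041041, nat_lit 0x1041061, nat_lit 0x1041c41, nat_lit 0x1461041,
  nat_lit 0x1841041, nat_lit 0x10410e1, nat_lit 0x1843041]
  L1 := [(nat_lit 2048, nat_lit 0x1041841, nat_lit 0x1041441),
    (nat_lit 131072, nat_lit 0x1061041, nat_lit 0x1061041),
    (nat_lit 1024, nat_lit 0x1041441, nat_lit 0x1041841),
    (nat_lit 65536, nat_lit 0x1051041, nat_lit 0x1049041),
    (nat_lit 0x400000, nat_lit 0x1441041, nat_lit 0x1441041),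
    (nat_lit 32768, nat_lit 0x1049041, nat_lit 0x1051041),
    (nat_lit 0x200000, nat_lit 0x1241041, nat_lit 0x1141041),
    (nat_lit 0x100000, nat_lit 0x1141041, nat_lit 0x1241041)]
  L4 := [(nat_lit 2048, nat_lit 0x1041841, nat_lit 0x1041841),
    (nat_lit 131072, nat_lit 0x1061041, nat_lit 0x1441041),
    (nat_lit 1024, nat_lit 0x1041441, nat_lit 0x1041441),
    (nat_lit 65536, nat_lit 0x1051041, nat_lit 0x1241041),
    (nat_lit 0x400000, nat_lit 0x1441041, nat_lit 0x1061041),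
    (nat_lit 32768, nat_lit 0x1049041, nat_lit 0x1141041),
    (nat_lit 0x200000, nat_lit 0x1241041, nat_lit 0x1051041),
    (nat_lit 0x100000, nat_lit 0x1141041, nat_lit 0x1049041)]
  X1 := [([8, 6, 8, 6, 8, 6], [])]
  X2 := [([7, 5, 7, 5, 7, 5], [])]

theorem sl5_rig1 : Rig sl5.π (x 1 4) (x 0 3) (extN sl5.L1) := by sd
theorem sl5_rig4 : Rig sl5.π (x 0 3) (x 1 4) (extN sl5.L4) := by sd

theorem sl5_ok : SysOK sl5 :=
  ⟨⟨by sd, by sd, by sd, sl5_rig1, by simp [bU], by decide +kernel, by sd, by sd, by sd, by sd,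
    by sd, by sd, by sd, by sd, by sd⟩,
   ⟨by sd, by sd, by sd, sl5_rig4, by simp [bU], by decide +kernel, by sd, by sd, by sd, by sd,
    by sd, by sd, by sd, by sd, by sd⟩,
   by sd, by sd, by sd, by sd, by sd, by sd, by sd, by sd, by sd, by sd, by sd, by decide,
   by decide⟩

/-- A configuration. -/
def sm24 : Sys where
  π := 174
  cs := [nat_lit 0x1041041, nat_lit 0x1441061, nat_lit 0x1141c41, nat_lit 0x1461041,
  nat_lit 0x1841041, nat_lit 0x11410e1, nat_lit 0x1043041]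
  L1 := [(nat_lit 2048, nat_lit 0x1041841, nat_lit 0x1141441),
    (nat_lit 131072, nat_lit 0x1061041, nat_lit 0x1061041),
    (nat_lit 1024, nat_lit 0x1041441, nat_lit 0x1241841),
    (nat_lit 65536, nat_lit 0x1051041, nat_lit 0x1049041),
    (nat_lit 0x400000, nat_lit 0x1441041, nat_lit 0x1441041),
    (nat_lit 32768, nat_lit 0x1049041, nat_lit 0x1051041),
    (nat_lit 0x200000, nat_lit 0x1241041, nat_lit 0x1141041),
    (nat_lit 0x100000, nat_lit 0x1141041, nat_lit 0x1241041)]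
  L4 := [(nat_lit 2048, nat_lit 0x1041841, nat_lit 0x1359841),
    (nat_lit 131072, nat_lit 0x1061041, nat_lit 0x1441041),
    (nat_lit 1024, nat_lit 0x1041441, nat_lit 0x1251441),
    (nat_lit 65536, nat_lit 0x1051041, nat_lit 0x1241041),
    (nat_lit 0x400000, nat_lit 0x1441041, nat_lit 0x1061041),
    (nat_lit 32768, nat_lit 0x1049041, nat_lit 0x1141041),
    (nat_lit 0x200000, nat_lit 0x1241041, nat_lit 0x1051041),
    (nat_lit 0x100000, nat_lit 0x1141041, nat_lit 0x1049041)]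
  X1 := [([8, 6, 8, 6, 8, 6, 8, 6, 8, 6], []), ([3, 6, 8, 4, 6, 3, 8, 6, 8, 4, 6, 8], [1, 7])]
  X2 := [([7, 5, 7, 5, 7, 5], [])]

theorem sm24_rig1 : Rig sm24.π (x 1 4) (x 0 3) (extN sm24.L1) := by sd
theorem sm24_rig4 : Rig sm24.π (x 0 3) (x 1 4) (extN sm24.L4) := by sd

theorem sm24_ok : SysOK sm24 :=
  ⟨⟨by sd, by sd, by sd, sm24_rig1, by simp [bU], by decide +kernel, by sd, by sd, by sd, by sd,
    by sd, by sd, by sd, by sd, by sd⟩,
   ⟨by sd, by sd, by sd, sm24_rig4, by simp [bU], by decide +kernel, by sd, by sd, by sd, by sd,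
    by sd, by sd, by sd, by sd, by sd⟩,
   by sd, by sd, by sd, by sd, by sd, by sd, by sd, by sd, by sd, by sd, by sd, by decide,
   by decide⟩

/-- A configuration. -/
def she : Sys where
  π := 430
  cs := [nat_lit 0x1041041, nat_lit 0x1449061, nat_lit 0x1141c41, nat_lit 0x1469041,
  nat_lit 0x1841441, nat_lit 0x15610c1, nat_lit 0x1143441]
  L1 := [(nat_lit 2048, nat_lit 0x1041841, nat_lit 0x1141441),
    (nat_lit 131072, nat_lit 0x1061041, nat_lit 0x1361041),
    (nat_lit 1024, nat_lit 0x1041441, nat_lit 0x1241841),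
    (nat_lit 65536, nat_lit 0x1051041, nat_lit 0x1049041),
    (nat_lit 0x400000, nat_lit 0x1441041, nat_lit 0x1759041),
    (nat_lit 32768, nat_lit 0x1049041, nat_lit 0x1051041),
    (nat_lit 0x200000, nat_lit 0x1241041, nat_lit 0x1141041),
    (nat_lit 0x100000, nat_lit 0x1141041, nat_lit 0x1241041)]
  L4 := [(nat_lit 2048, nat_lit 0x1041841, nat_lit 0x1359841),
    (nat_lit 131072, nat_lit 0x1061041, nat_lit 0x1541041),
    (nat_lit 1024, nat_lit 0x1041441, nat_lit 0x1251441),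
    (nat_lit 65536, nat_lit 0x1051041, nat_lit 0x1241041),
    (nat_lit 0x400000, nat_lit 0x1441041, nat_lit 0x1069041),
    (nat_lit 32768, nat_lit 0x1049041, nat_lit 0x1141041),
    (nat_lit 0x200000, nat_lit 0x1241041, nat_lit 0x1051041),
    (nat_lit 0x100000, nat_lit 0x1141041, nat_lit 0x1049041)]
  X1 := [([8, 6, 8, 6, 8, 6, 8, 6, 8, 6], []), ([3, 6, 8, 4, 6, 3, 8, 6, 8, 4, 6, 8], [1, 7])]
  X2 := [([7, 5, 7, 5, 7, 5, 7, 5, 7, 5], []), ([2, 1, 5, 7, 5, 2, 7, 1, 5, 7, 5, 7], [4, 8])]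

theorem she_rig1 : Rig she.π (x 1 4) (x 0 3) (extN she.L1) := by sd
theorem she_rig4 : Rig she.π (x 0 3) (x 1 4) (extN she.L4) := by sd

theorem she_ok : SysOK she :=
  ⟨⟨by sd, by sd, by sd, she_rig1, by simp [bU], by decide +kernel, by sd, by sd, by sd, by sd,
    by sd, by sd, by sd, by sd, by sd⟩,
   ⟨by sd, by sd, by sd, she_rig4, by simp [bU], by decide +kernel, by sd, by sd, by sd, by sd,
    by sd, by sd, by sd, by sd, by sd⟩,
   by sd, by sd, by sd, by sd, by sd, by sd, by sd, by sd, by sd, by sd, by sd, by decide,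
   by decide⟩

end Cfsg.Agent.H11.Hd
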