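import Mathlib
import Cfsg.Agent.H11.HsF
import Cfsg.Agent.H11.HdFin
import Cfsg.Agent.H9.InvCount

/-!
# Involution centralisers of shape `2 ^ (1 + 6) . SL(3, 2)`
-/

set_option autoImplicit false
set_option linter.unusedSectionVars false

namespace Cfsg.Agent.H11.Hs

open Cfsg.Agent.H89 Cfsg.Agent.H89.TG Cfsg.Agent.H89.Rec Subgroup
open Cfsg.Agent.H11.Hd (M s0 SL5 eqv)

variable {G : Type*} [Group G] [Finite G]

/-- An extraspecial group of order 128 with an automorphism of order seven has plus type. -/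
theorem plus {t : G} (h : XS 2 t) (hc : Nat.card G = 2 ^ (2 * 3 + 1)) {σ : MulAut G}
    (h7 : σ ^ 7 = 1) (h1 : σ ≠ 1) : ssum G = 2 ^ (3 + 1) := by
  classical
  have : Fact (Nat.Prime 7) := ⟨by norm_num⟩
  have cnt : ∀ p : G → Prop, (∀ x, p x → p (σ x)) →
      Nat.card {x // p x} ≡ Nat.card {x // p x ∧ σ x = x} [MOD 7] := fun p hp => by
    have := Fintype.ofFinite {x // p x}
    let f : Function.End {x // p x} := fun x => ⟨σ x, hp _ x.2⟩
    have hf : ∀ k x, ((f ^ k) x).1 = (σ ^ k) x := fun k x => by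
      induction k with
      | zero => rfl
      | succ k ih => rw [pow_succ', pow_succ', MulAut.mul_apply, ← ih]; rfl
    have := Equiv.Perm.card_fixedPoints_modEq (f := f) (p := 7) (n := 1)
      (funext fun x => Subtype.ext (by rw [hf, pow_one, h7]; rfl))
    rw [← Nat.card_eq_fintype_card, ← Nat.card_eq_fintype_card] at this
    refine this.trans (by
      rw [Nat.card_congr (β := {x // p x ∧ σ x = x}) ⟨fun x => ⟨x.1.1, x.1.2,
        congrArg Subtype.val x.2⟩, fun x => ⟨⟨x.1, x.2.1⟩, Subtype.ext x.2.2⟩, fun _ => rfl,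
        fun _ => rfl⟩])
  let D : Subgroup G := σ.toMonoidHom.eqLocus (MonoidHom.id G)
  have cD : ∀ p : G → Prop, (∀ x, p x → p (σ x)) → (∀ x ∈ D, p x) →
      Nat.card {x // p x} ≡ Nat.card D [MOD 7] := fun p hp h => (cnt p hp).trans (by
    rw [Nat.card_congr (Equiv.subtypeEquivRight (p := fun x => p x ∧ σ x = x)
      (q := (· ∈ D)) fun x => ⟨And.right, fun a => ⟨h x a, a⟩⟩)])
  have c1 : 128 ≡ Nat.card D [MOD 7] := by
    have := cD (fun _ => True) (fun _ => id) fun _ _ => trivial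
    rwa [Nat.card_subtype_true, hc] at this
  have tD : t ∈ D := by
    have : σ t ∈ center G := mem_center_iff.2 fun g => by
      simpa using congrArg σ (mem_center_iff.1 h.mem_center (σ.symm g))
    rw [h.center_eq, h.sq2.mem_iff] at this
    exact this.resolve_left (by simpa using h.ne_one)
  have m : ∀ u : D, u.1 ∈ zpowers t → u ∈ zpowers (⟨t, tD⟩ : D) := fun u ⟨k, hk⟩ =>
    ⟨k, Subtype.ext (by simpa using hk)⟩
  have hD : XS 2 (⟨t, tD⟩ : D) := by
    refine ⟨by rw [← orderOf_coe, h.ord], le_antisymm (fun d hd => m d ?_) (zpowers_le.2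
      (mem_center_iff.2 fun g => Subtype.ext (mem_center_iff.1 h.mem_center g.1))),
      fun a b => m _ (h.comm_mem a.1 b.1), fun a => m _ (h.pow_mem a.1)⟩
    rw [← h.center_eq]
    by_contra hn
    have c2 := (centralizer {d.1}).card_mul_index
    rw [h.index_centralizer_singleton hn, hc] at c2
    have c3 := cD (· ∈ centralizer {d.1}) (fun x hx => by
      rw [mem_centralizer_singleton_iff] at hx ⊢
      rw [← (show σ d.1 = d.1 from d.2), ← map_mul, hx, map_mul]) fun x a =>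
      mem_centralizer_singleton_iff.2 (congrArg Subtype.val (mem_center_iff.1 hd ⟨x, a⟩))
    rw [show Nat.card {x // x ∈ centralizer {d.1}} = 64 by omega] at c3
    exact absurd (c1.trans c3.symm) (by decide)
  obtain ⟨n, hn⟩ := hD.exists_card
  have c2 : Nat.card D = 2 := by
    have l := D.card_le_card_group
    rw [hn, hc, Nat.pow_le_pow_iff_right one_lt_two] at l
    obtain rfl | rfl | rfl | rfl : n = 0 ∨ n = 1 ∨ n = 2 ∨ n = 3 := by omega
    · exact hn
    · exact absurd (hn ▸ c1) (by decide)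
    · exact absurd (hn ▸ c1) (by decide)
    · exact (h1 (MulEquiv.ext fun x =>
        ((D.eq_top_of_card_eq (hn.trans hc.symm)).ge (mem_top x) :))).elim
  have c3 := cD (· ^ 2 = 1) (fun x hx => by rw [← map_pow, hx, map_one]) fun x a =>
    congrArg Subtype.val (c2 ▸ pow_card_eq_one' (x := (⟨x, a⟩ : D)))
  rw [c2] at c3
  refine (h.ssum_eq_or hc).resolve_right fun e => ?_
  rw [ssum_eq, hc] at e
  rw [show Nat.card {x : G // x ^ 2 = 1} = 56 by omega] at c3
  exact absurd c3 (by decide)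

/-- An element of order seven. -/
def c0 : Matrix.SpecialLinearGroup (Fin 3) (ZMod 2) := ⟨!![0, 0, 1; 1, 0, 1; 0, 1, 0], by decide⟩

theorem exists_inv : ∀ m, m < 7 → m ≠ 0 → ∃ a, a * a = 1 ∧ (a * c0 ^ m) ^ 3 = 1 := by
  intro m h1 h2
  obtain h | h | h : (m = 1 ∨ m = 6) ∨ (m = 2 ∨ m = 5) ∨ (m = 3 ∨ m = 4) := by omega
  · exact ⟨⟨!![0, 0, 1; 1, 1, 1; 1, 0, 0], by decide⟩, by rcases h with rfl | rfl <;> decide⟩
  · exact ⟨⟨!![0, 0, 1; 0, 1, 0; 1, 0, 0], by decide⟩, by rcases h with rfl | rfl <;> decide⟩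
  · exact ⟨⟨!![0, 1, 0; 1, 0, 0; 1, 1, 1], by decide⟩, by rcases h with rfl | rfl <;> decide⟩

theorem card_cent {t : G} {Q : Subgroup (centralizer {t} : Subgroup G)} [Q.Normal]
    (hc : Nat.card Q = 2 ^ 7)
    (ε : (centralizer {t} : Subgroup G) ⧸ Q ≃* Matrix.SpecialLinearGroup (Fin 3) (ZMod 2)) :
    Nat.card (centralizer {t} : Subgroup G) = 21504 := by
  have := S0242.result (F := ZMod 2) (q := 2) (by simp) 3 (by norm_num)
  rw [show 2 - 1 = 1 from rfl, one_mul] at this
  rw [Q.card_eq_card_quotient_mul_card_subgroup, hc, Nat.card_congr ε.toEquiv, this]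
  decide

/-- **The shape of the centraliser determines it**, unless the involution is isolated or its
conjugates in the centraliser are the involutions of an abelian group of order 16. -/
theorem shape {t : G} (ht : orderOf t = 2) (Q : Subgroup (centralizer {t} : Subgroup G)) [Q.Normal]
    (hQ : IsExtraspecial 2 Q) (hc : Nat.card Q = 2 ^ 7)
    (hC : centralizer (Q : Set (centralizer {t} : Subgroup G)) ≤ Q)
    (ε : (centralizer {t} : Subgroup G) ⧸ Q ≃* Matrix.SpecialLinearGroup (Fin 3) (ZMod 2)) :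
    Nonempty ((centralizer {t} : Subgroup G) ≃* (centralizer {s0} : Subgroup SL5)) ∨
      (∀ d, IsConj t d → Commute d t → d = t) ∨ Alt t := by
  have mc : ∀ {g : G}, g ∈ centralizer {t} ↔ Commute g t := mem_centralizer_singleton_iff
  have tQ : (⟨t, mc.2 rfl⟩ : (centralizer {t} : Subgroup G)) ∈ Q :=
    hC fun g _ => Subtype.ext (mc.1 g.2)
  have hX : XS 2 (⟨_, tQ⟩ : Q) := XS.of_isExtraspecial' hQ
    (mem_center_iff.2 fun g => Subtype.ext (Subtype.ext (mc.1 g.1.2)))
    fun a => H10.ne_one_of_orderOf_two ht (congrArg (fun y => y.1.1) a)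
  let π := ε.toMonoidHom.comp (QuotientGroup.mk' Q)
  have hπ : ∀ g, π g = 1 ↔ g ∈ Q := fun g =>
    ε.map_eq_one_iff.trans (QuotientGroup.eq_one_iff g)
  have sπ : Function.Surjective π := ε.surjective.comp (QuotientGroup.mk'_surjective Q)
  obtain ⟨c, hc0, h7⟩ : ∃ c, π c = c0 ∧ c ^ 7 = 1 := by
    obtain ⟨c, e⟩ := sπ c0
    have h1 : c ^ 7 ∈ Q := (hπ _).1 (by rw [map_pow, e]; decide)
    have h2 : ((⟨_, h1⟩ : Q) ^ 2) ^ 2 = 1 := by
      rcases hX.sq2.sq ⟨_, h1⟩ with a | a <;> rw [a]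
      exacts [one_pow _, hX.pow_eq_one]
    refine ⟨c ^ 8, by rw [map_pow, e]; decide, ?_⟩
    rw [show (c ^ 8) ^ 7 = (((c ^ 7) ^ 2) ^ 2) ^ 2 by simp only [← pow_mul],
      show ((c ^ 7) ^ 2) ^ 2 = 1 from congrArg Subtype.val h2, one_pow]
  have cQ : c ∉ Q := fun a => absurd (hc0 ▸ (hπ c).2 a) (by decide)
  obtain ⟨f, hf⟩ := XS.exists_mulEquiv_two 3 xsX hX (El.card TX) hc (ssumX.trans (plus hX hc
    (σ := MulAut.conjNormal c) (by rw [← map_pow, h7, map_one]) fun a => cQ (hC fun g hg =>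
      (mul_inv_eq_iff_eq_mul.1 (show c * g * c⁻¹ = g from
        (congrArg Subtype.val (DFunLike.congr_fun a (⟨g, hg⟩ : Q)) :))).symm)).symm)
  let ι : X →* G := ((centralizer {t}).subtype.comp Q.subtype).comp f.toMonoidHom
  have hz : ι z = t := congrArg (fun y : Q => y.1.1) hf
  have hr : ∀ g : (centralizer {t} : Subgroup G), g.1 ∈ ι.range ↔ g ∈ Q := fun g =>
    ⟨fun ⟨u, hu⟩ => (Subtype.ext hu : (f u).1 = g) ▸ (f u).2,
      fun hg => ⟨f.symm ⟨g, hg⟩, by simp [ι]⟩⟩
  have h : Su ι := ⟨Subtype.val_injective.comp (Subtype.val_injective.comp f.injective),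
    fun g hg u => ((hr _).2 (‹Q.Normal›.conj_mem _ (f u).2 ⟨g, mc.2 (hz ▸ hg)⟩)).imp
      fun _ => Eq.symm,
    fun g hg => (hr ⟨g, mc.2 (hz ▸ (hg z).commute)⟩).2 (hC fun y hy => by
      obtain ⟨u, hu⟩ := (hr y).2 hy
      have := (hg u).commute.symm
      rw [hu] at this
      exact Subtype.ext this), (congrArg (fun y => Nat.card (centralizer {y} : Subgroup G))
        hz).trans (card_cent hc ε)⟩
  obtain ⟨ι', h', e1, e2, m, m1, m2, hm⟩ := h.seven (c := c.1) (by rw [hz]; exact mc.1 c.2)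
    (congrArg Subtype.val h7) fun a => cQ ((hr c).1 a)
  obtain ⟨a, a1, a2⟩ := exists_inv m m1 m2
  obtain ⟨a, rfl⟩ := sπ a
  have := h'.cases (a := a.1) (by rw [e1, hz]; exact mc.1 a.2) hm
    (by rw [← pow_mul, mul_comm, pow_mul]; exact congrArg (fun y => y.1 ^ m) h7 |>.trans (one_pow _))
    (e2 ▸ (hr (a * a)).2 ((hπ _).1 (by rw [map_mul, a1])))
    (e2 ▸ (hr ((a * c ^ m) ^ 3)).2 ((hπ _).1 (by rw [map_pow, map_mul, map_pow, hc0, a2])))
  rw [e1, hz] at this
  exact this.imp_left fun ⟨e⟩ => ⟨e.trans eqv⟩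

/-- The case of at least sixteen conjugates in the centraliser. -/
theorem shape_of_ncard {t : G} (ht : orderOf t = 2) (Q : Subgroup (centralizer {t} : Subgroup G))
    [Q.Normal] (hQ : IsExtraspecial 2 Q) (hc : Nat.card Q = 2 ^ 7)
    (hC : centralizer (Q : Set (centralizer {t} : Subgroup G)) ≤ Q)
    (ε : (centralizer {t} : Subgroup G) ⧸ Q ≃* Matrix.SpecialLinearGroup (Fin 3) (ZMod 2))
    (hn : 16 < Set.ncard {x : (centralizer {t} : Subgroup G) | x ∈ Q ∧ IsConj t (x : G)}) :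
    Nonempty ((centralizer {t} : Subgroup G) ≃* (centralizer {s0} : Subgroup SL5)) := by
  have key : ∀ s : Set G, (∀ d, IsConj t d → Commute d t → d ∈ s) → 16 < s.ncard := fun s hs =>
    hn.trans_le (Set.ncard_le_ncard_of_injOn Subtype.val
      (fun x hx => hs _ hx.2 (mem_centralizer_singleton_iff.1 x.2)) Subtype.val_injective.injOn)
  rcases shape ht Q hQ hc hC ε with h | h | ⟨E, h1, -, h2⟩
  · exact h
  · exact absurd (key {t} h) (by simp)
  · exact absurd (key E fun d p q => ((h2 d).1 ⟨p, q⟩).1) (by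
      rw [← Nat.card_coe_set_eq]; exact h1.not_gt)

theorem Alt.dvd {t : G} (h : Alt t) : Nat.card {d // IsConj t d} % 16 = 15 := by
  obtain ⟨E, h1, h2, h3⟩ := h
  have key : ∀ u ∈ E, u ≠ 1 → ∀ d, IsConj t d → Commute d u → d ∈ E := fun u hu u1 d p q => by
    obtain ⟨g, rfl⟩ := isConj_iff.1 ((h3 u).2 ⟨hu, u1⟩).1
    have cj : ∀ {a b : G}, Commute a b → Commute (g⁻¹ * a * g) (g⁻¹ * b * g) :=
      fun h => by simpa using h.map (MulAut.conj g⁻¹).toMonoidHom
    have m : ∀ d, IsConj t d → Commute d (g * t * g⁻¹) → g⁻¹ * d * g ∈ E := fun d p q =>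
      ((h3 _).1 ⟨p.trans (isConj_iff.2 ⟨g⁻¹, by rw [inv_inv]⟩), by
        simpa [mul_assoc] using cj q⟩).1
    have hN : g⁻¹ ∈ normalizer (E : Set G) := mem_normalizer_fintype fun y hy => by
      rw [inv_inv]
      by_cases y1 : y = 1
      · simp [y1]
      · exact m y ((h3 y).2 ⟨hy, y1⟩).1 (h2 y hy _ hu)
    exact (mem_normalizer_iff.1 hN d).2 (by rw [inv_inv]; exact m d p q)
  let Y : Set G := {d | IsConj t d} \ E
  let _ : MulAction E Y :=
    { smul := fun u d => ⟨u * d * u⁻¹, d.2.1.trans (isConj_iff.2 ⟨u, rfl⟩), fun a =>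
        d.2.2 ((mem_normalizer_iff.1 (le_normalizer u.2) _).2 a)⟩
      one_smul := fun d => Subtype.ext (show (1 : G) * d * 1⁻¹ = d by simp)
      mul_smul := fun u v d => Subtype.ext (show (u * v : G) * d * (u * v : G)⁻¹ =
        u * (v * d * (v : G)⁻¹) * (u : G)⁻¹ by group) }
  have c1 := Nat.card_congr (MulAction.selfEquivOrbitsQuotientProd (G := E) (X := Y) fun d =>
    eq_bot_iff.2 fun u hu => by
      by_contra a
      exact d.2.2 (key u u.2 (fun b => a (Subtype.ext b)) d d.2.1 (mul_inv_eq_iff_eq_mul.1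
        (show (u : G) * d * (u : G)⁻¹ = d from congrArg Subtype.val hu)).symm))
  have c2 := Set.ncard_inter_add_ncard_sdiff_eq_ncard {d | IsConj t d} E
  have c3 : {d | IsConj t d} ∩ E = (E : Set G) \ {1} := Set.ext fun d =>
    ⟨fun a => (h3 d).1 ⟨a.1, h2 d a.2 t ((h3 t).1 ⟨IsConj.refl t, rfl⟩).1⟩,
      fun a => ⟨((h3 d).2 a).1, a.1⟩⟩
  rw [c3, Set.ncard_sdiff_singleton_of_mem E.one_mem] at c2
  rw [Nat.card_prod, h1] at c1
  change (E : Set G).ncard = 16 at h1
  change Y.ncard = _ at c1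
  change {d | IsConj t d}.ncard % 16 = 15
  rw [← c2, h1, c1]
  omega

/-- In a simple group an involution with a proper centraliser is not isolated. -/
theorem not_isolated [IsSimpleGroup G] {t : G} (ht : orderOf t = 2) (hne : centralizer {t} ≠ ⊤) :
    ¬ ∀ d, IsConj t d → Commute d t → d = t := fun h => by
  have mc : ∀ {g : G}, g ∈ centralizer {t} ↔ Commute g t := mem_centralizer_singleton_iff
  have e : Emb (centralizer {t}).subtype ⟨t, mc.2 rfl⟩ := ⟨Subtype.val_injective,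
    fun g hg => ⟨⟨g, mc.2 hg⟩, rfl⟩, fun u => Subtype.ext (mc.1 u.2),
    Subtype.ext (H10.mul_self_of_orderOf_two ht),
    fun a => H10.ne_one_of_orderOf_two ht (congrArg Subtype.val a)⟩
  obtain ⟨u, h1, g, hg⟩ := e.exists_inD (fun N hN ho => hN.eq_bot_or_eq_top.resolve_right fun a => by
    rw [a, card_top] at ho
    exact absurd (ht ▸ orderOf_dvd_natCard t) ho.not_two_dvd_nat) (by rwa [range_subtype])
  exact h1 (Subtype.ext (h _ (isConj_iff.2 ⟨g, hg⟩).symm (mc.1 u.2)))

/-- The Held group is determined by its order and the shape of an involution centraliser. -/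
theorem iso_he [IsSimpleGroup G] {t : G} (ht : orderOf t = 2)
    (Q : Subgroup (centralizer {t} : Subgroup G)) [Q.Normal]
    (hQ : IsExtraspecial 2 Q) (hc : Nat.card Q = 2 ^ 7)
    (hC : centralizer (Q : Set (centralizer {t} : Subgroup G)) ≤ Q)
    (ε : (centralizer {t} : Subgroup G) ⧸ Q ≃* Matrix.SpecialLinearGroup (Fin 3) (ZMod 2))
    (hG : Nat.card G = 4030387200) : Nonempty (G ≃* Spor.He) := by
  have c := card_cent hc ε
  rcases shape ht Q hQ hc hC ε with ⟨⟨e⟩⟩ | h | h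
  · rcases Hd.held_simple ht e with ⟨⟨f⟩⟩ | ⟨⟨f⟩⟩ | h
    · exact absurd ((Nat.card_congr f.toEquiv).trans Hd.card_SL5) (by rw [hG]; norm_num)
    · exact absurd ((Nat.card_congr f.toEquiv).trans H42.card_M24) (by rw [hG]; norm_num)
    · exact h
  · exact absurd h (not_isolated ht fun a => by rw [a, card_top, hG] at c; norm_num at c)
  · have h1 := H9.card_isConj_mul_card_centralizer t
    have h2 := h.dvd
    rw [c, hG] at h1
    omega

end Cfsg.Agent.H11.Hs
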