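import Mathlib
import Cfsg.Agent.H11.HdMod
import Cfsg.Agent.H89.XS2

/-!
# The extraspecial group of order 128 of plus type and its automorphisms
-/

set_option autoImplicit false
set_option maxRecDepth 100000
set_option exponentiation.threshold 20000

namespace Cfsg.Agent.H11.Hs

open Cfsg.Agent.H89 Cfsg.Agent.H89.TG Cfsg.Agent.H89.Rec Subgroup
open Cfsg.Agent.H11.Hd (M anyL anyL_iff cd cd_inj cd_mul cd_el el fixC mu ONE)
open scoped Cfsg.Agent.H11.Hd commutatorElement

/-- A table that is copied from a group. -/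
theorem ok_of_dec {T : Tab} {K : Type*} [Group K] (d : ℕ → K) (h0 : 0 < T.n) (h1 : d 0 = 1)
    (hl : ∀ a, a < T.n → ∀ b, b < T.n → T.mu a b < T.n ∧ d (T.mu a b) = d a * d b)
    (hi : ∀ a, a < T.n → T.iv a < T.n ∧ T.mu (T.iv a) a = 0)
    (hj : ∀ a, a < T.n → ∀ b, b < T.n → d a = d b → a = b) : T.OK := by
  refine ⟨h0, fun a ha b hb => (hl a ha b hb).1, fun a ha => (hi a ha).1,
    fun a ha b hb c hc => ?_, fun a ha => ?_, fun a ha => (hi a ha).2⟩
  · have p := hl a ha b hb
    have q := hl b hb c hc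
    refine hj _ (hl _ p.1 c hc).1 _ (hl a ha _ q.1).1 ?_
    rw [(hl _ p.1 c hc).2, (hl a ha _ q.1).2, p.2, q.2, mul_assoc]
  · exact hj _ (hl 0 h0 a ha).1 a ha (by rw [(hl 0 h0 a ha).2, h1, one_mul])

theorem nle_iff {a b : ℕ} : a ≤ b ↔ Nat.ble a b = true := Nat.ble_eq.symm ▸ Iff.rfl

theorem neq_iff {a b : ℕ} : a = b ↔ Nat.beq a b = true := Nat.beq_eq.symm ▸ Iff.rfl

/-- Decide a bounded statement about numbers. -/
macro "ndec" : tactic =>
  `(tactic| (simp only [ne_eq, nle_iff, neq_iff, band_iff, bor_iff,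
      bimp_iff, bnot_iff, bfalse_iff, biff_iff, allF_iff, anyF_iff, allL_iff,
      anyL_iff]; decide +kernel))

/-- Decide a statement about a table group. -/
macro "td" : tactic => `(tactic| tdec [neq_iff])

/-- The parity of the three lowest bits. -/
noncomputable def par (k : ℕ) : ℕ :=
  Nat.land (Nat.shiftRight (nat_lit 150) (Nat.land k (nat_lit 7))) (nat_lit 1)

/-- The product. -/
noncomputable def mq (A B : ℕ) : ℕ := force A fun a => force B fun b => Nat.xor (Nat.xor a b)
  (Nat.shiftLeft (par (Nat.land a (Nat.shiftRight b (nat_lit 3)))) (nat_lit 6))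

/-- The inverse. -/
noncomputable def iq (A : ℕ) : ℕ := force A fun a => Nat.xor a
  (Nat.shiftLeft (par (Nat.land a (Nat.shiftRight a (nat_lit 3)))) (nat_lit 6))

/-- The table. -/
noncomputable def TX : Tab := ⟨nat_lit 128, mq, iq⟩

/-- The code of the matrix. -/
noncomputable def code (i : ℕ) : ℕ := Nat.xor (Nat.xor (Nat.xor ONE
  (Nat.land (Nat.mul (Nat.land i 7) (nat_lit 0x2220)) (nat_lit 0x8420)))
  (Nat.shiftLeft (Nat.land i 56) 18)) (Nat.shiftLeft (Nat.land i 64) 14)

theorem cd_code : ∀ a, a < 128 → cd (el (code a)) = code a := by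
  simp only [cd_el]; ndec

theorem code_mul : ∀ a, a < 128 → ∀ b, b < 128 → mq a b < 128 ∧
    el (code (mq a b)) = el (code a) * el (code b) := by
  have : ∀ a, a < 128 → ∀ b, b < 128 → mq a b ≤ 127 ∧ code (mq a b) = mu (code a) (code b) := by
    ndec
  exact fun a ha b hb => ⟨Nat.lt_succ_of_le (this a ha b hb).1, cd_inj (by
    rw [cd_mul, cd_code a ha, cd_code b hb, cd_code _ (Nat.lt_succ_of_le (this a ha b hb).1),
      (this a ha b hb).2])⟩

theorem code_inj : ∀ a, a < 128 → ∀ b, b < 128 → el (code a) = el (code b) → a = b := by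
  have : ∀ a, a < 128 → ∀ b, b < 128 → code a = code b → a = b := by ndec
  exact fun a ha b hb e => this a ha b hb (by rw [← cd_code a ha, e, cd_code b hb])

instance factX : Fact TX.OK := ⟨ok_of_dec (fun a => el (code a)) (by decide) (by md) code_mul
  (fun a ha => ((show ∀ a, a < 128 → iq a ≤ 127 ∧ mq (iq a) a = 0 by ndec) a ha).imp_left
    Nat.lt_succ_of_le) code_inj⟩

/-- The extraspecial group. -/
abbrev X : Type := El TX

/-- The embedding into the centraliser of the transvection. -/
noncomputable def κ : X →* M := MonoidHom.mk' (fun u => el (code u.val))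
  fun a b => (code_mul _ a.2 _ b.2).2

theorem κ_inj : Function.Injective κ := fun a b e => El.ext (code_inj _ a.2 _ b.2 e)

theorem cd_κ (u : X) : cd (κ u) = code u.val := cd_code _ u.2

/-- The element with a given number. -/
noncomputable abbrev e (k : ℕ) : X := El.c TX k

/-- The central involution. -/
noncomputable abbrev z : X := e 64

theorem zz : z * z = 1 := by td
theorem z1 : z ≠ 1 := by td
theorem zc : ∀ u : X, Commute u z := by td
theorem cenX : ∀ u : X, (∀ v, Commute v u) → u = 1 ∨ u = z := by td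

theorem xsX : XS 2 z := by
  have h : ∀ u : X, u ∈ zpowers z ↔ u = 1 ∨ u = z := fun _ => mem_zpowers_iff_of_mul_self zz
  refine ⟨H10.orderOf_eq_two_of zz z1, le_antisymm (fun u hu => (h u).2 (cenX u
    (mem_center_iff.1 hu))) (zpowers_le.2 (mem_center_iff.2 zc)), ?_, ?_⟩
  · simp only [h, commutatorElement_def]; td
  · simp only [h]; td

theorem ssumX : ssum X = 2 ^ (3 + 1) := by
  rw [ssum_eq, El.card, card_eq_cntF (p := fun i => Nat.beq (pw mq i 2) 0) fun u => by
    rw [El.eq_iff, El.val_pow]; rfl]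
  decide +kernel

/-- A map given by a table. -/
noncomputable def tb (t i : ℕ) : ℕ := fld (nat_lit 7) (nat_lit 127) t i

theorem tb_lt (t i : ℕ) : tb t i < 128 := Nat.lt_succ_of_le Nat.and_le_right

/-- The automorphism of order seven. -/
def gT : ℕ := nat_lit 0xe9df8f2edd79f0b97ecdabd76dd8a95e8d2ad569d0f9ffcfafdf7df8993e4ca9d365c8c99f0e2cd971e0d9bf4eaddb75e8891e0c28d161c068dd8b26cd59b0387cc9a3c74d98285c8922c5499078fdcba7cf5db8183c48a1c34588489d0a24c951a058bd4aa5cb55a8081c0820c14180

/-- Its inverse. -/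
def gI : ℕ := nat_lit 0xcd8f167c3932e0fdefd7ff3f3ef89d2e54f93326c8ad4e957a352ad0edcf977e3d3af0ddaf56fd3b36e8bd6ed5fb372ed88d0e14783122c04c8d12742912a07cedd3f72f1eb81c2c50f12306882c4c9172250a906ccd93762d1ab05cad52f52b16a83c6cd1f3270e980c0c1070210280

/-- The automorphism of order seven. -/
noncomputable def γ : MulAut X where
  toFun u := ⟨tb gT u.val, tb_lt _ _⟩
  invFun u := ⟨tb gI u.val, tb_lt _ _⟩
  left_inv := by unfold Function.LeftInverse; td
  right_inv := by unfold Function.RightInverse Function.LeftInverse; td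
  map_mul' := by td

theorem val_γ (u : X) : (γ u).val = tb gT u.val := rfl

/-- Iteration. -/
noncomputable def itr (f : ℕ → ℕ) (k a : ℕ) : ℕ :=
  Nat.rec (motive := fun _ => ℕ) a (fun _ ih => f ih) k

theorem val_γ_pow (k : ℕ) (u : X) : ((γ ^ k) u).val = itr (tb gT) k u.val := by
  induction k with
  | zero => rfl
  | succ k ih => rw [pow_succ', MulAut.mul_apply, val_γ, ih]; rfl

theorem γ7 : γ ^ 7 = 1 := MulEquiv.ext (by simp only [MulAut.one_apply]; tdec [val_γ_pow])

theorem γ1 : γ ≠ 1 := fun h => absurd (DFunLike.congr_fun h (e 1)) (by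
  rw [MulAut.one_apply]; tdec [val_γ])

/-- Words in the standard generators. -/
def W1 : ℕ := nat_lit 0x768eb0003b5ac000eceb000077ac000e8eb000075ac0001ceb00000fac000ed1d400076b50001d9d40000ef50001d1d40000eb5000039d400001f5000ed1d000076b40001d9d00000ef40001d1d00000eb4000039d000001f40001da380000ed600003b3800001de00003a3800001d600000738000003e000ed1b000076ac0001d9b00000eec0001d1b00000eac000039b000001ec0001da340000ed500003b3400001dd00003a3400001d500000734000003d0001da300000ed400003b3000001dc00003a3000001d400000730000003c00003b4400001da00000764000003b00000744000003a000000e4000000700068eb000035ac0000ceb000007ac00008eb000005ac00000eb000001ac0000d1d400006b5000019d400000f5000011d400000b5000001d400000350000d1d000006b4000019d000000f4000011d000000b4000001d0000003400001a3800000d600000338000001e0000023800000160000003800000060000d1b000006ac000019b000000ec000011b000000ac000001b0000002c00001a3400000d500000334000001d00000234000001500000034000000500001a3000000d400000330000001c00000230000001400000030000000400000344000001a000000640000003000000440000002000000040000000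

/-- Words in two orbits of the automorphism. -/
def W2 : ℕ := nat_lit 0x3564000019d000033a80006ad1000006540000d51000006a40000c6900019d840000cec0001ac6800358d1000035880006b11000035300006a61000003a4000002b000003a80000ad1000000a800000a9000000a4000006900002c64000016300002c6800058d1000005500000aa1000005300000a6100001e8400001a3000034680003d11000006500000d11000006840000c61000006640000033000003c80000791000000c800001910000164400000b20000046400003190000046800005190000008800000a100000084000006100002ba4000015d00002ba800057510000045000008a1000004300000861000033a400001ab000035680006751000006a80000ca90000063400000350001ac640000d6300019d880033b11000035500006aa10000358400001ac00000564000001d00000568000075100000054000015100000034000000500001d8400000ec00001d880003b11000005880000b1100000584000002c0000346400000f400001e8800068d1000006880000ca1000006300000034000003c4000001e000006680000cd10000005800000b1000000c400000060000018c00000230000028c00008d10000005000001110000003000000040000006400000030000006800000d1000000080000011000000040000000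

theorem ext1 : ∀ u : X, ext W1 [e 1, e 2, e 4, e 8, e 16, e 32, z] u = u := by td

theorem ext2 : ∀ u : X, ext W2 [e 1, γ (e 1), γ (γ (e 1)), e 8, γ (e 8), γ (γ (e 8))] u = u := by
  tdec [val_γ]

theorem cent_γ {β : MulAut X} (h : Commute β γ) : ∃ k, k < 7 ∧ β = γ ^ k := by
  have h1 : ∀ {β : MulAut X}, Commute β γ → ∀ u, β (γ u) = γ (β u) := fun h u =>
    DFunLike.congr_fun h u
  have h2 : ∀ u v, Commute (β u) (β v) ↔ Commute u v := fun u v => by
    rw [commute_iff_eq, ← map_mul, ← map_mul, β.injective.eq_iff]; rfl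
  have key : ∀ p : X, γ (γ (γ p)) = p * γ (γ p) → ∀ q : X, γ (γ (γ q)) = q * γ q →
      ¬ Commute p q → ¬ Commute (γ p) q → Commute (γ (γ p)) q →
      ∃ k, k < 7 ∧ p = (γ ^ k) (e 1) ∧ q = (γ ^ k) (e 8) := by tdec [val_γ, val_γ_pow]
  obtain ⟨k, hk, e1, e2⟩ := key (β (e 1))
    (by simp only [← h1 h, ← map_mul, β.injective.eq_iff]; tdec [val_γ]) (β (e 8))
    (by simp only [← h1 h, ← map_mul, β.injective.eq_iff]; tdec [val_γ])
    (by rw [h2]; td) (by rw [← h1 h, h2]; tdec [val_γ])
    (by rw [← h1 h, ← h1 h, h2]; tdec [val_γ])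
  refine ⟨k, hk, MulEquiv.ext fun u => ?_⟩
  have h3 := h1 ((Commute.refl γ).pow_left k)
  have a := map_ext β.toMonoidHom (ext2 u)
  have b := map_ext (γ ^ k).toMonoidHom (ext2 u)
  simp only [List.map_cons, List.map_nil, MulEquiv.coe_toMonoidHom, h1 h, h3, e1, e2] at a b
  exact a.trans b.symm

/-- An automorphism of order seven is conjugate to a power of `γ`. -/
theorem conj_γ {σ : MulAut X} (h : σ ^ 7 = 1) : ∃ β k, k < 7 ∧ β * σ * β⁻¹ = γ ^ k := by
  have : Fact (Nat.Prime 7) := ⟨by norm_num⟩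
  obtain ⟨β, hβ⟩ := exists_conj_commute γ7 γ1 h fun c hc h1 _ g hg => by
    obtain ⟨k, hk, rfl⟩ := cent_γ hc
    obtain ⟨m, hm⟩ : ∃ m, k * m % 7 = 1 := by
      have h0 : k ≠ 0 := by rintro rfl; exact h1 (pow_zero _)
      have : ∀ k < 7, k ≠ 0 → ∃ m < 7, k * m % 7 = 1 := by decide
      exact (this k hk h0).imp fun _ => And.right
    have := hg.pow_right m
    rwa [← pow_mul, pow_eq_pow_mod _ γ7, hm, pow_one] at this
  exact ⟨β, cent_γ hβ⟩

/-! ### The action modulo the centre -/

/-- The class modulo the centre. -/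
noncomputable def lo (u : X) : ℕ := Nat.land u.val (nat_lit 63)

theorem lo_lt (u : X) : lo u < 64 := Nat.lt_succ_of_le Nat.and_le_right

/-- The alternating form. -/
noncomputable def bf (v w : ℕ) : ℕ := par (Nat.xor (Nat.land v (Nat.shiftRight w (nat_lit 3)))
  (Nat.land w (Nat.shiftRight v (nat_lit 3))))

theorem lo_mul : ∀ u v : X, lo (u * v) = Nat.xor (lo u) (lo v) := by tdec [lo, neq_iff]

theorem lo_sq : ∀ u : X, u * u = 1 ↔
    par (Nat.land (lo u) (Nat.shiftRight (lo u) (nat_lit 3))) = 0 := by tdec [lo, neq_iff]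

theorem lo_cm : ∀ u v : X, (Commute u v ↔ bf (lo u) (lo v) = 0) ∧
    (¬ Commute u v ↔ bf (lo u) (lo v) = 1) := by tdec [lo, neq_iff]

theorem lo_conj : ∀ q u : X, lo (q * u * q⁻¹) = lo u := by tdec [lo, neq_iff]

theorem lo_γ : ∀ u : X, lo (γ u) = Nat.land (tb gT (lo u)) (nat_lit 63) := by
  tdec [lo, neq_iff, val_γ]

theorem bf_eq {u v u' v' : X} (h : Commute u v ↔ Commute u' v') :
    bf (lo u) (lo v) = bf (lo u') (lo v') := by
  by_cases a : Commute u v
  · rw [(lo_cm u v).1.1 a, (lo_cm u' v').1.1 (h.1 a)]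
  · rw [(lo_cm u v).2.1 a, (lo_cm u' v').2.1 (mt h.2 a)]

/-- The test for the image `y` of the basis vector `v`. -/
noncomputable def okv (v y : ℕ) (l : List (ℕ × ℕ)) : Bool :=
  band (Nat.beq (par (Nat.land y (Nat.shiftRight y (nat_lit 3)))) 0)
    (allL (fun p => band (Nat.beq (bf y p.1) (bf v p.2)) (Nat.beq (bf y p.2) (bf v p.1))) l)

/-- The linear map with given images of the basis vectors. -/
noncomputable def lin (l : List ℕ) (V : ℕ) : ℕ :=
  force (fld 30 1073741823 W1 V) (evP Nat.xor 0 l 10)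

/-- The map `γ` modulo the centre. -/
noncomputable def gl (v : ℕ) : ℕ := Nat.land (tb gT v) (nat_lit 63)

/-- The split action. -/
def aA : ℕ := nat_lit 0xddbf6ecd5af4e8eddfaf4e5cf8f0fdffefcf5efcf8cd9f2e4c58f0e09d3e6cc952e4c8ad5ead4a54e8d0bd7eedcb56ecd88d1e2c4850e0c05cbd6ac54ad4a86cddab464cd8b07cfdebc74edcb84c9d2a4448d0a01c3c68c142c4882c5ca94244c8903c7ce9c346cc980c1c284040c080

/-- The second action. -/
def aB : ℕ := nat_lit 0xd3a152b5ab376f6cdfaf4e5cd8b0f1e5dba78f7ffecf99225468b06110265ca993478e2e5aa55a7488113262d5bbb70f1f8d1c284040e0c052a356bdbb172fedddab464cf8f070e7dfaf9f5fbe4e9b265c789021912458a18367ceaf58a15264a851b360d1b3a72f5f0c1e2c4850c080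

/-- The third action. -/
def aC : ℕ := nat_lit 0xfefb52b39764880f18953c8958f0be7a50b79f74a84f9997388148d0debbd3b1936c982f58143e8d50e09e3ad1b59b7cb86fd9163a8540c07ff956bb8744c88e1a91349978b03f7854bf8f54e8ce9b93309168905fb9d7b9834cd8ae5a10369d70a01f38d5bd8b5cf8eedb1232956080

theorem search : ∀ y0, y0 < 64 → okv 1 y0 [] = true → ∀ y3, y3 < 64 → okv 8 y3 [(1, y0)] = true →
    ∀ y1, y1 < 64 → okv 2 y1 [(1, y0), (8, y3)] = true →
    ∀ y4, y4 < 64 → okv 16 y4 [(1, y0), (8, y3), (2, y1)] = true →
    ∀ y2, y2 < 64 → okv 4 y2 [(1, y0), (8, y3), (2, y1), (16, y4)] = true →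
    ∀ y5, y5 < 64 → okv 32 y5 [(1, y0), (8, y3), (2, y1), (16, y4), (4, y2)] = true →
    (∀ v ∈ [1, 2, 4, 8, 16, 32], itr (fun a => lin [y0, y1, y2, y3, y4, y5, 0] (gl a)) 3 v = v) →
    ∃ k, k < 7 ∧ ∃ t, t ∈ [aA, aB, aC] ∧ ∀ v ∈ [1, 2, 4, 8, 16, 32],
      itr gl k (lin [y0, y1, y2, y3, y4, y5, 0] (itr gl (7 - k) v)) =
        Nat.land (tb t v) (nat_lit 63) := by ndec

end Cfsg.Agent.H11.Hs
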