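import Mathlib
import Cfsg.Agent.H11.HsX

/-!
# Extensions of the extraspecial group of order 128 by `SL(3, 2)`: the action
-/

set_option autoImplicit false
set_option maxRecDepth 100000
set_option exponentiation.threshold 20000
set_option linter.unusedSectionVars false

namespace Cfsg.Agent.H11.Hs

open Cfsg.Agent.H89 Cfsg.Agent.H89.TG Cfsg.Agent.H89.Rec Subgroup
open Cfsg.Agent.H11.Hd (anyL anyL_iff)
open scoped commutatorElement

variable {G : Type*} [Group G]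

/-- The image of `ι` is a self-centralising normal subgroup of the centraliser of `ι z`. -/
structure Su (ι : X →* G) : Prop where
  inj : Function.Injective ι
  nrm : ∀ g, Commute g (ι z) → ∀ u, ∃ v, Cj ι g u v
  cen : ∀ g, (∀ u, Cj ι g u u) → ∃ v, ι v = g
  card : Nat.card (centralizer {ι z} : Subgroup G) = 21504

/-- The element `g` acts on numbers by the map `f`. -/
def Ac (ι : X →* G) (g : G) (f : ℕ → ℕ) : Prop := ∀ u, ∃ v : X, v.val = f u.val ∧ Cj ι g u v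

variable {ι : X →* G}

namespace Ac

variable {g g' : G} {f f' : ℕ → ℕ}

theorem mul (h : Ac ι g f) (h' : Ac ι g' f') : Ac ι (g * g') fun a => f (f' a) := fun u =>
  let ⟨_, a, b⟩ := h' u; let ⟨w, c, d⟩ := h _; ⟨w, c.trans (congrArg f a), b.trans d⟩

theorem one : Ac ι 1 fun a => a := fun u => ⟨u, rfl, Cj.refl u⟩

theorem pow (h : Ac ι g f) (k : ℕ) : Ac ι (g ^ k) (itr f k) := by
  induction k with
  | zero => rw [pow_zero]; exact one
  | succ k ih => rw [pow_succ']; exact h.mul ih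

theorem congr (h : Ac ι g f) (e : ∀ a, a < 128 → f a = f' a) : Ac ι g f' := fun u =>
  let ⟨v, a, b⟩ := h u; ⟨v, a.trans (e _ u.2), b⟩

theorem cj (h : Ac ι g f) {u v : X} (e : f u.val = v.val) : Cj ι g u v :=
  let ⟨_, a, b⟩ := h u; El.ext (a.trans e) ▸ b

theorem inv (h : Ac ι g f) {t : ℕ} (e : ∀ a, a < 128 → f (tb t a) = a) : Ac ι g⁻¹ (tb t) :=
  fun u => ⟨⟨_, tb_lt t u.val⟩, rfl, (h.cj (e _ u.2)).symm⟩

theorem comm (h : Ac ι g f) (e : f 64 = 64) : Commute g (ι z) := (h.cj (u := z) (v := z) e).commute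

theorem of_aut {σ : MulAut X} (h : ∀ u, Cj ι g u (σ u)) (e : ∀ u, (σ u).val = f u.val) :
    Ac ι g f := fun u => ⟨_, e u, h u⟩

theorem of_gens {t : ℕ} (h : ∀ v ∈ [1, 2, 4, 8, 16, 32, 64], Cj ι g (e v) (e (tb t v)))
    (ht : ∀ u : X, (ext W1 [e (tb t 1), e (tb t 2), e (tb t 4), e (tb t 8), e (tb t 16),
      e (tb t 32), e (tb t 64)] u).val = tb t u.val) : Ac ι g (tb t) := fun u =>
  ⟨_, ht u, cj_ext (by simpa only [List.forall₂_cons, List.forall_mem_cons, List.not_mem_nil,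
    List.forall₂_nil_left_iff, IsEmpty.forall_iff, implies_true] using h) (ext1 u)⟩

end Ac

namespace Su

variable (h : Su ι)
include h

theorem zz' : ι z * ι z = 1 := by rw [← map_mul, zz, map_one]

theorem z1' : ι z ≠ 1 := fun e => z1 (h.inj (e.trans (map_one ι).symm))

theorem triv' {g : G} (hg : ∀ u, Cj ι g u u) : g = 1 ∨ g = ι z := by
  obtain ⟨v, rfl⟩ := h.cen g hg
  refine (cenX v fun u => ?_).imp (fun e => by rw [e, map_one]) (congrArg ι)
  exact (mul_inv_eq_iff_eq_mul.1 ((hg u).of_map h.inj)).symm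

theorem triv {g : G} {f : ℕ → ℕ} (hg : Ac ι g f) (e : ∀ a, a < 128 → f a = a) :
    g = 1 ∨ g = ι z := h.triv' fun u => hg.cj (e _ u.2)

theorem eqv {g g' : G} {f f' : ℕ → ℕ} (hg : Ac ι g f) (hg' : Ac ι g' f')
    (e : ∀ a, a < 128 → f a = f' a) : g = g' ∨ g = g' * ι z := by
  have := h.triv' (g := g'⁻¹ * g) fun u => by
    obtain ⟨v, a, b⟩ := hg u
    exact b.trans (hg'.cj ((e _ u.2).symm.trans a.symm)).symm
  simpa only [inv_mul_eq_iff_eq_mul, mul_one] using this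

theorem exists_aut {g : G} (hg : Commute g (ι z)) : ∃ σ : MulAut X, ∀ u, Cj ι g u (σ u) := by
  choose a ha using h.nrm g hg
  choose b hb using h.nrm g⁻¹ hg.inv_left
  exact ⟨⟨⟨a, b, fun u => (hb _).uniq h.inj (ha u).symm, fun u => (ha _).uniq h.inj (hb u).symm'⟩,
    fun u v => (ha _).uniq h.inj ((ha u).mul (ha v))⟩, ha⟩

omit h in
theorem aut_z (β : MulAut X) : β z = z :=
  (cenX _ fun v => by simpa using (zc (β.symm v)).map β).resolve_left (by simpa using z1)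

theorem comp (β : MulAut X) : Su (ι.comp β.toMonoidHom) where
  inj := h.inj.comp β.injective
  nrm g hg u := by
    obtain ⟨v, hv⟩ := h.nrm g (by simpa [aut_z] using hg) (β u)
    exact ⟨β.symm v, by simpa [Cj] using hv⟩
  cen g hg := by
    obtain ⟨v, hv⟩ := h.cen g fun u => by simpa [Cj] using hg (β.symm u)
    exact ⟨β.symm v, by simpa using hv⟩
  card := by simpa [aut_z] using h.card

/-- The action of an element of order seven. -/
theorem seven {c : G} (hc : Commute c (ι z)) (h7 : c ^ 7 = 1) (hn : c ∉ ι.range) :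
    ∃ ι' : X →* G, Su ι' ∧ ι' z = ι z ∧ ι'.range = ι.range ∧
      ∃ m, m < 7 ∧ m ≠ 0 ∧ Ac ι' (c ^ m) (tb gT) := by
  obtain ⟨σ, hσ⟩ := h.exists_aut hc
  have hp : ∀ {ι : X →* G} {σ : MulAut X}, (∀ u, Cj ι c u (σ u)) →
      ∀ k u, Cj ι (c ^ k) u ((σ ^ k) u) := fun hσ k => by
    induction k with
    | zero => intro u; rw [pow_zero]; exact Cj.refl u
    | succ k ih => intro u; rw [pow_succ', pow_succ']; exact (ih u).trans (hσ _)
  obtain ⟨β, k, hk, e⟩ := conj_γ (σ := σ) (MulEquiv.ext fun u =>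
    (hp hσ 7 u).uniq h.inj (h7 ▸ Cj.refl u))
  have h1 : ∀ u, Cj (ι.comp β⁻¹.toMonoidHom) c u ((γ ^ k) u) := fun u => by
    rw [← e]; simpa [Cj] using hσ (β⁻¹ u)
  have hr : (ι.comp β⁻¹.toMonoidHom).range = ι.range := by
    rw [MonoidHom.range_comp, MonoidHom.range_eq_top.2 (β⁻¹).surjective, MonoidHom.range_eq_map]
  have h0 : k ≠ 0 := by
    rintro rfl
    exact hn (hr ▸ (h.comp β⁻¹).cen c h1)
  obtain ⟨m, hm, h2, h3⟩ := (show ∀ k < 7, k ≠ 0 → ∃ m < 7, m ≠ 0 ∧ k * m % 7 = 1 by decide) k hk h0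
  refine ⟨_, h.comp β⁻¹, congrArg ι (aut_z _), hr, m, hm, h2, Ac.of_aut (σ := γ) (fun u => ?_)
    val_γ⟩
  have := hp h1 m u
  rwa [← pow_mul, pow_eq_pow_mod _ γ7, h3, pow_one] at this

theorem lo_eq {g : G} (hg : g ∈ ι.range) {u v : X} (e : Cj ι g u v) : lo v = lo u := by
  obtain ⟨q, rfl⟩ := hg
  rw [← e.of_map h.inj, lo_conj]

/-- The three actions. -/
theorem three {a c : G} (ha : Commute a (ι z)) (hc : Ac ι c (tb gT))
    (h2 : a * a ∈ ι.range) (h3 : (a * c) ^ 3 ∈ ι.range) :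
    ∃ a, ∃ t ∈ [aA, aB, aC], Ac ι a (tb t) := by
  obtain ⟨σ, hσ⟩ := h.exists_aut ha
  have hl : ∀ u, lo (σ u) = lin [lo (σ (e 1)), lo (σ (e 2)), lo (σ (e 4)), lo (σ (e 8)),
      lo (σ (e 16)), lo (σ (e 32)), 0] (lo u) := fun u => by
    have k1 : ∀ u : X, u = e (lo u) ∨ u = e (lo u) * z := by tdec [lo]
    have k2 : ∀ u : X, lo (u * z) = lo u ∧ Nat.mod (lo u) TX.n = lo u := by tdec [lo, neq_iff]
    have k3 := ext1 (e (lo u))
    have k4 := evP_rel (mu := (· * ·)) (nu := Nat.xor) (r := fun a b => lo (σ a) = b) (e := 1)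
      (e' := 0) (by rw [map_one]; rfl) (fun _ _ _ _ p q => by rw [map_mul, lo_mul, p, q])
      (l := [e 1, e 2, e 4, e 8, e 16, e 32, z]) (l' := [lo (σ (e 1)), lo (σ (e 2)),
        lo (σ (e 4)), lo (σ (e 8)), lo (σ (e 16)), lo (σ (e 32)), 0]) (by
          simp only [List.forall₂_cons, List.forall₂_nil_left_iff, aut_z, true_and, and_true]
          rfl) 10 (fld 30 1073741823 W1 (e (lo u)).val)
    change lo (σ (ext W1 _ _)) = lin _ (Nat.mod (lo u) TX.n) at k4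
    rw [k3, (k2 u).2] at k4
    rw [← k4]
    rcases k1 u with p | p <;> conv_lhs => rw [p]
    rw [map_mul, aut_z, (k2 _).1]
  have hγ : ∀ u, Cj ι c u (γ u) := fun u => hc.cj rfl
  have hm : ∀ u v, Commute (σ u) (σ v) ↔ Commute u v := fun u v => by
    rw [commute_iff_eq, ← map_mul, ← map_mul, σ.injective.eq_iff]; rfl
  have ok : ∀ (v : X) (l : List X), v * v = 1 →
      okv (lo v) (lo (σ v)) (l.map fun w => (lo w, lo (σ w))) = true := fun v l hv => by
    rw [okv, ← band_iff, ← allL_iff]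
    refine ⟨neq_iff.1 ((lo_sq _).1 (by rw [← map_mul, hv, map_one])), fun p hp => ?_⟩
    obtain ⟨w, -, rfl⟩ := List.mem_map.1 hp
    refine band_iff.1 ⟨neq_iff.1 ?_, neq_iff.1 (bf_eq (hm v w))⟩
    rw [← h.lo_eq h2 ((hσ v).trans (hσ _))]
    exact bf_eq (hm _ _).symm
  have lg : ∀ k u, lo ((γ ^ k) u) = itr gl k (lo u) := fun k u => by
    induction k with
    | zero => rfl
    | succ k ih => rw [pow_succ', MulAut.mul_apply, lo_γ, ih]; rfl
  have le : ∀ v ∈ [1, 2, 4, 8, 16, 32], lo (e v) = v := by decide +kernel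
  obtain ⟨k, hk, t, ht, H⟩ := search _ (lo_lt _) (ok (e 1) [] (by td)) _ (lo_lt _)
    (ok (e 8) [e 1] (by td)) _ (lo_lt _) (ok (e 2) [e 1, e 8] (by td)) _ (lo_lt _)
    (ok (e 16) [e 1, e 8, e 2] (by td)) _ (lo_lt _) (ok (e 4) [e 1, e 8, e 2, e 16] (by td)) _
    (lo_lt _) (ok (e 32) [e 1, e 8, e 2, e 16, e 4] (by td)) fun v hv => by
      have p := fun u => (hγ u).trans (hσ _)
      have q := h.lo_eq (pow_three (a * c) ▸ h3) (((p (e v)).trans (p _)).trans (p _) |> fun x => by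
        rwa [← mul_assoc, mul_assoc (a * c)] at x)
      rw [hl, lo_γ, hl (γ _), lo_γ, hl (γ _), lo_γ, le v hv] at q
      exact q
  have adj : ∀ t ∈ [aA, aB, aC], ∀ y0 : X, lo y0 = Nat.land (tb t 1) (nat_lit 63) →
      ∀ y1 : X, lo y1 = Nat.land (tb t 2) (nat_lit 63) →
      ∀ y2 : X, lo y2 = Nat.land (tb t 4) (nat_lit 63) →
      ∀ y3 : X, lo y3 = Nat.land (tb t 8) (nat_lit 63) →
      ∀ y4 : X, lo y4 = Nat.land (tb t 16) (nat_lit 63) →
      ∀ y5 : X, lo y5 = Nat.land (tb t 32) (nat_lit 63) → ∃ q : X,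
      q * y0 * q⁻¹ = e (tb t 1) ∧ q * y1 * q⁻¹ = e (tb t 2) ∧ q * y2 * q⁻¹ = e (tb t 4) ∧
      q * y3 * q⁻¹ = e (tb t 8) ∧ q * y4 * q⁻¹ = e (tb t 16) ∧ q * y5 * q⁻¹ = e (tb t 32) := by
    tdec [lo, neq_iff, allL_iff]
  have hp : ∀ k u, Cj ι (c ^ k) u ((γ ^ k) u) := fun k u => (hc.pow k).cj (val_γ_pow k u).symm
  have b := fun u => ((hp (7 - k) u).trans (hσ _)).trans (hp k _)
  have H' : ∀ v ∈ [1, 2, 4, 8, 16, 32], lo ((γ ^ k) (σ ((γ ^ (7 - k)) (e v)))) =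
      Nat.land (tb t v) (nat_lit 63) := fun v hv => by rw [lg, hl, lg, le v hv, H v hv]
  simp only [List.forall_mem_cons] at H'
  obtain ⟨q, q0, q1, q2, q3, q4, q5⟩ := adj t ht _ H'.1 _ H'.2.1 _ H'.2.2.1 _ H'.2.2.2.1 _
    H'.2.2.2.2.1 _ H'.2.2.2.2.2.1
  refine ⟨ι q * (c ^ k * (a * c ^ (7 - k))), t, ht, Ac.of_gens ?_ (by
    clear * - ht; revert t; tdec [allL_iff, neq_iff])⟩
  simp only [List.forall_mem_cons]
  refine ⟨(b _).trans (Cj.self' q0), (b _).trans (Cj.self' q1), (b _).trans (Cj.self' q2),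
    (b _).trans (Cj.self' q3), (b _).trans (Cj.self' q4), (b _).trans (Cj.self' q5),
    (b _).trans (Cj.self' ?_), by simp⟩
  rw [aut_z, aut_z, aut_z, (zc q).eq, mul_inv_cancel_right]
  clear * - ht; revert t; tdec [allL_iff]

end Su

end Cfsg.Agent.H11.Hs
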