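import Mathlib
import Cfsg.Agent.H11.HsK
import Cfsg.Agent.H11.HdGen

/-!
# Extensions of the extraspecial group of order 128 by `SL(3, 2)`: the Sylow subgroup
-/

set_option autoImplicit false
set_option maxRecDepth 100000
set_option exponentiation.threshold 20000
set_option linter.unusedSectionVars false

namespace Cfsg.Agent.H11.Hs

open Cfsg.Agent.H89 Cfsg.Agent.H89.TG Cfsg.Agent.H89.Rec Subgroup
open Cfsg.Agent.H11.Hd (anyL anyL_iff syl_conj_sub cj_mul_eq)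

variable {G : Type*} [Group G]

/-- Extremal conjugation in both directions. -/
theorem two_sided [Finite G] {S : Type*} [Group S] [Finite S] {τ : S →* G}
    (hi : Function.Injective τ) {t : S} (hS : Syl τ.range (centralizer {τ t})) {g : G}
    (hc : Commute (g⁻¹ * τ t * g) (τ t)) :
    ∃ k y y' k', Commute k (τ t) ∧ k * (g⁻¹ * τ t * g) * k⁻¹ = τ y ∧ Cj τ k' y t ∧ Cj τ k' t y' ∧
      Nat.card {h // h * h = t ∧ Commute h y} ≤ Nat.card {h // h * h = y'} ∧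
      Nat.card {h // h * h = t ∧ Commute h y'} ≤ Nat.card {h // h * h = y} := by
  set d := g⁻¹ * τ t * g with hd
  have mc : ∀ {a b : G}, a ∈ centralizer {b} ↔ Commute a b := mem_centralizer_singleton_iff
  have cj : ∀ (w : G) {a b : G}, Commute a b → Commute (w * a * w⁻¹) (w * b * w⁻¹) :=
    fun w _ _ h => by simpa using h.map (MulAut.conj w).toMonoidHom
  let H : Subgroup G := centralizer {τ t} ⊓ centralizer {d}
  obtain ⟨P⟩ : Nonempty (Sylow 2 H) := inferInstance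
  let R : Subgroup G := (P : Subgroup H).map H.subtype
  have hR : IsPGroup 2 R := P.2.map _
  have hRH : R ≤ H := map_subtype_le _
  have hmax : ∀ w : G, (∀ s ∈ R, w * s * w⁻¹ ∈ τ.range) →
      ∀ s ∈ H, w * s * w⁻¹ ∈ τ.range → s ∈ R := fun w hw s hs h => by
    have := P.is_maximal' (Q := (τ.range.comap (MulAut.conj w).toMonoidHom).subgroupOf H)
      (hS.grp.comap_of_injective _ (MulAut.conj w).injective).comap_subtype
      fun a ha => hw a ⟨a, ha, rfl⟩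
    exact ⟨⟨s, hs⟩, this.le h, rfl⟩
  obtain ⟨k, hk, h1⟩ := syl_conj_sub hS (hRH.trans inf_le_left) hR
  have gd : g * d * g⁻¹ = τ t := by rw [hd]; group
  obtain ⟨l, hl, h2⟩ := syl_conj_sub hS (X := R.map (MulAut.conj g).toMonoidHom) (by
    rintro _ ⟨s, hs, rfl⟩
    exact mc.2 (gd ▸ cj g (mc.1 (hRH hs).2))) (hR.map _)
  have h2' : ∀ s ∈ R, l * g * s * (l * g)⁻¹ ∈ τ.range := fun s hs => by
    simpa [mul_assoc] using h2 _ (mem_map_of_mem _ hs)
  have kt : k * τ t * k⁻¹ = τ t := mul_inv_eq_iff_eq_mul.2 (mc.1 hk)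
  have ld : l * g * d * (l * g)⁻¹ = τ t := by
    rw [← mul_inv_eq_iff_eq_mul.2 (mc.1 hl), ← gd]; group
  obtain ⟨y, hy⟩ := h1 d (hmax _ h2' d ⟨mc.2 hc, mc.2 rfl⟩ ⟨t, ld.symm⟩)
  obtain ⟨y', hy'⟩ := h2' (τ t) (hmax _ h1 _ ⟨mc.2 rfl, mc.2 hc.symm⟩ ⟨t, kt.symm⟩)
  have c1 : Cj τ (l * g * k⁻¹) y t := by rw [Cj, hy, ← ld]; group
  have c2 : Cj τ (l * g * k⁻¹) t y' := by rw [Cj, hy']; nth_rewrite 1 [← kt]; group
  have cnt : ∀ {w : G} {u u' : S}, Cj τ w t u' →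
      (∀ h, h * h = t → Commute h u → ∃ h', Cj τ w h h') →
      Nat.card {h // h * h = t ∧ Commute h u} ≤ Nat.card {h // h * h = u'} := fun e hw => by
    choose f hf using hw
    exact Nat.card_le_card_of_injective (fun h => ⟨f h.1 h.2.1 h.2.2,
      ((hf _ _ _).mul (hf _ _ _)).uniq hi (e.of_eq h.2.1.symm rfl)⟩) fun a b e' =>
      Subtype.ext ((hf _ _ _).uniq' hi ((hf _ _ _).of_eq rfl (congrArg Subtype.val e').symm))
  have ct : ∀ h : S, h * h = t → Commute (τ h) (τ t) := fun h e => by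
    rw [← e, map_mul]; exact (Commute.refl _).mul_right (Commute.refl _)
  refine ⟨k, y, y', _, mc.1 hk, hy.symm, c1, c2, cnt c2 fun h e hh => ?_,
    cnt c1.symm fun h e hh => ?_⟩
  · obtain ⟨h', e'⟩ := h2' (k⁻¹ * τ h * k) (hmax k h1 _ ⟨mc.2 (by
      have := cj k⁻¹ (kt ▸ ct h e :); simpa [mul_assoc] using this), mc.2 (by
      have := cj k⁻¹ (hh.map τ); rw [hy] at this; simpa [mul_assoc] using this)⟩ ⟨h, by group⟩)
    exact ⟨h', by rw [Cj, e']; group⟩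
  · obtain ⟨h', e'⟩ := h1 ((l * g)⁻¹ * τ h * (l * g)) (hmax _ h2' _ ⟨mc.2 (by
      have := cj (l * g)⁻¹ (hh.map τ); rw [hy'] at this; simpa [mul_assoc] using this), mc.2 (by
      have := cj (l * g)⁻¹ (ct h e); rw [← ld] at this; simpa [mul_assoc] using this)⟩
      ⟨h, by group⟩)
    exact ⟨h', by rw [Cj, e']; group⟩

/-- Products in the dihedral or quaternion factor. -/
noncomputable def dk (d d' : ℕ) : ℕ :=
  fld (nat_lit 4) (nat_lit 15) (nat_lit 0x89ab4567389af4562389ef451238def4edc7a983dc769832c765832176543210) (Nat.add (Nat.mul (nat_lit 8) d) d')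

/-- The product in the Sylow subgroup. -/
noncomputable def mT (Φ c M N : ℕ) : ℕ := force M fun m => force N fun n =>
  force (Nat.div m (nat_lit 128)) fun d => force (dk d (Nat.div n (nat_lit 128))) fun k =>
  Nat.add (mq (mq (Nat.mod m (nat_lit 128))
    (tb Φ (Nat.add (Nat.mul (nat_lit 128) d) (Nat.mod n (nat_lit 128)))))
    (Nat.mul c (Nat.div k (nat_lit 8)))) (Nat.mul (nat_lit 128) (Nat.mod k (nat_lit 8)))

/-- The table of the Sylow subgroup. -/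
noncomputable def TT (Φ c : ℕ) : Tab := ⟨nat_lit 1024, mT Φ c, fun a => pw (mT Φ c) a 15⟩

theorem dk_spec {r b : G} (h8 : r ^ 4 * r ^ 4 = 1) (hb : b * b = r ^ 4) (hbr : b * r * b⁻¹ = r⁻¹)
    {d d' : ℕ} (hd : d < 8) (hd' : d' < 8) :
    r ^ (d % 4) * b ^ (d / 4) * (r ^ (d' % 4) * b ^ (d' / 4)) =
      (r ^ 4) ^ (dk d d' / 8) * (r ^ (dk d d' % 8 % 4) * b ^ (dk d d' % 8 / 4)) := by
  rw [← pow_add] at h8
  have h7 : b * r * b⁻¹ = r ^ 7 := by
    rw [hbr, inv_eq_iff_mul_eq_one, ← pow_succ', h8]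
  have key : ∀ i j i' j' : ℕ, j < 2 → j' < 2 → r ^ i * b ^ j * (r ^ i' * b ^ j') =
      r ^ (i + (1 + 6 * j) * i' + 4 * j * j') * b ^ ((j + j') % 2) := fun i j i' j' hj hj' => by
    have e : b * r ^ i' = r ^ (7 * i') * b := by
      rw [pow_mul, ← h7, conj_pow, inv_mul_cancel_right]
    interval_cases j <;> interval_cases j' <;>
      simp [pow_add, mul_assoc, ← hb, ← mul_assoc b (r ^ i'), e]
  obtain ⟨a1, a2⟩ := (show ∀ d < 8, ∀ d' < 8,
    (d % 4 + (1 + 6 * (d / 4)) * (d' % 4) + 4 * (d / 4) * (d' / 4)) % (4 + 4) =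
      4 * (dk d d' / 8) + dk d d' % 8 % 4 ∧ (d / 4 + d' / 4) % 2 = dk d d' % 8 / 4 by
        decide +kernel) d hd d' hd'
  rw [key _ _ _ _ (by omega) (by omega), pow_eq_pow_mod _ h8, a1, a2, pow_add, pow_mul, mul_assoc]

variable {ι : X →* G}

theorem exists_tau (h : Su ι) {r b : G} {ζ : X} (hζ : ζ * ζ = 1) (hr : r ^ 4 = ι ζ)
    (hb : b * b = ι ζ) (hbr : b * r * b⁻¹ = r⁻¹) {Φ : ℕ}
    (hA : ∀ d, d < 8 → Ac ι (r ^ (d % 4) * b ^ (d / 4)) fun q => tb Φ (128 * d + q))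
    (hd : ∀ d, d < 8 → ∀ d', d' < 8 → (∀ q, q < 128 → Nat.land (tb Φ (128 * d + q)) (nat_lit 63) =
      Nat.land (tb Φ (128 * d' + q)) (nat_lit 63)) → d = d')
    (hi : ∀ a, a < 1024 → pw (mT Φ ζ.val) a 15 ≤ 1023 ∧ mT Φ ζ.val (pw (mT Φ ζ.val) a 15) a = 0) :
    ∃ _ : Fact (TT Φ ζ.val).OK, ∃ τ : El (TT Φ ζ.val) →* G, Function.Injective τ ∧
      ∀ u, τ u = ι (e u.val) * (r ^ (u.val / 128 % 4) * b ^ (u.val / 128 / 4)) := by
  let D : ℕ → G := fun n => ι (e n) * (r ^ (n / 128 % 4) * b ^ (n / 128 / 4))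
  have hl : ∀ m, m < 1024 → ∀ n, n < 1024 → mT Φ ζ.val m n < 1024 ∧
      D (mT Φ ζ.val m n) = D m * D n := fun m hm n hn => by
    obtain ⟨v, hv, cv⟩ := hA (m / 128) (by omega) (e n)
    have hk : dk (m / 128) (n / 128) ≤ 15 := Nat.and_le_right
    have h1 : (ζ ^ (dk (m / 128) (n / 128) / 8)).val = ζ.val * (dk (m / 128) (n / 128) / 8) := by
      rcases (by omega : dk (m / 128) (n / 128) / 8 = 0 ∨ dk (m / 128) (n / 128) / 8 = 1)
        with a | a <;> rw [a]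
      exacts [by rw [pow_zero]; rfl, by rw [pow_one, mul_one]]
    have h2 : mT Φ ζ.val m n = (e m * v * ζ ^ (dk (m / 128) (n / 128) / 8)).val +
        128 * (dk (m / 128) (n / 128) % 8) := by
      rw [El.val_mul, El.val_mul, h1, hv]; rfl
    have h3 : (e m * v * ζ ^ (dk (m / 128) (n / 128) / 8)).val < 128 := El.lt _
    have h4 : e (mT Φ ζ.val m n) = e m * v * ζ ^ (dk (m / 128) (n / 128) / 8) :=
      El.ext (by change _ % 128 = _; omega)
    have h5 : mT Φ ζ.val m n / 128 = dk (m / 128) (n / 128) % 8 := by omega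
    refine ⟨by omega, ?_⟩
    simp only [D]
    rw [h4, h5, mul_assoc (ι (e m)), ← mul_assoc _ (ι (e n)), cj_mul_eq cv, mul_assoc (ι v),
      dk_spec (by rw [hr, ← map_mul, hζ, map_one]) (hb.trans hr.symm) hbr (by omega) (by omega),
      hr, map_mul, map_mul, map_pow]
    simp only [mul_assoc]
  have hj : ∀ m, m < 1024 → ∀ n, n < 1024 → D m = D n → m = n := fun m hm n hn E => by
    have h1 : m / 128 = n / 128 := hd _ (by omega) _ (by omega) fun q hq => by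
      obtain ⟨v, hv, cv⟩ := hA (m / 128) (by omega) ⟨q, hq⟩
      obtain ⟨w, hw, cw⟩ := hA (n / 128) (by omega) ⟨q, hq⟩
      have a : Cj ι (D m) _ _ := cv.trans (Cj.self (e m) v)
      have := congrArg lo ((E ▸ a :).uniq h.inj (cw.trans (Cj.self (e n) w)))
      rwa [lo_conj, lo_conj, lo, lo, hv, hw] at this
    simp only [D, h1, mul_left_inj] at E
    have h2 : m % 128 = n % 128 := congrArg El.val (h.inj E)
    omega
  have ok : (TT Φ ζ.val).OK := ok_of_dec D (by change 0 < 1024; norm_num)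
    (by simp [D, show e 0 = 1 from rfl]) hl
    (fun a ha => (hi a ha).imp_left Nat.lt_succ_of_le) hj
  have := Fact.mk ok
  exact ⟨this, MonoidHom.mk' (fun u => D u.val) fun a b => (hl _ a.2 _ b.2).2,
    fun a b E => El.ext (hj _ a.2 _ b.2 E), fun _ => rfl⟩

/-- The action of the element of order four. -/
noncomputable def fr (t q : ℕ) : ℕ := tb gT (tb t (tb gI (tb t q)))

/-- The action of a conjugating element. -/
noncomputable def fv (t q : ℕ) : ℕ := tb gI (tb gI (tb t (tb gT (tb gT q))))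

/-- The action of the second generator. -/
noncomputable def fb (t q : ℕ) : ℕ := fv t (fr t (fr t (fv t q)))

/-- The tests for the tables. -/
structure TOK (t Φ : ℕ) : Prop where
  rel : ∀ q, q < 128 → tb t (tb t q) = q ∧ itr (fun a => tb t (tb gT a)) 3 q = q ∧
    itr (fr t) 4 q = q ∧ fb t (fr t (tb gI (fv t q))) = tb gI (fv t (fr t (fr t q))) ∧
    tb t (tb gI (fv t q)) = tb gI (fv t (fr t (fr t q)))
  cen : tb t 64 = 64
  act : ∀ d, d < 8 → ∀ q, q < 128 →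
    itr (fr t) (d % 4) (itr (fb t) (d / 4) q) = tb Φ (128 * d + q)
  dist : ∀ d, d < 8 → ∀ d', d' < 8 → (∀ q, q < 128 → Nat.land (tb Φ (128 * d + q)) (nat_lit 63) =
      Nat.land (tb Φ (128 * d' + q)) (nat_lit 63)) → d = d'
  inv : ∀ c ∈ [0, 64], ∀ a, a < 1024 →
    pw (mT Φ c) a 15 ≤ 1023 ∧ mT Φ c (pw (mT Φ c) a 15) a = 0

theorem sq_conj {t x v y ζ : G} (h : x * v = v * y ∨ x * v = v * y * t) (ht : t * t = 1)
    (hy : y * y = ζ) (h1 : Commute y t) (h2 : Commute v ζ) : x * x = ζ := by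
  have : x * x = v * (y * y) * v⁻¹ := by
    rcases h with h | h <;> rw [eq_mul_inv_of_mul_eq h]
    · group
    · calc _ = v * (y * (t * y) * t) * v⁻¹ := by group
        _ = _ := by rw [← h1.eq, mul_assoc y, mul_assoc y, ht, mul_one]
  rw [this, hy, h2.eq, mul_inv_cancel_right]

/-- The Sylow subgroup and the generation of the centraliser. -/
theorem exists_syl [Finite G] (h : Su ι) {a c : G} {t Φ : ℕ} (H : TOK t Φ) (ha : Ac ι a (tb t))
    (hc : Ac ι c (tb gT)) (h7 : c ^ 7 = 1) (h3 : (a * c) ^ 3 = 1) :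
    (∀ L : Subgroup G, ι.range ≤ L → a ∈ L → c ∈ L → centralizer {ι z} ≤ L) ∧
    ∃ ζ ∈ [1, z], a * a = ι ζ ∧ (c * (a * (c⁻¹ * a))) ^ 4 = ι ζ ∧
      ∃ _ : Fact (TT Φ ζ.val).OK, ∃ τ : El (TT Φ ζ.val) →* G, Function.Injective τ ∧
        (∀ u, u.val < 128 → τ u = ι (e u.val)) ∧ Syl τ.range (centralizer {ι z}) := by
  have hc' : Ac ι c⁻¹ (tb gI) := hc.inv (by ndec)
  have ha' : Ac ι a⁻¹ (tb t) := ha.inv fun q hq => (H.rel q hq).1
  have hr : Ac ι (c * (a * (c⁻¹ * a))) (fr t) := hc.mul (ha.mul (hc'.mul ha))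
  have hv : Ac ι (c⁻¹ * (c⁻¹ * (a * (c * c)))) (fv t) := hc'.mul (hc'.mul (ha.mul (hc.mul hc)))
  have hv' : Ac ι (c⁻¹ * (c⁻¹ * (a * (c * c))))⁻¹ (fv t) := by
    have := hc'.mul (hc'.mul (ha'.mul (hc.mul hc)))
    rwa [show c⁻¹ * (c⁻¹ * (a⁻¹ * (c * c))) = (c⁻¹ * (c⁻¹ * (a * (c * c))))⁻¹ by
      simp only [mul_inv_rev, inv_inv, mul_assoc]] at this
  have mc : ∀ {g : G}, g ∈ centralizer {ι z} ↔ Commute g (ι z) := mem_centralizer_singleton_iff
  have gen : ∀ L : Subgroup G, a ∈ L → c ∈ L → c * (a * (c⁻¹ * a)) ∈ L ∧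
      c⁻¹ * (c⁻¹ * (a * (c * c))) ∈ L := fun L p q =>
    ⟨L.mul_mem q (L.mul_mem p (L.mul_mem (L.inv_mem q) p)), L.mul_mem (L.inv_mem q)
      (L.mul_mem (L.inv_mem q) (L.mul_mem p (L.mul_mem q q)))⟩
  have aC := mc.2 (ha.comm H.cen)
  have cC := mc.2 (hc.comm (by decide +kernel))
  have rC := gen _ aC cC
  generalize c * (a * (c⁻¹ * a)) = r at hr gen rC ⊢
  generalize c⁻¹ * (c⁻¹ * (a * (c * c))) = v at hv hv' gen rC
  have hb : Ac ι (v * (r * (r * v⁻¹))) (fb t) := hv.mul (hr.mul (hr.mul hv'))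
  obtain ⟨ζ, hζ, e4⟩ : ∃ ζ ∈ [1, z], r ^ 4 = ι ζ :=
    (h.triv (hr.pow 4) fun q hq => (H.rel q hq).2.2.1).elim
      (fun a => ⟨1, by simp, by rw [a, map_one]⟩) fun a => ⟨z, by simp, a⟩
  have cζ : ∀ {g : G}, g ∈ centralizer {ι z} → Commute g (ι ζ) := fun hg => by
    simp only [List.mem_cons, List.not_mem_nil, or_false] at hζ
    rcases hζ with rfl | rfl
    exacts [by simp, mc.1 hg]
  have e2 : r * r * (r * r) = ι ζ := by rw [← e4, ← pow_two, ← pow_two, ← pow_mul]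
  have vC := mul_mem (inv_mem cC) rC.2
  have rr := mc.1 (mul_mem rC.1 rC.1)
  have b2 : v * (r * (r * v⁻¹)) * (v * (r * (r * v⁻¹))) = ι ζ :=
    sq_conj (v := v) (Or.inl (by group)) h.zz' e2 rr (cζ rC.2)
  have bL : ∀ L : Subgroup G, r ∈ L → v ∈ L → v * (r * (r * v⁻¹)) ∈ L := fun L p q =>
    L.mul_mem q (L.mul_mem p (L.mul_mem p (L.inv_mem q)))
  have bL' := fun L p q => bL L (gen L p q).1 (gen L p q).2
  generalize v * (r * (r * v⁻¹)) = b at hb b2 bL'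
  have br : b * r * (b * r) = ι ζ := sq_conj (v := c⁻¹ * v) (by
    simpa only [mul_assoc] using h.eqv (hb.mul (hr.mul (hc'.mul hv)))
      (hc'.mul (hv.mul (hr.mul hr))) fun q hq => (H.rel q hq).2.2.2.1) h.zz' e2 rr (cζ vC)
  have a2 : a * a = ι ζ := sq_conj (v := c⁻¹ * v) (by
    simpa only [mul_assoc] using h.eqv (ha.mul (hc'.mul hv))
      (hc'.mul (hv.mul (hr.mul hr))) fun q hq => (H.rel q hq).2.2.2.2) h.zz' e2 rr (cζ vC)
  have ζ2 : ζ * ζ = 1 := by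
    simp only [List.mem_cons, List.not_mem_nil, or_false] at hζ
    rcases hζ with rfl | rfl
    exacts [mul_one _, zz]
  obtain ⟨F, τ, hi, hτ⟩ := exists_tau h (r := r) (b := b) (ζ := ζ) (Φ := Φ) ζ2 e4 b2 (by
      rw [← b2, mul_assoc, mul_right_inj] at br
      rw [mul_inv_eq_iff_eq_mul, eq_inv_mul_iff_mul_eq, br])
    (fun d hd => ((hr.pow _).mul (hb.pow _)).congr (H.act d hd)) H.dist (H.inv _ (by
      simp only [List.mem_cons, List.not_mem_nil, or_false] at hζ ⊢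
      rcases hζ with rfl | rfl
      exacts [Or.inl rfl, Or.inr rfl]))
  have hL : ∀ L : Subgroup G, ι.range ≤ L → a ∈ L → c ∈ L → τ.range ≤ L := by
    rintro L p q s _ ⟨u, rfl⟩
    rw [hτ]
    exact L.mul_mem (p ⟨_, rfl⟩) (L.mul_mem (L.pow_mem (gen L q s).1 _) (L.pow_mem (bL' L q s) _))
  have iC : ι.range ≤ centralizer {ι z} := by rintro _ ⟨u, rfl⟩; exact mc.2 ((zc u).map ι)
  have cT : Nat.card τ.range = 2 ^ 10 := by
    rw [← Nat.card_congr (MonoidHom.ofInjective hi).toEquiv, El.card]; rfl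
  refine ⟨fun L p q s => ?_, ζ, hζ, a2, e4, F, τ, hi, fun u hu => by
    rw [hτ, Nat.div_eq_of_lt hu]; simp, Syl.of_card (hL _ iC aC cC) cT (m := 21) h.card (by decide)⟩
  have c1 : c ≠ 1 := by
    rintro rfl
    exact absurd ((hc.cj (u := e 1) (v := e 3) (by decide +kernel)).uniq h.inj (Cj.refl _)) (by td)
  have : Fact (Nat.Prime 7) := ⟨by norm_num⟩
  have o7 := orderOf_eq_prime h7 c1
  have o3 := orderOf_eq_prime h3 fun e => by
    rw [eq_inv_of_mul_eq_one_left e, ← mul_inv_rev, ← pow_two] at a2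
    have p : (c ^ 2)⁻¹ ^ 2 = 1 := by
      rw [a2, pow_two, ← map_mul, ζ2, map_one]
    rw [inv_pow, inv_eq_one, ← pow_mul] at p
    exact absurd (o7 ▸ orderOf_dvd_of_pow_eq_one p) (by norm_num)
  have a1 : 2 ^ 10 ∣ Nat.card ↥(centralizer {ι z} ⊓ L) :=
    cT ▸ card_dvd_of_le (le_inf (hL _ iC aC cC) (hL L p q s))
  have a3 : 3 ∣ Nat.card ↥(centralizer {ι z} ⊓ L) :=
    o3 ▸ Subgroup.orderOf_dvd_natCard _ ⟨mul_mem aC cC, mul_mem q s⟩
  have a7 : 7 ∣ Nat.card ↥(centralizer {ι z} ⊓ L) := o7 ▸ Subgroup.orderOf_dvd_natCard _ ⟨cC, s⟩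
  have a4 : 21504 ≤ Nat.card ↥(centralizer {ι z} ⊓ L) := Nat.le_of_dvd Nat.card_pos (by omega)
  exact inf_eq_left.1 (eq_of_le_of_card_ge inf_le_left (h.card ▸ a4))

/-- The table of the Sylow subgroup. -/
def pA : ℕ := nat_lit 0xddbf6ecd5af4e8eddfaf4e5cf8f0fdffefcf5efcf8cd9f2e4c58f0e09d3e6cc952e4c8ad5ead4a54e8d0bd7eedcb56ecd88d1e2c4850e0c05cbd6ac54ad4a86cddab464cd8b07cfdebc74edcb84c9d2a4448d0a01c3c68c142c4882c5ca94244c8903c7ce9c346cc980c1c284040c080bb72fdeb76acd8ab52bd6a74a8d0dbb37eed7ab4e8cb933e6c78b0e0fbf3ffef7ebcf8ebd3bf6e7cb8f09b327ce972a4c88b123c6870a0c03a70f9e3668c982a50b9626488905ab17ae56a94a84a913a646890a07af1fbe76e9cb86ad1bb666c98b01a3078e16284880a1038606080809f3a64d952e4c8efdba75e5cf8f0bf7ae5db56ecd8cf9b265c58f0e0dfbb66dd5af4e8af5aa55a54e8d0fffbe7df5efcf88f1a245850e0c01e3860d142c4886ed9a3564cd8b03e78e1d346cc984e99225448d0a05eb962d54ad4a82e58a15244c8907ef9e3d74edcb80e18205040c080f9f7f7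ff7ebcf8a956b57a74a8d0993674f972a4c8c997367c78b0e0b976f5fb76acd8e9d7b77e7cb8f0d9b776fd7ab4e88916347870a0c078f5f3f76e9cb82854b172648890183470f1628488489532746890a03874f1f3668c9868d5b3766c98b058b572f56a94a808143070608080d9b77eed5af4e8a956bd6a54e8d0b976fdeb56ecd8c9973e6c58f0e099367ce952e4c8e9d7bf6e5cf8f0f9f7ffef5efcf889163c6850e0c058b57ae54ad4a82854b96244c8903874f9e346cc9848953a6448d0a0183478e142c48868d5bb664cd8b078f5fbe74edcb80814386040c080bd7ee5db76acd8eddfa75e7cb8f09d3e64d972a4c8cd9f265c78b0e0fdffe7df7ebcf8ad5ea55a74a8d0ddbf66dd7ab4e88d1e245870a0c03c7ce1d3668c986cdda3566c98b01c3c60d16284884c9d22546890a07cfde3d76e9cb82c5ca1526488905cbd62d56a94a80c1c20506080809b3274f952e4c8ab52b57a54e8d0fbf3f7ff5efcf8cb93367c58f0e0dbb376fd5af4e8ebd3b77e5cf8f0bb72f5fb56ecd88b12347850e0c01a3070f142c4882a50b17244c8907af1f3f74edcb84a91327448d0a05ab172f54ad4a86ad1b3764cd8b03a70f1f346cc980a10307040c080fffbefcf7ebcf8efdbaf4e7cb8f0dfbb6ecd7ab4e8cf9b2e4c78b0e0bf7aedcb76acd8af5aad4a74a8d09f3a6cc972a4c88f1a2c4870a0c07ef9ebc76e9cb86ed9ab466c98b05eb96ac56a94a84e992a446890a03e78e9c3668c982e58a9426488901e3868c16284880e182840608080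

/-- The table of the Sylow subgroup. -/
def pB : ℕ := nat_lit 0xd3a152b5ab376f6cdfaf4e5cd8b0f1e5dba78f7ffecf99225468b06110265ca993478e2e5aa55a7488113262d5bbb70f1f8d1c284040e0c052a356bdbb172fedddab464cf8f070e7dfaf9f5fbe4e9b265c789021912458a18367ceaf58a15264a851b360d1b3a72f5f0c1e2c4850c080b46ec193974f5f2144953ac5ea155bb17eed6ab4a84f992e4c2831a2f0e7d3b7dfde7d65cd871e8d7b379e3a68c13205ca8a1238607080c0356cc59b876f1fa0469132d5ca55dab37ae57a94e8ce9b2a443811e271e5d7bfcffe3de4cf83169d5b771f386cc922258a0b103c6860a0809b3274f102458aeddfaf466c98313874f9eb362d5bcf9b265448d0a05ab172fd1a75ea2c5ca94a74a851f9f7ffe72e1d3b0e18205850e0c01a3070f91265ca6cddab4e7cb871b976fde3260d1b4e99225c58f0e0dbb376f50a55aaad5ead4264881178f5fbef3e3d7b8f1a245040c080fef9efcf0e5d7ba044953ae58ad4112650b1f3a68c4f9b2a441871233976f1f376ac98e6c98f0e8d5b7757ab4a859b772f881434786080c07ffbebc71e7d3b21469132f5aa94902454b9e386ccce992e4c085163b87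4f5fb668cd867cb8b069d7b37d6a94e8d8b576f0916307070a080d2a352bdebb62d23409532f58a55be7ae1db262d1b4f992654381163152c4c819347cee4cf8b0e8d7bb6f8f7fbef4efcb809143c6050c0c053a156b5fb966da242913ae5aa153f78e5d3360d5bce9b225c283123942e488983678e65cd8f069d5bf679f5ffe75edcf88816386840e080b56cc19bf78e9c6edbaf464cf871142e4491e3a6cccf992a4c58d021f7e9cb8fdfde3dad5ca15a74889056ab4e85cbf66d0c1e245060a0c0346ec593e7aedcefd9ab4e5cd831952c4099f3868c4e9b2e4448f06176ebcf87cffe7d2c5ea55264a8d0d7a94a8ddbd62d8d1c20587080809a3074f152e488a2409532d5ea94f6e9c7979f7fbe4f9b225c0851e2deb966d51a75aa67cb831e8d5bf63362d1bbc7cedc0b12307840c0c01b3270f942c4c82342913ac5cad477ebc39f8f5ffece9926541871a25fbb62dd0a55eae6c987169d7bb6b260d5b3d7ee9c8a10347050e080fffbefcf7ebcf8efdbaf4e7cb8f0dfbb6ecd7ab4e8cf9b2e4c78b0e0bf7aedcb76acd8af5aad4a74a8d09f3a6cc972a4c88f1a2c4870a0c07ef9ebc76e9cb86ed9ab466c98b05eb96ac56a94a84e992a446890a03e78e9c3668c982e58a9426488901e3868c16284880e182840608080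

/-- The table of the Sylow subgroup. -/
def pC : ℕ := nat_lit 0xfefb52b39764880f18953c8958f0be7a50b79f74a84f9997388148d0debbd3b1936c982f58143e8d50e09e3ad1b59b7cb86fd9163a8540c07ff956bb8744c88e1a91349978b03f7854bf8f54e8ce9b93309168905fb9d7b9834cd8ae5a10369d70a01f38d5bd8b5cf8eedb1232956080ff56724c6249385e14f7467661686e7436c5706d70cf36b3cf6445203ed574407a79589f97f14a6e5108aff730c9685d100eb5b5c37c75407e547644726978df16f34e664128ef7632cd604d304e34b7c7746560bfd770486a59181e95f5427e71482ef534c1787d508fb7b1cb6c5500fec5ef3b948f10be44ed3f9c9f300f2628b48ab3684fa72ab082a348eee5afba968b18ae64adbe9e9b381f06683588b7605f876a3180a7407fc7eb3384af503f46e9378cbf708e242cbc9a9328cea52eb89283086fe7abb286ab582f66a9b68ebb789e046c3d989720de856e39908700ff080bc4778ee06e2a4f4d65aaa85e4a8ece63a6b0cf68ca477182f88fe9c8437992d81ecb8cca6bb6902eab4d496dba88bf8909c07f9ec07e0a0fcc67aea0ef284b45758ae8df488ac67386f04e6ace4f61a2b80ee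bcc4b69b2989fc988c27b96d0afa949417d9ac83e8b0dc86fbe80fe560eb08b9d508eb7cd378581683fd508bc93ad304f34cb3b9db1086f744a3999b9181f9589be97a520aef74c35818978de168fb28f95407f540ab89bbd100fb5c93f95a128bed70cb4838d70ce36cf338d9148ee764e318999589e978db68785602ff5483d91a9385f148bba9fb500ffc556476d7720df85d745697f30efe516c66f7328cfa597c46b7b380e2691c8734b582e6610ca7743481e06d149714f503e46504b7547407ec7524f7d57605e87d34d795f706ee712ce7f53684ea793cc7b5b788f2495c0636b18af6414c26763089f04d541616f10bf445443656700fe0873388e7ac83f8b7534964aa88ee9b0bf8066f04f6ab6b39856905f4af6329a52989ec9f03e8262f82fab35b5944ea0ee2833b98c7ec07f0a77309e5a88be89713c866ae80febb4b79046b0ce68b2bb8876d0de48f23a8a72d81fcbf4369242b8aea931bd846ee06f2a37b19c5e80fffbefcf7ebcf8efdbaf4e7cb8f0dfbb6ecd7ab4e8cf9b2e4c78b0e0bf7aedcb76acd8af5aad4a74a8d09f3a6cc972a4c88f1a2c4870a0c07ef9ebc76e9cb86ed9ab466c98b05eb96ac56a94a84e992a446890a03e78e9c3668c982e58a9426488901e3868c16284880e182840608080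

theorem okA : TOK aA pA := ⟨by ndec, by ndec, by ndec, by ndec, by ndec⟩
theorem okB : TOK aB pB := ⟨by ndec, by ndec, by ndec, by ndec, by ndec⟩
theorem okC : TOK aC pC := ⟨by ndec, by ndec, by ndec, by ndec, by ndec⟩

end Cfsg.Agent.H11.Hs
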