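import Mathlib

set_option autoImplicit false

namespace Cfsg.Agent.H11.K4Ar

/-- The ball condition. -/
def Ball (q x y z : ℤ) : Prop := ∀ t a b c d : ℤ, q ∣ a - t → q ∣ b - t * x → q ∣ c - t * y →
  q ∣ d - t * z → q * a ≤ a ^ 2 + b ^ 2 + c ^ 2 + d ^ 2

/-- Centred residue. -/
def nr (q a : ℤ) : ℤ := (a + q / 2) % q - q / 2

theorem nr_dvd (q a : ℤ) : q ∣ nr q a - a := by
  unfold nr
  refine ⟨-((a + q / 2) / q), ?_⟩
  have := Int.emod_add_mul_ediv (a + q / 2) q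
  linarith

theorem res8 : ∀ a b c : Fin 8, (1 + (a : ℤ) ^ 2 + (b : ℤ) ^ 2 + (c : ℤ) ^ 2) % 2 = 1 →
    ∃ j : Fin 5, (j : ℤ) ^ 2 + nr 8 (j * a) ^ 2 + nr 8 (j * b) ^ 2 + nr 8 (j * c) ^ 2 + 1
      ≤ 8 * (j : ℤ) := by
  decide +kernel

theorem fin8 : ∀ a b c : Fin 8, (1 + (a : ℤ) ^ 2 + (b : ℤ) ^ 2 + (c : ℤ) ^ 2) % 2 = 1 →
    (a : ℤ) ≠ 0 → (b : ℤ) ≠ 0 → (c : ℤ) ≠ 0 →
    (1 + (a : ℤ) ^ 2 + (b : ℤ) ^ 2 + (c : ℤ) ^ 2 = 7 ∨
     1 + (a : ℤ) ^ 2 + (b : ℤ) ^ 2 + (c : ℤ) ^ 2 = 15 ∨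
    ∃ t : Fin 80, (t : ℤ) ^ 2 + nr (1 + (a : ℤ) ^ 2 + (b : ℤ) ^ 2 + (c : ℤ) ^ 2) (t * a) ^ 2 +
      nr (1 + (a : ℤ) ^ 2 + (b : ℤ) ^ 2 + (c : ℤ) ^ 2) (t * b) ^ 2 +
      nr (1 + (a : ℤ) ^ 2 + (b : ℤ) ^ 2 + (c : ℤ) ^ 2) (t * c) ^ 2 <
      (1 + (a : ℤ) ^ 2 + (b : ℤ) ^ 2 + (c : ℤ) ^ 2) * t) := by
  decide +kernel

theorem core {q x y z : ℤ} (hq : 1 + x ^ 2 + y ^ 2 + z ^ 2 = q) (h : Ball q x y z)
    (j e1 e2 e3 : ℤ) (h1 : 8 ∣ e1 - j * x) (h2 : 8 ∣ e2 - j * y) (h3 : 8 ∣ e3 - j * z)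
    (hg : j ^ 2 + e1 ^ 2 + e2 ^ 2 + e3 ^ 2 + 1 ≤ 8 * j) : q ≤ 64 := by
  obtain ⟨s1, h1⟩ := h1
  obtain ⟨s2, h2⟩ := h2
  obtain ⟨s3, h3⟩ := h3
  have hq0 : 0 < q := by rw [← hq]; positivity
  have key : ∀ t r : ℤ, 8 * t = j * q + r →
      q ≤ r ^ 2 + r * (2 * (j + e1 * x + e2 * y + e3 * z) - 8) := by
    intro t r ht
    have h0 := h t t (t * x + q * s1) (t * y + q * s2) (t * z + q * s3) (by simp)
      ⟨s1, by ring⟩ ⟨s2, by ring⟩ ⟨s3, by ring⟩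
    have b1 : 8 * (t * x + q * s1) = q * e1 + r * x := by linear_combination x * ht - q * h1
    have b2 : 8 * (t * y + q * s2) = q * e2 + r * y := by linear_combination y * ht - q * h2
    have b3 : 8 * (t * z + q * s3) = q * e3 + r * z := by linear_combination z * ht - q * h3
    have h4 : 8 * q * (8 * t) ≤ (8 * t) ^ 2 + (8 * (t * x + q * s1)) ^ 2 +
        (8 * (t * y + q * s2)) ^ 2 + (8 * (t * z + q * s3)) ^ 2 := by nlinarith
    rw [b1, b2, b3, ht] at h4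
    have h5 : (j * q + r) ^ 2 + (q * e1 + r * x) ^ 2 + (q * e2 + r * y) ^ 2 + (q * e3 + r * z) ^ 2
        = q * (q * (j ^ 2 + e1 ^ 2 + e2 ^ 2 + e3 ^ 2) + 2 * r * (j + e1 * x + e2 * y + e3 * z)
          + r ^ 2) := by linear_combination r ^ 2 * hq
    rw [h5, show 8 * q * (j * q + r) = q * (8 * (j * q + r)) by ring] at h4
    have h6 := le_of_mul_le_mul_left h4 hq0
    nlinarith [mul_le_mul_of_nonneg_left hg hq0.le]
  have hr := Int.emod_add_mul_ediv (j * q) 8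
  have hr0 := Int.emod_nonneg (j * q) (show (8 : ℤ) ≠ 0 by norm_num)
  have hr1 := Int.emod_lt_of_pos (j * q) (show (0 : ℤ) < 8 by norm_num)
  generalize j * q % 8 = r at hr hr0 hr1
  rcases le_total 0 (2 * (j + e1 * x + e2 * y + e3 * z) - 8) with hs | hs
  · have := key (j * q / 8) (-r) (by linarith)
    nlinarith [mul_nonneg hr0 hs]
  · have := key (j * q / 8 + 1) (8 - r) (by linarith)
    nlinarith [mul_nonneg (show 0 ≤ 8 - r by linarith) (neg_nonneg.mpr hs)]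

theorem ball_abs {q x y z : ℤ} (h : Ball q x y z) : Ball q |x| |y| |z| := by
  intro t a b c d ha hb hc hd
  have e : ∀ w u : ℤ, q ∣ u - t * |w| → ∃ u', q ∣ u' - t * w ∧ u' ^ 2 = u ^ 2 := by
    intro w u hu
    rcases abs_choice w with hw | hw
    · exact ⟨u, hw ▸ hu, rfl⟩
    · refine ⟨-u, ?_, by ring⟩
      rw [hw] at hu
      have := hu.neg_right
      rwa [show -(u - t * -w) = -u - t * w by ring] at this
  obtain ⟨b', hb1, hb2⟩ := e x b hb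
  obtain ⟨c', hc1, hc2⟩ := e y c hc
  obtain ⟨d', hd1, hd2⟩ := e z d hd
  have := h t a b' c' d' ha hb1 hc1 hd1
  rwa [hb2, hc2, hd2] at this

theorem fin_of {w : ℤ} (h0 : 0 ≤ w) (h1 : w < 8) : ∃ a : Fin 8, (a : ℤ) = w :=
  ⟨⟨w.toNat, by omega⟩, by simp; omega⟩

theorem odd_case {q x y z : ℤ} (hq : 1 + x ^ 2 + y ^ 2 + z ^ 2 = q) (h : Ball q x y z)
    (hx : x ≠ 0) (hy : y ≠ 0) (hz : z ≠ 0) (ho : q % 2 = 1) : q = 7 ∨ q = 15 := by
  have hle : q ≤ 64 := by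
    obtain ⟨a, ha⟩ := fin_of (Int.emod_nonneg x (by norm_num)) (Int.emod_lt_of_pos x (by norm_num))
    obtain ⟨b, hb⟩ := fin_of (Int.emod_nonneg y (by norm_num)) (Int.emod_lt_of_pos y (by norm_num))
    obtain ⟨c, hc⟩ := fin_of (Int.emod_nonneg z (by norm_num)) (Int.emod_lt_of_pos z (by norm_num))
    obtain ⟨u, hu⟩ : ∃ u, x = a + 8 * u := ⟨x / 8, by omega⟩
    obtain ⟨v, hv⟩ : ∃ u, y = b + 8 * u := ⟨y / 8, by omega⟩
    obtain ⟨w, hw⟩ : ∃ u, z = c + 8 * u := ⟨z / 8, by omega⟩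
    have hodd : (1 + (a : ℤ) ^ 2 + (b : ℤ) ^ 2 + (c : ℤ) ^ 2) % 2 = 1 := by
      have : q = (1 + (a : ℤ) ^ 2 + (b : ℤ) ^ 2 + (c : ℤ) ^ 2) +
          2 * (8 * a * u + 32 * u ^ 2 + 8 * b * v + 32 * v ^ 2 + 8 * c * w + 32 * w ^ 2) := by
        rw [← hq, hu, hv, hw]; ring
      omega
    obtain ⟨j, hj⟩ := res8 a b c hodd
    have e : ∀ (s : ℤ) (g k : ℤ), 8 ∣ nr 8 (j * s) - j * (s + 8 * k) := by
      intro s g k
      have := (nr_dvd 8 (j * s)).sub (Dvd.intro (j * k) rfl)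
      rwa [show nr 8 (j * s) - j * s - 8 * (j * k) = nr 8 (j * s) - j * (s + 8 * k) by ring] at this
    exact core hq h j _ _ _ (hu ▸ e a 0 u) (hv ▸ e b 0 v) (hw ▸ e c 0 w) hj
  have h' := ball_abs h
  have hb : ∀ w : ℤ, w ^ 2 < 64 → ∃ a : Fin 8, (a : ℤ) = |w| := fun w hw =>
    fin_of (abs_nonneg w) (by
      have : |w| ^ 2 < 64 := by rwa [sq_abs]
      nlinarith [abs_nonneg w])
  obtain ⟨a, ha⟩ := hb x (by nlinarith [sq_nonneg y, sq_nonneg z])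
  obtain ⟨b, hb'⟩ := hb y (by nlinarith [sq_nonneg x, sq_nonneg z])
  obtain ⟨c, hc⟩ := hb z (by nlinarith [sq_nonneg y, sq_nonneg x])
  have hq' : 1 + (a : ℤ) ^ 2 + (b : ℤ) ^ 2 + (c : ℤ) ^ 2 = q := by
    rw [ha, hb', hc, sq_abs, sq_abs, sq_abs, hq]
  have := fin8 a b c (by rw [hq']; exact ho) (by rw [ha]; simpa using hx)
    (by rw [hb']; simpa using hy) (by rw [hc]; simpa using hz)
  rw [hq'] at this
  rcases this with h7 | h7 | ⟨t, ht⟩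
  · exact Or.inl h7
  · exact Or.inr h7
  · exfalso
    rw [← ha, ← hb', ← hc] at h'
    have := h' t t _ _ _ (by simp) (nr_dvd q (t * a)) (nr_dvd q (t * b)) (nr_dvd q (t * c))
    linarith

theorem arith (p n : ℕ) (hp : p.Prime) (q x y z : ℤ) (hpn : q = (p : ℤ) ^ n)
    (hq : 1 + x ^ 2 + y ^ 2 + z ^ 2 = q) (hx : x ≠ 0) (hy : y ≠ 0) (hz : z ≠ 0)
    (h : Ball q x y z) : q = 4 ∨ q = 7 := by
  have hx1 : 1 ≤ x ^ 2 := by have := sq_pos_of_ne_zero hx; omega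
  have hy1 : 1 ≤ y ^ 2 := by have := sq_pos_of_ne_zero hy; omega
  have hz1 : 1 ≤ z ^ 2 := by have := sq_pos_of_ne_zero hz; omega
  rcases hp.eq_two_or_odd' with rfl | hodd
  · left
    rcases n with _ | _ | _ | n
    · norm_num at hpn; omega
    · norm_num at hpn; omega
    · norm_num at hpn; omega
    · exfalso
      have h8 : q % 8 = 0 := by
        rw [hpn, show n + 1 + 1 + 1 = 3 + n by ring, pow_add]; norm_num
      have s : ∀ w : ℤ, w ^ 2 % 8 = 0 ∨ w ^ 2 % 8 = 1 ∨ w ^ 2 % 8 = 4 := by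
        intro w
        have : w % 8 = 0 ∨ w % 8 = 1 ∨ w % 8 = 2 ∨ w % 8 = 3 ∨ w % 8 = 4 ∨ w % 8 = 5 ∨
          w % 8 = 6 ∨ w % 8 = 7 := by omega
        rcases this with h | h | h | h | h | h | h | h <;> simp [pow_two, Int.mul_emod, h]
      have := s x; have := s y; have := s z
      omega
  · have ho : q % 2 = 1 := by
      rw [hpn]; exact Int.odd_iff.mp (Odd.pow (by exact_mod_cast hodd))
    rcases odd_case hq h hx hy hz ho with h7 | h15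
    · exact Or.inr h7
    · exfalso
      have h1 : p ^ n = 15 := by
        have : ((p ^ n : ℕ) : ℤ) = 15 := by push_cast; rw [← hpn, h15]
        exact_mod_cast this
      have h3 : 3 = p := (Nat.prime_dvd_prime_iff_eq Nat.prime_three hp).mp
        (Nat.prime_three.dvd_of_dvd_pow (n := n) (by rw [h1]; norm_num))
      have h5 : 5 = p := (Nat.prime_dvd_prime_iff_eq Nat.prime_five hp).mp
        (Nat.prime_five.dvd_of_dvd_pow (n := n) (by rw [h1]; norm_num))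
      omega

end Cfsg.Agent.H11.K4Ar
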