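import Cfsg.Agent.H76.K4Defs
import Cfsg.Agent.H13.K4Ar

set_option autoImplicit false

namespace Cfsg.Agent.H11.K4Ar4

open Cfsg.Agent.H76.K4

theorem ar4 : Ar4Stmt := by
  intro p n hp ⟨x, y, z, mx, my, mz, hq, hm, hw, _⟩
  rcases hp.eq_two_or_odd' with rfl | hodd
  · rcases n with _ | _ | _ | n
    · exfalso
      norm_num at hq
      have hx : x = 0 := by nlinarith [sq_nonneg x, sq_nonneg y, sq_nonneg z]
      have hy : y = 0 := by nlinarith [sq_nonneg x, sq_nonneg y, sq_nonneg z]
      have hz : z = 0 := by nlinarith [sq_nonneg x, sq_nonneg y, sq_nonneg z]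
      rw [hx, hy, hz] at hm; norm_num at hm
    · norm_num
    · norm_num
    · exfalso
      have h8 : ((2 ^ (n + 1 + 1 + 1) : ℕ) : ℤ) % 8 = 0 := by
        rw [show n + 1 + 1 + 1 = 3 + n by ring, pow_add]; push_cast; omega
      have s : ∀ w : ℤ, w ^ 2 % 8 = 0 ∨ w ^ 2 % 8 = 1 ∨ w ^ 2 % 8 = 4 := by
        intro w
        have : w % 8 = 0 ∨ w % 8 = 1 ∨ w % 8 = 2 ∨ w % 8 = 3 ∨ w % 8 = 4 ∨ w % 8 = 5 ∨
          w % 8 = 6 ∨ w % 8 = 7 := by omega
        rcases this with h | h | h | h | h | h | h | h <;> simp [pow_two, Int.mul_emod, h]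
      have := s x; have := s y; have := s z
      omega
  · have ho : Odd ((p ^ n : ℕ) : ℤ) := by exact_mod_cast (hodd.pow : Odd (p ^ n))
    have key := H13.K4Ar.ar ((p ^ n : ℕ) : ℤ) x y z hq ho (by
      generalize ((p ^ n : ℕ) : ℤ) = q at hq hw
      rintro a b c d ⟨w1, h1⟩ ⟨w2, h2⟩ ⟨w3, h3⟩
      have hq0 : 0 ≤ q := by rw [hq]; positivity
      have h4 := hw (-w1) (-w2) (-w3)
      have eb : b = a * x + q * w1 := by linarith
      have ec : c = a * y + q * w2 := by linarith
      have ed : d = a * z + q * w3 := by linarith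
      have h5 : a ^ 2 + b ^ 2 + c ^ 2 + d ^ 2 = q * (a ^ 2 + 2 * a * (x * w1 + y * w2 + z * w3) +
          q * (w1 ^ 2 + w2 ^ 2 + w3 ^ 2)) := by
        rw [eb, ec, ed]; linear_combination (-a ^ 2) * hq
      rw [h5]
      apply mul_le_mul_of_nonneg_left _ hq0
      have h6 : 0 ≤ (a + (x * w1 + y * w2 + z * w3)) * (a + (x * w1 + y * w2 + z * w3) - 1) := by
        rcases le_or_gt (a + (x * w1 + y * w2 + z * w3)) 0 with h | h
        · exact mul_nonneg_of_nonpos_of_nonpos h (by linarith)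
        · exact mul_nonneg h.le (by linarith)
      nlinarith)
    rcases key with h | h | h | h
    · exfalso
      rw [h] at hq
      have hx : x = 0 := by nlinarith [sq_nonneg x, sq_nonneg y, sq_nonneg z]
      have hy : y = 0 := by nlinarith [sq_nonneg x, sq_nonneg y, sq_nonneg z]
      have hz : z = 0 := by nlinarith [sq_nonneg x, sq_nonneg y, sq_nonneg z]
      rw [hx, hy, hz] at hm; norm_num at hm
    · right; left; exact_mod_cast h
    · right; right; right; exact_mod_cast h
    · exfalso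
      have h1 : p ^ n = 15 := by exact_mod_cast h
      have h3 : 3 = p := (Nat.prime_dvd_prime_iff_eq Nat.prime_three hp).mp
        (Nat.prime_three.dvd_of_dvd_pow (n := n) (by rw [h1]; norm_num))
      have h5 : 5 = p := (Nat.prime_dvd_prime_iff_eq Nat.prime_five hp).mp
        (Nat.prime_five.dvd_of_dvd_pow (n := n) (by rw [h1]; norm_num))
      omega

end Cfsg.Agent.H11.K4Ar4
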