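import Cfsg.Agent.H44.K5Defs

set_option autoImplicit false

namespace Cfsg.Agent.H11.K5Nei

open Cfsg.Agent.H44.K5 Matrix

theorem sq8 (w : ℤ) : (w % 2 = 0 ∧ (w ^ 2 % 8 = 0 ∨ w ^ 2 % 8 = 4)) ∨ (w % 2 = 1 ∧ w ^ 2 % 8 = 1) := by
  have : w % 8 = 0 ∨ w % 8 = 1 ∨ w % 8 = 2 ∨ w % 8 = 3 ∨ w % 8 = 4 ∨ w % 8 = 5 ∨
    w % 8 = 6 ∨ w % 8 = 7 := by omega
  have h2 : w ^ 2 % 8 = (w % 8) * (w % 8) % 8 := by rw [pow_two, Int.mul_emod]
  rcases this with h | h | h | h | h | h | h | h <;> rw [h] at h2 <;> omega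

theorem row (uni : UniStmt) (p x y z t c k m : ℤ) (hp : p ≠ 0) (ho : p % 2 = 1)
    (hc : c * x = 1 + p * k) (hm : 1 + x ^ 2 + y ^ 2 + z ^ 2 + t ^ 2 = p ^ 2 * m) :
    ∃ u0 u1 u2 u3 u4 : ℤ, (u0 * p ^ 2 + u1 * (c + p * k * x) - p * (u2 * y + u3 * z + u4 * t)) % 2 = 1 ∧
      (u0 * p ^ 2 + u1 * (c + p * k * x) - p * (u2 * y + u3 * z + u4 * t)) ^ 2 + u1 ^ 2 +
      (u1 * c * y + p * u2) ^ 2 + (u1 * c * z + p * u3) ^ 2 + (u1 * c * t + p * u4) ^ 2 = p ^ 2 := by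
  let B : Matrix (Fin 5) (Fin 5) ℤ := !![p ^ 2, 0, 0, 0, 0; c + p * k * x, 1, c * y, c * z, c * t;
    -(p * y), 0, p, 0, 0; -(p * z), 0, 0, p, 0; -(p * t), 0, 0, 0, p]
  let A : Matrix (Fin 5) (Fin 5) ℤ := !![p ^ 2, c + p * k * x, -(p * y), -(p * z), -(p * t);
    c + p * k * x, c ^ 2 * m + k ^ 2 * (1 + x ^ 2), -(k * x * y), -(k * x * z), -(k * x * t);
    -(p * y), -(k * x * y), 1 + y ^ 2, y * z, y * t;
    -(p * z), -(k * x * z), y * z, 1 + z ^ 2, z * t;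
    -(p * t), -(k * x * t), y * t, z * t, 1 + t ^ 2]
  have hBB : B * Bᵀ = (p ^ 2) • A := by
    ext i j
    fin_cases i <;> fin_cases j <;>
      simp [A, B, Matrix.mul_apply, Fin.sum_univ_five] <;>
      first | ring1 | linear_combination c ^ 2 * hm + (p * k - c * x - 1) * hc
  have hdB : B.det = p ^ 5 := by
    simp [B, Matrix.det_succ_row_zero, Fin.sum_univ_succ, Fin.succAbove]; ring
  have hp2 : p ^ 2 ≠ 0 := pow_ne_zero _ hp
  have hdA : A.det = 1 := by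
    have h1 := congrArg Matrix.det hBB
    rw [det_mul, det_transpose, hdB, det_smul, Fintype.card_fin] at h1
    exact (mul_left_cancel₀ (pow_ne_zero 5 hp2) (by rw [← h1]; ring)).symm
  have hAs : Aᵀ = A := by
    ext i j; fin_cases i <;> fin_cases j <;> simp [A]
  have hpos : ∀ ξ : Fin 5 → ℤ, ξ ≠ 0 → 0 < ξ ⬝ᵥ A *ᵥ ξ := by
    intro ξ hξ
    have h1 : p ^ 2 * (ξ ⬝ᵥ A *ᵥ ξ) = (Bᵀ *ᵥ ξ) ⬝ᵥ (Bᵀ *ᵥ ξ) := by
      rw [← smul_eq_mul, ← dotProduct_smul, ← smul_mulVec, ← hBB, ← mulVec_mulVec, dotProduct_mulVec,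
        ← mulVec_transpose]
    have h2 : Bᵀ *ᵥ ξ ≠ 0 := fun h => hξ (Matrix.eq_zero_of_mulVec_eq_zero
      (by rw [det_transpose, hdB]; exact pow_ne_zero _ hp) h)
    have h3 : 0 < (Bᵀ *ᵥ ξ) ⬝ᵥ (Bᵀ *ᵥ ξ) :=
      lt_of_le_of_ne (Finset.sum_nonneg fun i _ => mul_self_nonneg _)
        (fun h => h2 (dotProduct_self_eq_zero.mp h.symm))
    rw [← h1] at h3
    exact (pos_iff_pos_of_mul_pos h3).mp (by positivity)
  obtain ⟨U, hU⟩ := uni 5 le_rfl A hAs hpos hdA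
  have hW : (Uᵀ * B) * (Uᵀ * B)ᵀ = (p ^ 2) • (1 : Matrix (Fin 5) (Fin 5) ℤ) := by
    rw [transpose_mul, transpose_transpose, Matrix.mul_assoc, ← Matrix.mul_assoc B, hBB, ← hU,
      Matrix.smul_mul, Matrix.mul_smul, Matrix.mul_assoc]
  have hrow : ∀ i, (Uᵀ * B) i 0 = U 0 i * p ^ 2 + U 1 i * (c + p * k * x) -
      p * (U 2 i * y + U 3 i * z + U 4 i * t) ∧ (Uᵀ * B) i 1 = U 1 i ∧
      (Uᵀ * B) i 2 = U 1 i * c * y + p * U 2 i ∧ (Uᵀ * B) i 3 = U 1 i * c * z + p * U 3 i ∧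
      (Uᵀ * B) i 4 = U 1 i * c * t + p * U 4 i := by
    intro i
    refine ⟨?_, ?_, ?_, ?_, ?_⟩ <;> simp [B, Matrix.mul_apply, Fin.sum_univ_five] <;> ring
  generalize Uᵀ * B = W at hW hrow
  have hdW : W.det ≠ 0 := by
    intro h
    have h1 := congrArg Matrix.det hW
    rw [det_mul, h, zero_mul, det_smul, det_one, mul_one] at h1
    exact pow_ne_zero _ hp2 h1.symm
  have hW' : Wᵀ * W = (p ^ 2) • (1 : Matrix (Fin 5) (Fin 5) ℤ) := by
    have h1 : W * (Wᵀ * W - (p ^ 2) • 1) = 0 := by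
      rw [Matrix.mul_sub, ← Matrix.mul_assoc, hW, Matrix.smul_mul, Matrix.mul_smul, Matrix.one_mul,
        Matrix.mul_one, sub_self]
    have h2 := congrArg (fun X => W.adjugate * X) h1
    simp only [← Matrix.mul_assoc, adjugate_mul, Matrix.mul_zero, Matrix.smul_mul, Matrix.one_mul] at h2
    exact sub_eq_zero.mp ((smul_eq_zero.mp h2).resolve_left hdW)
  have h0 := congrFun (congrFun hW' 0) 0
  simp [Matrix.mul_apply, Fin.sum_univ_five, ← pow_two] at h0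
  obtain ⟨i, hi⟩ : ∃ i, W i 0 % 2 = 1 := by
    by_contra hn
    push Not at hn
    have := sq8 (W 0 0); have := sq8 (W 1 0); have := sq8 (W 2 0); have := sq8 (W 3 0)
    have := sq8 (W 4 0); have := sq8 p
    have := hn 0; have := hn 1; have := hn 2; have := hn 3; have := hn 4
    omega
  have h1 := congrFun (congrFun hW i) i
  simp [Matrix.mul_apply, Fin.sum_univ_five, ← pow_two] at h1
  obtain ⟨e0, e1, e2, e3, e4⟩ := hrow i
  rw [e0, e1, e2, e3, e4] at h1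
  rw [e0] at hi
  exact ⟨_, _, _, _, _, hi, h1⟩

theorem nei (uni : UniStmt) : NeiStmt := by
  intro p hp hp2 x y z t hx ⟨s, hs⟩
  have hpi : Prime (p : ℤ) := Nat.prime_iff_prime_int.mp hp
  have hp0 : (0 : ℤ) < p := by exact_mod_cast hp.pos
  have hp1 : (2 : ℤ) ≤ p := by exact_mod_cast hp.two_le
  have ho : (p : ℤ) % 2 = 1 := by have := hp.eq_two_or_odd.resolve_left hp2; omega
  generalize (p : ℤ) = q at *
  obtain ⟨k0, c, hc⟩ := (Irreducible.coprime_iff_not_dvd hpi.irreducible).mpr hx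
  obtain ⟨h, hh⟩ : ∃ h, q + 1 = 2 * h := ⟨(q + 1) / 2, by omega⟩
  obtain ⟨u0, u1, u2, u3, u4, hodd, hn⟩ := row uni q (x - q * (s * c * h)) y z t c (-k0 - c * (s * c * h))
    ((s * c * h) ^ 2 + s * (k0 * (q + 1) - 1)) hp0.ne' ho (by linear_combination hc)
    (by linear_combination hs - q * s * (q + 1) * hc + q * s * c * x * hh)
  generalize hX : x - q * (s * c * h) = X at *
  generalize hK : -k0 - c * (s * c * h) = K at *
  have hcX : c * X = 1 + q * K := by rw [← hX, ← hK]; linear_combination hc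
  have hm : 1 + X ^ 2 + y ^ 2 + z ^ 2 + t ^ 2 = q ^ 2 * ((s * c * h) ^ 2 + s * (k0 * (q + 1) - 1)) := by
    rw [← hX]; linear_combination hs - q * s * (q + 1) * hc + q * s * c * x * hh
  generalize ((s * c * h) ^ 2 + s * (k0 * (q + 1) - 1)) = m at hm
  generalize hw0 : u0 * q ^ 2 + u1 * (c + q * K * X) - q * (u2 * y + u3 * z + u4 * t) = w0 at *
  generalize hw2 : u1 * c * y + q * u2 = w2 at *
  generalize hw3 : u1 * c * z + q * u3 = w3 at *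
  generalize hw4 : u1 * c * t + q * u4 = w4 at *
  have hev : u1 % 2 = 0 ∧ w2 % 2 = 0 ∧ w3 % 2 = 0 ∧ w4 % 2 = 0 := by
    have := sq8 w0; have := sq8 u1; have := sq8 w2; have := sq8 w3; have := sq8 w4; have := sq8 q
    omega
  obtain ⟨a, ha⟩ : ∃ a, q + w0 = 2 * a := ⟨(q + w0) / 2, by omega⟩
  obtain ⟨b, hb⟩ : ∃ b, u1 = 2 * b := ⟨u1 / 2, by omega⟩
  obtain ⟨c', hc'⟩ : ∃ b, w2 = 2 * b := ⟨w2 / 2, by omega⟩
  obtain ⟨d, hd⟩ : ∃ b, w3 = 2 * b := ⟨w3 / 2, by omega⟩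
  obtain ⟨e, he⟩ : ∃ b, w4 = 2 * b := ⟨w4 / 2, by omega⟩
  have h2 : ∀ r : ℤ, q ∣ 2 * r → q ∣ r := fun r hr => (hpi.dvd_or_dvd hr).resolve_left
    (fun h => by have := Int.le_of_dvd (by norm_num) h; omega)
  obtain ⟨n, hn0⟩ : ∃ n, 2 * a = u1 * c + q * n :=
    ⟨1 + u0 * q + u1 * K * X - (u2 * y + u3 * z + u4 * t), by rw [← ha, ← hw0]; ring⟩
  refine ⟨a, b, c', d, e, ?_, h2 _ ⟨-(u1 * K) - n * x - u1 * c * (s * c * h), ?_⟩,
    h2 _ ⟨u2 - n * y, ?_⟩, h2 _ ⟨u3 - n * z, ?_⟩, h2 _ ⟨u4 - n * t, ?_⟩, ?_⟩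
  · rintro ⟨g, hg⟩
    have hw : w0 = q * (2 * g - 1) := by linear_combination ha + 2 * hg
    have hg1 : (2 * g - 1) ^ 2 = 1 := by
      have h3 : q ^ 2 * (2 * g - 1) ^ 2 ≤ q ^ 2 * 1 := by
        rw [hw, mul_pow] at hn; linarith only [hn, sq_nonneg u1, sq_nonneg w2, sq_nonneg w3, sq_nonneg w4]
      have h4 := le_of_mul_le_mul_left h3 (by positivity)
      have h5 : 0 < (2 * g - 1) ^ 2 := sq_pos_of_ne_zero (by omega)
      omega
    have hz : u1 ^ 2 + w2 ^ 2 + w3 ^ 2 + w4 ^ 2 = 0 := by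
      rw [hw] at hn; linear_combination hn - q ^ 2 * hg1
    have z1 : u1 = 0 := pow_eq_zero_iff (two_ne_zero) |>.mp (le_antisymm
      (by linarith only [hz, sq_nonneg u1, sq_nonneg w2, sq_nonneg w3, sq_nonneg w4]) (sq_nonneg _))
    have z2 : w2 = 0 := pow_eq_zero_iff (two_ne_zero) |>.mp (le_antisymm
      (by linarith only [hz, sq_nonneg u1, sq_nonneg w2, sq_nonneg w3, sq_nonneg w4]) (sq_nonneg _))
    have z3 : w3 = 0 := pow_eq_zero_iff (two_ne_zero) |>.mp (le_antisymm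
      (by linarith only [hz, sq_nonneg u1, sq_nonneg w2, sq_nonneg w3, sq_nonneg w4]) (sq_nonneg _))
    have z4 : w4 = 0 := pow_eq_zero_iff (two_ne_zero) |>.mp (le_antisymm
      (by linarith only [hz, sq_nonneg u1, sq_nonneg w2, sq_nonneg w3, sq_nonneg w4]) (sq_nonneg _))
    have h6 : q * (2 * g - 1) = q * (q * u0) := by
      rw [← hw, ← hw0]
      rw [z1] at hw2 hw3 hw4 ⊢
      linear_combination (-y) * (hw2.trans z2) - z * (hw3.trans z3) - t * (hw4.trans z4)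
    have h7 := mul_left_cancel₀ hp0.ne' h6
    have h8 : q ∣ 1 := ⟨q * u0 ^ 2, by rw [← hg1, h7]; ring⟩
    have := Int.le_of_dvd (by norm_num) h8
    omega
  · linear_combination -hb - x * hn0 - u1 * hcX - u1 * c * hX
  · linear_combination -hc' - hw2 - y * hn0
  · linear_combination -hd - hw3 - z * hn0
  · linear_combination -he - hw4 - t * hn0
  · have : w0 = 2 * a - q := by linarith
    rw [this, hb, hc', hd, he] at hn
    linarith

end Cfsg.Agent.H11.K5Nei
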