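import Cfsg.Agent.H11.PU0
import Cfsg.Agent.H45.FiU5

/-!
# The model of the Sylow 2-subgroup of `U₅(2)` inside `SU₅(2)`
-/

set_option autoImplicit false
set_option maxRecDepth 100000

namespace Cfsg.Agent.H11.PU

open Cfsg.Agent.H96 Cfsg.Agent.H96.Crit Cfsg.Agent.H41 Cfsg.Agent.H45.U5 Cfsg.Agent.H28 Subgroup

/-- The generators as words in transvections. -/
noncomputable def ys : List U := [wp sv [6, 32], wp sv [6, 31], wp sv [29, 20, 59, 88],
  wp sv [29, 20, 58, 90], wp sv [31, 6, 53, 152], wp sv [31, 6, 24, 110], wp sv [1], wp sv [1, 3],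
  wp sv [1, 2], wp sv [0]]

theorem r0 : wp sv [6, 32, 6, 32] =
    wp sv [] := wp_eq.2 (by decide +kernel)

theorem r1 : wp sv [6, 31, 6, 32] =
    wp sv [6, 32, 6, 31] := wp_eq.2 (by decide +kernel)

theorem r2 : wp sv [29, 20, 59, 88, 6, 32] =
    wp sv [6, 32, 29, 20, 59, 88, 31, 6, 53, 152] := wp_eq.2 (by decide +kernel)

theorem r3 : wp sv [29, 20, 58, 90, 6, 32] =
    wp sv [6, 32, 29, 20, 58, 90, 31, 6, 53, 152, 31, 6, 24, 110, 0] := wp_eq.2 (by decide +kernel)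

theorem r4 : wp sv [31, 6, 53, 152, 6, 32] =
    wp sv [6, 32, 31, 6, 53, 152, 0] := wp_eq.2 (by decide +kernel)

theorem r5 : wp sv [31, 6, 24, 110, 6, 32] =
    wp sv [6, 32, 31, 6, 24, 110] := wp_eq.2 (by decide +kernel)

theorem r6 : wp sv [1, 6, 32] =
    wp sv [6, 32, 1, 1, 3] := wp_eq.2 (by decide +kernel)

theorem r7 : wp sv [1, 3, 6, 32] =
    wp sv [6, 32, 1, 3] := wp_eq.2 (by decide +kernel)

theorem r8 : wp sv [1, 2, 6, 32] =
    wp sv [6, 32, 1, 2, 0] := wp_eq.2 (by decide +kernel)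

theorem r9 : wp sv [0, 6, 32] =
    wp sv [6, 32, 0] := wp_eq.2 (by decide +kernel)

theorem r10 : wp sv [6, 31, 6, 31] =
    wp sv [] := wp_eq.2 (by decide +kernel)

theorem r11 : wp sv [29, 20, 59, 88, 6, 31] =
    wp sv [6, 31, 29, 20, 59, 88, 31, 6, 24, 110] := wp_eq.2 (by decide +kernel)

theorem r12 : wp sv [29, 20, 58, 90, 6, 31] =
    wp sv [6, 31, 29, 20, 58, 90, 31, 6, 53, 152, 0] := wp_eq.2 (by decide +kernel)

theorem r13 : wp sv [31, 6, 53, 152, 6, 31] =
    wp sv [6, 31, 31, 6, 53, 152, 0] := wp_eq.2 (by decide +kernel)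

theorem r14 : wp sv [31, 6, 24, 110, 6, 31] =
    wp sv [6, 31, 31, 6, 24, 110, 0] := wp_eq.2 (by decide +kernel)

theorem r15 : wp sv [1, 6, 31] =
    wp sv [6, 31, 1, 1, 2] := wp_eq.2 (by decide +kernel)

theorem r16 : wp sv [1, 3, 6, 31] =
    wp sv [6, 31, 1, 3, 0] := wp_eq.2 (by decide +kernel)

theorem r17 : wp sv [1, 2, 6, 31] =
    wp sv [6, 31, 1, 2] := wp_eq.2 (by decide +kernel)

theorem r18 : wp sv [0, 6, 31] =
    wp sv [6, 31, 0] := wp_eq.2 (by decide +kernel)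

theorem r19 : wp sv [29, 20, 59, 88, 29, 20, 59, 88] =
    wp sv [1] := wp_eq.2 (by decide +kernel)

theorem r20 : wp sv [29, 20, 58, 90, 29, 20, 59, 88] =
    wp sv [29, 20, 59, 88, 29, 20, 58, 90, 1] := wp_eq.2 (by decide +kernel)

theorem r21 : wp sv [31, 6, 53, 152, 29, 20, 59, 88] =
    wp sv [29, 20, 59, 88, 31, 6, 53, 152, 1, 3, 0] := wp_eq.2 (by decide +kernel)

theorem r22 : wp sv [31, 6, 24, 110, 29, 20, 59, 88] =
    wp sv [29, 20, 59, 88, 31, 6, 24, 110, 1, 2, 0] := wp_eq.2 (by decide +kernel)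

theorem r23 : wp sv [1, 29, 20, 59, 88] =
    wp sv [29, 20, 59, 88, 1] := wp_eq.2 (by decide +kernel)

theorem r24 : wp sv [1, 3, 29, 20, 59, 88] =
    wp sv [29, 20, 59, 88, 1, 3] := wp_eq.2 (by decide +kernel)

theorem r25 : wp sv [1, 2, 29, 20, 59, 88] =
    wp sv [29, 20, 59, 88, 1, 2] := wp_eq.2 (by decide +kernel)

theorem r26 : wp sv [0, 29, 20, 59, 88] =
    wp sv [29, 20, 59, 88, 0] := wp_eq.2 (by decide +kernel)

theorem r27 : wp sv [29, 20, 58, 90, 29, 20, 58, 90] =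
    wp sv [1] := wp_eq.2 (by decide +kernel)

theorem r28 : wp sv [31, 6, 53, 152, 29, 20, 58, 90] =
    wp sv [29, 20, 58, 90, 31, 6, 53, 152, 1, 2, 0] := wp_eq.2 (by decide +kernel)

theorem r29 : wp sv [31, 6, 24, 110, 29, 20, 58, 90] =
    wp sv [29, 20, 58, 90, 31, 6, 24, 110, 1, 3, 1, 2] := wp_eq.2 (by decide +kernel)

theorem r30 : wp sv [1, 29, 20, 58, 90] =
    wp sv [29, 20, 58, 90, 1] := wp_eq.2 (by decide +kernel)

theorem r31 : wp sv [1, 3, 29, 20, 58, 90] =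
    wp sv [29, 20, 58, 90, 1, 3] := wp_eq.2 (by decide +kernel)

theorem r32 : wp sv [1, 2, 29, 20, 58, 90] =
    wp sv [29, 20, 58, 90, 1, 2] := wp_eq.2 (by decide +kernel)

theorem r33 : wp sv [0, 29, 20, 58, 90] =
    wp sv [29, 20, 58, 90, 0] := wp_eq.2 (by decide +kernel)

theorem r34 : wp sv [31, 6, 53, 152, 31, 6, 53, 152] =
    wp sv [0] := wp_eq.2 (by decide +kernel)

theorem r35 : wp sv [31, 6, 24, 110, 31, 6, 53, 152] =
    wp sv [31, 6, 53, 152, 31, 6, 24, 110, 0] := wp_eq.2 (by decide +kernel)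

theorem r36 : wp sv [1, 31, 6, 53, 152] =
    wp sv [31, 6, 53, 152, 1] := wp_eq.2 (by decide +kernel)

theorem r37 : wp sv [1, 3, 31, 6, 53, 152] =
    wp sv [31, 6, 53, 152, 1, 3] := wp_eq.2 (by decide +kernel)

theorem r38 : wp sv [1, 2, 31, 6, 53, 152] =
    wp sv [31, 6, 53, 152, 1, 2] := wp_eq.2 (by decide +kernel)

theorem r39 : wp sv [0, 31, 6, 53, 152] =
    wp sv [31, 6, 53, 152, 0] := wp_eq.2 (by decide +kernel)

theorem r40 : wp sv [31, 6, 24, 110, 31, 6, 24, 110] =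
    wp sv [0] := wp_eq.2 (by decide +kernel)

theorem r41 : wp sv [1, 31, 6, 24, 110] =
    wp sv [31, 6, 24, 110, 1] := wp_eq.2 (by decide +kernel)

theorem r42 : wp sv [1, 3, 31, 6, 24, 110] =
    wp sv [31, 6, 24, 110, 1, 3] := wp_eq.2 (by decide +kernel)

theorem r43 : wp sv [1, 2, 31, 6, 24, 110] =
    wp sv [31, 6, 24, 110, 1, 2] := wp_eq.2 (by decide +kernel)

theorem r44 : wp sv [0, 31, 6, 24, 110] =
    wp sv [31, 6, 24, 110, 0] := wp_eq.2 (by decide +kernel)

theorem r45 : wp sv [1, 1] =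
    wp sv [] := wp_eq.2 (by decide +kernel)

theorem r46 : wp sv [1, 3, 1] =
    wp sv [1, 1, 3] := wp_eq.2 (by decide +kernel)

theorem r47 : wp sv [1, 2, 1] =
    wp sv [1, 1, 2] := wp_eq.2 (by decide +kernel)

theorem r48 : wp sv [0, 1] =
    wp sv [1, 0] := wp_eq.2 (by decide +kernel)

theorem r49 : wp sv [1, 3, 1, 3] =
    wp sv [] := wp_eq.2 (by decide +kernel)

theorem r50 : wp sv [1, 2, 1, 3] =
    wp sv [1, 3, 1, 2] := wp_eq.2 (by decide +kernel)

theorem r51 : wp sv [0, 1, 3] =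
    wp sv [1, 3, 0] := wp_eq.2 (by decide +kernel)

theorem r52 : wp sv [1, 2, 1, 2] =
    wp sv [] := wp_eq.2 (by decide +kernel)

theorem r53 : wp sv [0, 1, 2] =
    wp sv [1, 2, 0] := wp_eq.2 (by decide +kernel)

theorem r54 : wp sv [0, 0] =
    wp sv [] := wp_eq.2 (by decide +kernel)

theorem rel : T.Rel ys := by
  apply rel_of <;> simp only [← wp_append, List.cons_append, List.nil_append]
  exacts [r0, r1, r2, r3, r4, r5, r6, r7, r8, r9, r10, r11, r12, r13, r14, r15, r16, r17, r18, r19, r20, r21, r22, r23, r24, r25, r26, r27, r28, r29, r30, r31, r32, r33, r34, r35, r36, r37, r38, r39, r40, r41, r42, r43, r44, r45, r46, r47, r48, r49, r50, r51, r52, r53, r54]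

/-- The central involution. -/
abbrev z : T.G := T.el 512

theorem cen : ∀ m : T.G, (∀ y ∈ [1, 2, 16, 32, 128, 256].map T.el, m * y = y * m) →
    m = 1 ∨ m = z := by
  simp only [List.map, List.forall_mem_cons, List.not_mem_nil, false_imp_iff, implies_true, and_true]
  decide +kernel

theorem lift_inj : Function.Injective (Pc.lift ys rel) := Pc.lift_injective ys rel fun w h1 _ h3 => by
  obtain rfl := (cen w fun y _ => (h3 y).symm).resolve_left h1
  have : word ys (2 ^ 9) = wp sv [0] := word_two_pow ys 9 (by simp [ys])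
  rw [Pc.el_val (by decide +kernel)]
  exact fun e => sv_ne (by simpa using this.symm.trans e)

/-- The model is a Sylow subgroup. -/
theorem model (F : Type*) [Field F] [Fintype F] (hF : Fintype.card F = 4) (P : Sylow 2 (PSU 5 F 2)) :
    Nonempty (T.G ≃* (P : Subgroup (PSU 5 F 2))) := by
  let e : U ≃* PSU 5 F 2 := psu.trans
    (psuEquiv (equivF4 hF).symm 5 2)
  let f : T.G →* PSU 5 F 2 := e.toMonoidHom.comp (Pc.lift ys rel)
  have hf : Function.Injective f := e.injective.comp lift_inj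
  have hc : Nat.card (PSU 5 F 2) = 13685760 := (Nat.card_congr e.toEquiv).symm.trans card_U
  have : Finite (PSU 5 F 2) := Nat.finite_of_card_ne_zero (by rw [hc]; norm_num)
  have h2 : Nat.card f.range = 2 ^ (Nat.card (PSU 5 F 2)).factorization 2 := by
    rw [← Nat.card_congr (MonoidHom.ofInjective hf).toEquiv, Pc.card_G, hc,
      show 13685760 = 2 ^ 10 * 13365 by norm_num, Nat.factorization_mul (by norm_num) (by norm_num),
      Finsupp.add_apply, Nat.factorization_pow_self Nat.prime_two,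
      Nat.factorization_eq_zero_of_not_dvd (by norm_num)]
    rfl
  exact ⟨(MonoidHom.ofInjective hf).trans ((Sylow.ofCard f.range h2).equiv P)⟩

end Cfsg.Agent.H11.PU
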