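import Cfsg.Agent.H11.PU1
import Cfsg.Agent.H87.UF0

/-!
# The finite facts about the Sylow 2-subgroup of `U₅(2)`
-/

set_option autoImplicit false
set_option maxRecDepth 100000

namespace Cfsg.Agent.H11.PU

open Cfsg.Agent.H96 Cfsg.Agent.H96.Crit Subgroup

/-- Fast multiplication of numbers. -/
noncomputable def fm (a b : ℕ) : ℕ := force a fun a => force b fun b => F.mul a b

theorem fm_eq (a b : T.G) : fm a.val b.val = (a * b).val := by
  rw [fm, force_eq, force_eq, Pc.Fast.mul_eq hF a.lt b.lt, Pc.val_mul]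

/-- Fast multiplication. -/
noncomputable def fmul (a b : T.G) : T.G := ⟨fm a.val b.val, fm_eq a b ▸ (a * b).lt⟩

theorem mul_fast (a b : T.G) : a * b = fmul a b := Pc.G.ext (fm_eq a b).symm

/-- An element from a number. -/
def e (a : ℕ) : T.G := ⟨Nat.land a 1023, lt_of_le_of_lt Nat.and_le_right (by decide +kernel)⟩

/-- A bounded quantifier. -/
def AllLt (n : ℕ) (p : ℕ → Prop) : Prop := ∀ i < n, p i

noncomputable instance (n : ℕ) (p : ℕ → Prop) [DecidablePred p] : Decidable (AllLt n p) :=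
  decidable_of_iff (allLt n (fun i => decide (p i)) = true) (by simp [allLt_iff, AllLt])

/-- An enumeration. -/
def En (K : T.G → Prop) (n : ℕ) (g : ℕ → ℕ) : Prop :=
  (∀ x, K x → ¬ AllLt n fun i => e (g i) ≠ x) ∧ AllLt n fun i => K (e (g i))

noncomputable instance (K : T.G → Prop) [DecidablePred K] (n : ℕ) (g : ℕ → ℕ) :
    Decidable (En K n g) := by unfold En; infer_instance

theorem En.all {K : T.G → Prop} {n : ℕ} {g : ℕ → ℕ} (h : En K n g) {p : T.G → Prop} :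
    (∀ x, K x → p x) ↔ AllLt n fun i => p (e (g i)) := by
  refine ⟨fun a i hi => a _ (h.2 i hi), fun a x hx => ?_⟩
  by_contra c
  exact h.1 x hx fun i hi e => c (e ▸ a i hi)

theorem En.ex {K : T.G → Prop} {n : ℕ} {g : ℕ → ℕ} (h : En K n g) {p : T.G → Prop} :
    (∃ x, K x ∧ p x) ↔ ¬ AllLt n fun i => ¬ p (e (g i)) := by
  rw [← h.all (p := fun x => ¬ p x)]; simp

/-- Fewer than `n` elements. -/
def Few (n : ℕ) (p : T.G → Prop) : Prop := Nat.card {x // p x} < n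

noncomputable instance (n : ℕ) (p : T.G → Prop) [DecidablePred p] : Decidable (Few n p) :=
  decidable_of_iff (Nat.blt (cnt T.n fun a => if h : a < T.n then decide (p ⟨a, h⟩) else false) n
      = true) (by
    rw [Nat.blt_eq, cnt_eq, Few, ← Fintype.card_coe, ← Nat.card_eq_fintype_card]
    refine iff_of_eq (congrArg (· < n) (Nat.card_congr ⟨fun a => ⟨⟨a.1, by
      simpa using (Finset.mem_filter.1 a.2).1⟩, ?_⟩, fun a => ⟨a.1.val, by
      simp [a.1.lt, a.2]⟩, fun _ => rfl, fun _ => rfl⟩))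
    have := Finset.mem_filter.1 a.2
    simpa [Finset.mem_range.1 this.1] using this.2)

/-- The transvections. -/
def D : Set T.G := {x | x = e 512 ∨ x = e 64 ∨ x = e 192 ∨ x = e 320 ∨ x = e 960}

instance : DecidablePred (· ∈ D) := fun x =>
  inferInstanceAs (Decidable (x = e 512 ∨ x = e 64 ∨ x = e 192 ∨ x = e 320 ∨ x = e 960))

theorem enQ : En (· ∈ Q) 128 fun i => Nat.lor (Nat.land i 3) (Nat.lor (Nat.shiftLeft (Nat.land i 12) 2)
  (Nat.shiftLeft (Nat.land i 112) 3)) := by decide +kernel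

theorem enW : En (· ∈ W) 256 fun i => Nat.mul 4 i := by decide +kernel

theorem enV : En (· ∈ V) 16 fun i => Nat.mul 64 i := by decide +kernel

theorem enD : En (· ∈ D) 5 (look 10 1023 (512 + 64 * 2 ^ 10 + 192 * 2 ^ 20 + 320 * 2 ^ 30 +
  960 * 2 ^ 40)) := by decide +kernel

theorem z_eq : z = e 512 := by decide +kernel

theorem pow4 (m : T.G) : m ^ 4 = m * m * (m * m) := by
  rw [show 4 = 2 + 2 from rfl, pow_add, pow_two]

/-- Decide with the fast multiplication. -/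
scoped macro "fd" : tactic => `(tactic| (simp only [↓ enQ.all, ↓ enW.all, ↓ enV.all, ↓ enD.all,
  ↓ enQ.ex, ↓ enW.ex, ↓ enV.ex, ↓ enD.ex, mul_fast, pow4, z_eq]; decide +kernel))

theorem Q_le {K : Subgroup T.G} (h : e 1 ∈ K ∧ e 2 ∈ K ∧ e 16 ∈ K ∧ e 32 ∈ K ∧ e 128 ∈ K ∧
    e 256 ∈ K) : Q ≤ K := by
  rw [Q, dQ.eq_closure, closure_le]
  intro x hx
  have : ∀ x ∈ dQ.bs.map T.el, x = e 1 ∨ x = e 2 ∨ x = e 16 ∨ x = e 32 ∨ x = e 128 ∨
    x = e 256 := by decide +kernel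
  rcases this x hx with rfl | rfl | rfl | rfl | rfl | rfl <;> simp [h]

theorem cQ (m : T.G) (h : ∀ q ∈ Q, m * q = q * m) : m = 1 ∨ m = z :=
  cen m fun y hy => h y (by rw [Q, dQ.eq_closure]; exact subset_closure hy)

theorem zc : ∀ m, m * z = z * m := by fd

theorem zQ : z ∈ Q := by decide +kernel

theorem xs : H49.XS Q z where
  mem := zQ
  ne := by decide +kernel
  zz := by fd
  cen x _ := zc x
  cent x _ := cQ x
  comm := by fd
  nonab := by fd

theorem Qn (m : T.G) : ∀ q ∈ Q, m * q * m⁻¹ ∈ Q :=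
  Q_le (K := Q.comap (MulAut.conj m).toMonoidHom) (by
    simp only [mem_comap, MulEquiv.coe_toMonoidHom, MulAut.conj_apply]; revert m; fd)

theorem card_le_of {E : Subgroup T.G} {n : ℕ} {p : T.G → Prop} (h : Few n p) (hE : ∀ x ∈ E, p x) :
    Nat.card E < n :=
  (Nat.card_le_card_of_injective (fun x : E => (⟨x.1, hE x.1 x.2⟩ : {x // p x}))
    fun _ _ e => Subtype.ext (congrArg (·.1) e)).trans_lt h

theorem uniqQ (E : Subgroup T.G) (h : ∀ x ∈ E, x * x = 1 ∨ x * x = z) (hc : Nat.card E = 128) :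
    E = Q := by
  have k : ∀ x, x ∉ Q → (x * x = 1 ∨ x * x = z) → Few 128 fun y => (y * y = 1 ∨ y * y = z) ∧
    (x * y * (x * y) = 1 ∨ x * y * (x * y) = z) := by fd
  refine eq_of_le_of_card_ge (fun x hx => by_contra fun c => ?_) (by rw [hc, card_Q])
  exact (card_le_of (k x c (h x hx)) fun y hy => ⟨h y hy, h _ (mul_mem hx hy)⟩).ne hc

theorem cJ1 : ∀ j, j * j = 1 → j ∉ V → ∀ m, m * j = j * m → m ∈ Q := by fd

theorem cJ2 : ∀ j ∈ Q, j * j = 1 → j ∉ V → ∃ u ∈ Q, u * u = 1 ∧ u * j = j * u ∧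
    ∃ v ∈ Q, v * v = 1 ∧ v * j = j * v ∧ u * v ≠ v * u := by fd

theorem exists_not_mem {E : Subgroup T.G} {l : List T.G} (h : l.length < Nat.card E) :
    ∃ x ∈ E, x ∉ l := by
  by_contra! c
  refine h.not_ge (le_trans ?_ l.toFinset_card_le)
  rw [← Fintype.card_coe, ← Nat.card_eq_fintype_card]
  exact Nat.card_le_card_of_injective (fun x : E => (⟨x.1, List.mem_toFinset.2 (c x.1 x.2)⟩ :
    l.toFinset)) fun _ _ e => Subtype.ext (congrArg (·.1) e)

theorem uniqA (E : Subgroup T.G) (h : ∀ x ∈ E, x * x = 1) (hc : Nat.card E = 16) : E = V := by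
  have k : ∀ j ∈ Q, j * j = 1 → j ∉ V → ∀ k ∈ Q, k * k = 1 → j * k * (j * k) = 1 →
    ¬ (k = 1 ∨ k = z ∨ k = j ∨ k = j * z) → ∀ l ∈ Q, l * l = 1 → j * l * (j * l) = 1 →
    k * l * (k * l) = 1 → l = 1 ∨ l = z ∨ l = j ∨ l = j * z ∨ l = k ∨ l = k * z ∨ l = j * k ∨
      l = j * k * z := by fd
  refine eq_of_le_of_card_ge (fun j hj => by_contra fun c => ?_) (by rw [hc, card_V])
  have hQ : ∀ x ∈ E, x ∈ Q := fun x hx => cJ1 j (h j hj) c x (by
    rw [← inv_eq_of_mul_eq_one_left (h _ (mul_mem hx hj)), mul_inv_rev,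
      inv_eq_of_mul_eq_one_left (h _ hx), inv_eq_of_mul_eq_one_left (h _ hj)])
  obtain ⟨a, ha, h1⟩ := exists_not_mem (E := E) (l := [1, z, j, j * z]) (by simp [hc])
  obtain ⟨b, hb, h2⟩ := exists_not_mem (E := E)
    (l := [1, z, j, j * z, a, a * z, j * a, j * a * z]) (by simp [hc])
  simp only [List.mem_cons, List.not_mem_nil, or_false] at h1 h2
  exact h2 (k j (hQ j hj) (h j hj) c a (hQ a ha) (h a ha) (h _ (mul_mem hj ha)) h1 b (hQ b hb)
    (h b hb) (h _ (mul_mem hj hb)) (h _ (mul_mem ha hb)))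

theorem s2 : ∀ m : T.G, m ^ 4 ≠ 1 → ∀ v ∈ Q, v * v = z →
    ¬ (m * v * m⁻¹ = v ∨ m * v * m⁻¹ = v * z) := by fd

theorem pl (X : Subgroup T.G) (hQ : X ≤ Q) (hn : ∃ u ∈ X, ∃ v ∈ X, u * v ≠ v * u)
    (h1 : ∀ w ∈ X, w = 1 ∨ w = z ∨ w * w = z)
    (h2 : ∀ s, (∀ w ∈ X, s * w * s⁻¹ ∈ X) ∨
      ∀ w ∈ X, ∀ w' ∈ X, s * w * s⁻¹ * w' = w' * (s * w * s⁻¹)) : False := by
  let g (s a b : T.G) : Prop := s * a * s⁻¹ * b = 1 ∨ s * a * s⁻¹ * b = z ∨
    s * a * s⁻¹ * b * (s * a * s⁻¹ * b) = z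
  let c (s a b : T.G) : Prop := s * a * s⁻¹ * b = b * (s * a * s⁻¹)
  have k : ∀ u ∈ Q, u * u = z → ∀ v ∈ Q, v * v = z → u * v ≠ v * u →
      ¬ (g (e 4) u u ∧ g (e 4) u v ∧ g (e 4) u (u * v) ∧ g (e 4) v u ∧ g (e 4) v v) ∧
      ¬ (c (e 4) u u ∧ c (e 4) u v ∧ c (e 4) v v) := by
    simp only [g, c]; fd
  obtain ⟨u, hu, v, hv, e1⟩ := hn
  have a : u * u = z := by
    rcases h1 u hu with rfl | rfl | a
    · simp at e1
    · exact absurd (zc v).symm e1
    · exact a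
  have b : v * v = z := by
    rcases h1 v hv with rfl | rfl | a
    · simp at e1
    · exact absurd (zc u) e1
    · exact a
  obtain ⟨k1, k2⟩ := k u (hQ hu) a v (hQ hv) b e1
  rcases h2 (e 4) with h | h
  · have (a) (ha : a ∈ X) (b) (hb : b ∈ X) : g (e 4) a b := h1 _ (mul_mem (h a ha) hb)
    exact k1 ⟨this u hu u hu, this u hu v hv, this u hu _ (mul_mem hu hv), this v hv u hu,
      this v hv v hv⟩
  · exact k2 ⟨h u hu u hu, h u hu v hv, h v hv v hv⟩

theorem bigQ (O : Subgroup T.G) (h : Q ≤ O) (hn : O ≠ Q) : V ≤ O := by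
  have k1 : ∀ m, m ∉ Q → m * e 64 ∈ Q ∨ m * m * e 64 ∈ Q := by fd
  have k2 : ∀ a ∈ V, a ∈ Q ∨ e 64 * a ∈ Q := by fd
  obtain ⟨m, hm, c⟩ := SetLike.not_le_iff_exists.1 fun a => hn (le_antisymm a h)
  have ht : e 64 ∈ O := by
    rcases k1 m c with a | a
    · exact (mul_mem_cancel_left hm).1 (h a)
    · exact (mul_mem_cancel_left (mul_mem hm hm)).1 (h a)
  exact fun a ha => (k2 a ha).elim (@h a) fun b => (mul_mem_cancel_left ht).1 (h b)

theorem uf : H87.UF.UF z D Q V W where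
  xs := xs
  zc := zc
  cardQ := card_Q
  Qn := Qn
  cQ m h := by rcases cQ m h with rfl | rfl; exacts [one_mem _, zQ]
  uniqQ := uniqQ
  Asq := by fd
  cardA := card_V
  uniqA := uniqA
  memR := by fd
  sqR := by fd
  zsq := by fd
  invR := by fd
  zD := by decide +kernel
  DA := by fd
  D1 := by fd
  QD := by fd
  cD := by fd
  trD := by fd
  prodD := by fd
  decA := by fd
  cJ j h1 h2 := ⟨cJ1 j h1 h2, by
    obtain ⟨u, -, a, b, v, -, c, d, e⟩ := cJ2 j (cJ1 j h1 h2 j rfl) h1 h2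
    exact ⟨u, v, a, c, b, d, e⟩⟩
  outQ := by fd
  s1 := by fd
  s2 v h1 h2 m h3 := by_contra fun c => s2 m c v h1 h2 h3
  pl := pl
  bigQ := bigQ
  exQ := by fd

universe v

theorem mod : H87.UF.ModStmt.{v} := fun F _ _ hF P =>
  (model F hF P).elim fun f => ⟨T.G, inferInstance, f, z, D, Q, V, W, uf⟩

end Cfsg.Agent.H11.PU
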