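import Cfsg.Agent.Lead.PcDefs

/-! Project PL: the reduction modulo the solvable radical. -/

set_option autoImplicit false

namespace Cfsg.Agent.H11.PlTop

open Subgroup Cfsg.Agent.Lead.Pc

universe u

theorem top : TopStmt.{u} := by
  intro q soc core G _ _ cp ns
  obtain ⟨K, ⟨hn, hs⟩, hmax⟩ : ∃ K : Subgroup G, Maximal (fun N : Subgroup G => N.Normal ∧ Group.IsSolvable N) K := by
    obtain ⟨K, -, hK⟩ := Finite.exists_le_maximal
      (p := fun N : Subgroup G => N.Normal ∧ Group.IsSolvable N) (a := ⊥) ⟨inferInstance, inferInstance⟩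
    exact ⟨K, hK⟩
  have su := QuotientGroup.mk'_surjective K
  have kerq : ∀ N : Subgroup (G ⧸ K), ((QuotientGroup.mk' K).subgroupComap N).ker =
      K.subgroupOf (N.comap (QuotientGroup.mk' K)) := fun N => by
    ext x
    simp only [MonoidHom.mem_ker, mem_subgroupOf, Subtype.ext_iff]
    exact QuotientGroup.eq_one_iff _
  have kle : ∀ N : Subgroup (G ⧸ K), K ≤ N.comap (QuotientGroup.mk' K) := fun N x hx => by
    rw [mem_comap, QuotientGroup.mk'_apply, (QuotientGroup.eq_one_iff x).2 hx]; exact one_mem _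
  have nt : Nontrivial (G ⧸ K) := by
    by_contra h
    rw [not_nontrivial_iff_subsingleton] at h
    apply ns
    exact Group.isSolvable_of_ker_le_range K.subtype (QuotientGroup.mk' K) (by simp)
  have nb : ∀ N : Subgroup (G ⧸ K), N.Normal → Group.IsSolvable N → N = ⊥ := fun N h1 h2 => by
    have h3 : Group.IsSolvable (N.comap (QuotientGroup.mk' K)) :=
      Group.isSolvable_of_ker_le_range (inclusion (kle N)) ((QuotientGroup.mk' K).subgroupComap N)
        (by rw [kerq, inclusion_range])
    have h4 := hmax ⟨inferInstance, h3⟩ (kle N)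
    rw [eq_bot_iff]
    intro y hy
    obtain ⟨x, rfl⟩ := su y
    exact (QuotientGroup.eq_one_iff x).2 (h4 hy)
  obtain ⟨S, T, st⟩ := soc (G ⧸ K) (q G _ _ su cp) nt nb
  have := st.nm
  have hq := core (G ⧸ K) S T st
  have e1 : (S.comap (QuotientGroup.mk' K) ⧸ K.subgroupOf (S.comap (QuotientGroup.mk' K))) ≃* S :=
    (QuotientGroup.quotientMulEquivOfEq (kerq S).symm).trans
      (QuotientGroup.quotientKerEquivOfSurjective _
        (MonoidHom.subgroupComap_surjective_of_surjective _ S su))
  have e2 : (G ⧸ S.comap (QuotientGroup.mk' K)) ≃* ((G ⧸ K) ⧸ S) :=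
    (QuotientGroup.quotientMulEquivOfEq (by rw [← MonoidHom.comap_ker, QuotientGroup.ker_mk'])).trans
      (QuotientGroup.quotientKerEquivOfSurjective ((QuotientGroup.mk' S).comp (QuotientGroup.mk' K))
        ((QuotientGroup.mk'_surjective S).comp su))
  have := st.sim
  refine ⟨K, S.comap (QuotientGroup.mk' K), hn, inferInstance, kle S, hs,
    Group.isSolvable_of_surjective (f := e2.symm.toMonoidHom) e2.symm.surjective, e1.isSimpleGroup,
    fun h => st.na ⟨⟨fun a b => ?_⟩⟩⟩
  obtain ⟨a, rfl⟩ := e1.surjective a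
  obtain ⟨b, rfl⟩ := e1.surjective b
  rw [← map_mul, ← map_mul, h.is_comm.comm]

end Cfsg.Agent.H11.PlTop
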