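import Mathlib
import Cfsg.Agent.H11.HdTop
import Cfsg.Agent.H96.SU5
import Cfsg.Agent.H7.Alperin

/-!
# Groups with a Sylow 2-subgroup of type `SL(5, 2)`: the frame
-/

set_option autoImplicit false
set_option maxRecDepth 100000
set_option exponentiation.threshold 30000
set_option linter.unusedSectionVars false

namespace Cfsg.Agent.H11.U5

open Cfsg.Agent.H89.TG Cfsg.Agent.H89.Rec Cfsg.Agent.H11.Hd Subgroup

/-- The Sylow subgroup. -/
abbrev S : Type := ↥T

/-- A subgroup of the Sylow subgroup. -/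
abbrev rs (A : Subgroup M) : Subgroup S := A.subgroupOf T

/-- A number that is not the code of an element of `T` is replaced by the code of the identity. -/
noncomputable def fixT (A : ℕ) : ℕ :=
  force A fun a => Bool.rec (motive := fun _ => ℕ) ONE a (pat pT.K a)

open Classical in
/-- An element of `M` as an element of `T`. -/
noncomputable def es (a : M) : S := if h : a ∈ T then ⟨a, h⟩ else 1

theorem es_val {a : M} (h : a ∈ T) : (es a).1 = a := by rw [es, dif_pos h]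

theorem es_coe (u : S) : es u.1 = u := Subtype.ext (es_val u.2)

theorem cd_es (a : M) : cd (es a).1 = fixT (cd a) := by
  have : fixT (cd a) = Bool.rec (motive := fun _ => ℕ) ONE (cd a) (pat pT.K (cd a)) := by
    unfold fixT; exact force_eq _ _
  by_cases h : a ∈ T
  · rw [es_val h, this, PS.mem_sub.1 h]
  · rw [es, dif_neg h, this, Bool.eq_false_iff.2 fun e => h (PS.mem_sub.2 e)]; exact cd_one

/-- The elementary matrices. -/
noncomputable abbrev y (i j : ℕ) : S := es (x i j)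

/-- The central involution. -/
noncomputable abbrev zs : S := y 0 4

theorem forall_rs {P : PS} [h : Fact (P.sub ≤ T)] {p : S → Prop} :
    (∀ u, u ∈ rs P.sub → p u) ↔
      ∀ i, ∀ hi : i ∈ enum P.l ONE, p ⟨P.mkE i hi, h.out (PS.mkE_mem i hi)⟩ :=
  ⟨fun a i hi => a _ (PS.mkE_mem i hi), fun a u hu =>
    (PS.forall_sub (P := P) (p := fun v => ∀ hv : v ∈ T, p ⟨v, hv⟩)).2 (fun i hi _ => a i hi)
      u.1 hu u.2⟩

theorem exists_rs {P : PS} [h : Fact (P.sub ≤ T)] {p : S → Prop} :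
    (∃ u, u ∈ rs P.sub ∧ p u) ↔
      ∃ i, ∃ hi : i ∈ enum P.l ONE, p ⟨P.mkE i hi, h.out (PS.mkE_mem i hi)⟩ := by
  rw [← not_iff_not, not_exists, not_exists]
  simp only [not_and, not_exists]
  exact forall_rs

theorem forall_S {p : S → Prop} :
    (∀ u, p u) ↔ ∀ i, ∀ hi : i ∈ enum pT.l ONE, p ⟨pT.mkE i hi, PS.mkE_mem i hi⟩ :=
  ⟨fun a _ _ => a _, fun a u =>
    (PS.forall_sub (P := pT) (p := fun v => ∀ hv : v ∈ T, p ⟨v, hv⟩)).2 (fun i hi _ => a i hi)
      u.1 u.2 u.2⟩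

theorem exists_S {p : S → Prop} :
    (∃ u, p u) ↔ ∃ i, ∃ hi : i ∈ enum pT.l ONE, p ⟨pT.mkE i hi, PS.mkE_mem i hi⟩ := by
  rw [← not_iff_not, not_exists, not_exists]
  simp only [not_exists]
  exact forall_S

theorem S_eq {u v : S} : u = v ↔ u.1 = v.1 := Subtype.ext_iff

/-- Decide a statement about the Sylow subgroup. -/
scoped macro "udec" "[" ts:Lean.Parser.Tactic.simpLemma,* "]" : tactic =>
  `(tactic| mdec [$ts,*, ↓ forall_rs, ↓ exists_rs, ↓ List.forall_mem_cons, ↓ exists_cons,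
    ↓ exists_nil, List.mem_cons, or_false, forall_S, exists_S, S_eq, coe_mul, coe_inv, coe_one,
    SubgroupClass.coe_pow, mem_subgroupOf, cd_es, cd_rep])

/-- Decide a statement about the Sylow subgroup. -/
scoped macro "ud" : tactic => `(tactic| udec [cd_es])

/-- A pattern. -/
def pP2 : PS := ⟨nat_lit 0x10c7bdf, [nat_lit 0x100000, nat_lit 0x200000, nat_lit 0x400000,
  nat_lit 0x800000, nat_lit 32768, nat_lit 65536, nat_lit 131072, nat_lit 1024, nat_lit 32],
  by decide +kernel⟩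

/-- A pattern subgroup. -/
abbrev P2 : Subgroup M := pP2.sub

/-- A pattern. -/
def pP4 : PS := ⟨nat_lit 0x10e73df, [nat_lit 0x100000, nat_lit 0x200000, nat_lit 0x400000,
  nat_lit 0x800000, nat_lit 32768, nat_lit 65536, nat_lit 1024, nat_lit 2048, nat_lit 32],
  by decide +kernel⟩

/-- A pattern subgroup. -/
abbrev P4 : Subgroup M := pP4.sub

instance : Fact (R1 ≤ T) := ⟨R1_le⟩
instance : Fact (R2 ≤ T) := ⟨R2_le⟩
instance : Fact (U ≤ T) := ⟨U_le⟩
instance : Fact (Z0 ≤ T) := ⟨Z0_U.trans U_le⟩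
instance : Fact (Q ≤ T) := ⟨PS.sub_le (by md)⟩
instance : Fact (E ≤ T) := ⟨PS.sub_le (by md)⟩
instance : Fact (T1 ≤ T) := ⟨PS.sub_le (by md)⟩
instance : Fact (T4 ≤ T) := ⟨PS.sub_le (by md)⟩
instance : Fact (P2 ≤ T) := ⟨PS.sub_le (by md)⟩
instance : Fact (P4 ≤ T) := ⟨PS.sub_le (by md)⟩
instance : Fact (T ≤ T) := ⟨le_rfl⟩

theorem rs_le {P : PS} [h : Fact (P.sub ≤ T)] {K : Subgroup S}
    (hK : ∀ b ∈ P.l, es (el (Nat.xor ONE b)) ∈ K) : rs P.sub ≤ K := fun u hu => by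
  obtain ⟨v, hv, e⟩ := PS.sub_le (P := P) (K := K.map T.subtype) (fun b hb => by
    obtain ⟨w, hw⟩ := (P.spec.2.2.1 b hb).1
    refine ⟨_, hK b hb, es_val (h.out (subset_closure ⟨b, hb, ?_⟩))⟩
    rw [← hw, el_cd]) hu
  exact (Subtype.ext e : v = u) ▸ hv

theorem rs_T : rs T = ⊤ := subgroupOf_self _

theorem length_enum (l : List ℕ) (a : ℕ) : (enum l a).length = 2 ^ l.length := by
  induction l generalizing a with
  | nil => rfl
  | cons b l ih => rw [enum, List.length_append, ih, ih, List.length_cons]; omega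

theorem card_le_of_mem {α : Type*} {f : α → ℕ} (hf : Function.Injective f) {l : List ℕ}
    (h : ∀ a, f a ∈ l) : Nat.card α ≤ l.length := by
  classical
  refine le_trans ?_ l.toFinset_card_le
  rw [← Fintype.card_coe, ← Nat.card_eq_fintype_card]
  exact Nat.card_le_card_of_injective (fun a => (⟨f a, List.mem_toFinset.2 (h a)⟩ : l.toFinset))
    fun a b e => hf (congrArg Subtype.val e)

theorem card_rs_le (P : PS) : Nat.card (rs P.sub) ≤ 2 ^ P.l.length :=
  length_enum P.l ONE ▸ card_le_of_mem (f := fun u : rs P.sub => cd u.1.1)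
    (fun _ _ e => Subtype.ext (Subtype.ext (cd_inj e))) fun u => P.mem_enum (PS.mem_sub.1 u.2)

theorem card_rs {A : Subgroup M} (h : A ≤ T) : Nat.card (rs A) = Nat.card A :=
  Nat.card_congr (subgroupOfEquivOfLe h).toEquiv

theorem testBit_enum {l : List ℕ} {a c i : ℕ} (h : c ∈ enum l a)
    (hi : ∀ b ∈ l, b.testBit i = false) : c.testBit i = a.testBit i := by
  induction l generalizing a with
  | nil => rw [List.mem_singleton.1 h]
  | cons b l ih =>
    have := fun {a} h => @ih a h fun b hb => hi b (List.mem_cons_of_mem _ hb)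
    rcases List.mem_append.1 h with h | h <;> rw [this h]
    rw [Nat.testBit_xor, hi b List.mem_cons_self, Bool.xor_false]

theorem nodup_enum {l : List ℕ} (h1 : ∀ b ∈ l, b.testBit b.log2 = true)
    (h2 : l.Pairwise fun b b' => b'.testBit b.log2 = false) (a : ℕ) : (enum l a).Nodup := by
  induction l generalizing a with
  | nil => exact List.nodup_singleton _
  | cons b l ih =>
    rw [List.pairwise_cons] at h2
    have := ih (fun b hb => h1 b (List.mem_cons_of_mem _ hb)) h2.2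
    refine List.Nodup.append (this _) (this _) fun c p q => ?_
    have := (testBit_enum p h2.1).symm.trans (testBit_enum q h2.1)
    rw [Nat.testBit_xor, h1 b List.mem_cons_self] at this
    simp at this

theorem card_S : Nat.card S = 2 ^ 10 :=
  (PS.card_sub (nodup_enum (by decide +kernel) (by decide +kernel) _)).trans (length_enum _ _)

theorem cenS : ∀ u : S, (∀ s ∈ [y 0 1, y 1 2, y 2 3, y 3 4], Commute s u) → u ≠ 1 → u = zs := by ud

theorem zsc : ∀ u : S, Commute u zs := by ud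

theorem zz : zs * zs = 1 := by ud

theorem z1 : zs ≠ 1 := by ud

theorem zs_val : zs.1 = z := by ud

/-! ### The polycyclic model -/

/-- The generators. -/
noncomputable def ys : List S := [y 0 1, y 1 2, y 2 3, y 3 4, y 0 2, y 1 3, y 2 4, y 0 3, y 1 4, y 0 4]

theorem rel : H96.SU5.T.Rel ys := by apply H96.SU5.rel_of <;> ud

/-- The isomorphism. -/
noncomputable def φ : H96.SU5.T.G →* S := H96.Pc.lift ys rel

theorem φ_bij : Function.Bijective φ :=
  H96.Pc.lift_bijective ys rel (eq_top_iff.2 (rs_T.ge.trans (rs_le fun b hb => subset_closure (by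
    change _ ∈ ys; revert b; udec [ys])))) card_S

theorem φ_el : ∀ i, ∀ h : i < 10, φ (H96.SU5.T.el (2 ^ i)) = ys[i] := fun i h => by
  rw [φ, H96.Pc.lift_apply, H96.Pc.el_val (Nat.pow_lt_pow_right one_lt_two h),
    H96.word_two_pow ys i h]

theorem map_φ {D : H96.Crit.SD} {P : PS} (h1 : Nat.card (D.K H96.SU5.T) = 2 ^ P.l.length)
    (h2 : ∀ b ∈ D.bs, φ (H96.SU5.T.el b) ∈ rs P.sub) : (D.K H96.SU5.T).map φ = rs P.sub := by
  refine eq_of_le_of_card_ge ?_ (by rw [card_map_of_injective φ_bij.1, h1]; exact card_rs_le P)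
  rw [D.eq_closure, map_le_iff_le_comap, closure_le]
  rintro _ ha
  obtain ⟨b, hb, rfl⟩ := List.mem_map.1 ha
  exact h2 b hb

theorem φ_els : φ (H96.SU5.T.el 1) = y 0 1 ∧ φ (H96.SU5.T.el 2) = y 1 2 ∧
    φ (H96.SU5.T.el 4) = y 2 3 ∧ φ (H96.SU5.T.el 8) = y 3 4 ∧ φ (H96.SU5.T.el 16) = y 0 2 ∧
    φ (H96.SU5.T.el 32) = y 1 3 ∧ φ (H96.SU5.T.el 64) = y 2 4 :=
  ⟨φ_el 0 (by norm_num), φ_el 1 (by norm_num), φ_el 2 (by norm_num), φ_el 3 (by norm_num),
    φ_el 4 (by norm_num), φ_el 5 (by norm_num), φ_el 6 (by norm_num)⟩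

theorem map_P : H96.SU5.P1.map φ = rs T1 ∧ H96.SU5.P2.map φ = rs P2 ∧
    H96.SU5.P4.map φ = rs P4 ∧ H96.SU5.P8.map φ = rs T4 := by
  obtain ⟨a, b, c, d, e, f, g⟩ := φ_els
  refine ⟨map_φ H96.SU5.card_P1 ?_, map_φ H96.SU5.card_P2 ?_, map_φ H96.SU5.card_P4 ?_,
    map_φ H96.SU5.card_P8 ?_⟩ <;>
  · simp only [H96.SU5.dP1, H96.SU5.dP2, H96.SU5.dP4, H96.SU5.dP8, List.forall_mem_cons, a, b, c,
      d, e, f, g]
    ud

variable {G : Type*} [Group G] [Finite G] {ι : S →* G}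

/-- The image of `ι` is a Sylow 2-subgroup. -/
structure Fr (ι : S →* G) : Prop where
  inj : Function.Injective ι
  syl : Syl ι.range ⊤

theorem exists_sylow {R : Subgroup G} (h : Syl R ⊤) : ∃ P : Sylow 2 G, (P : Subgroup G) = R :=
  ⟨h.grp.toSylow (by
    rw [← even_iff_two_dvd, Nat.not_even_iff_odd, ← relIndex_top_right]; exact h.odd), rfl⟩

theorem into_top {g : G} (h : g ∈ normalizer (ι.range : Set G)) : Into ι g ⊤ ⊤ :=
  Into.of_normalizer (by rwa [← MonoidHom.range_eq_map])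

/-- The subgroups that can be essential, and the whole group. -/
noncomputable def ess : List (Subgroup S) := [⊤, rs T1, rs P2, rs P4, rs T4]

namespace Fr

variable (h : Fr ι)
include h

theorem step {P : Sylow 2 G} (hP : (P : Subgroup G) = ι.range) {H : Subgroup G} {g : G}
    (hg : H7.EssStep 2 P H g) : ∃ A ∈ ess, H = A.map ι ∧ Into ι g⁻¹ A A := by
  have h1 := inv_mem (hg.mem_normalizer P.2)
  have h2 := H96.SU5.ess (ι.comp φ) (h.inj.comp φ_bij.1) (by
    rw [hP, MonoidHom.range_comp, MonoidHom.range_eq_top.2 φ_bij.2, MonoidHom.range_eq_map]) hg.1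
  simp only [← map_map, map_P] at h2
  rcases h2 with rfl | rfl | rfl | rfl <;> exact ⟨_, by simp [ess], rfl, Into.of_normalizer h1⟩

/-- Control of fusion. -/
theorem ctl0 {K : Subgroup G} (hK : ∀ A ∈ ess, ∀ g, Into ι g A A → g ∈ K) {A : Set S} {g : G}
    (hg : ∀ u ∈ A, ∃ v, Cj ι g u v) : ∃ k ∈ K, ∀ u ∈ A, ∀ v, Cj ι g u v → Cj ι k u v := by
  obtain ⟨P, hP⟩ := exists_sylow h.syl
  obtain ⟨k, hk, e⟩ := H7.controls_fusion_of_ess P K
    (fun n hn => ⟨n, hK ⊤ (by simp [ess]) n (into_top (hP ▸ hn)), fun _ _ => rfl⟩)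
    (fun H n hn => by
      obtain ⟨B, hB, -, e⟩ := h.step hP hn
      exact ⟨n, K.inv_mem_iff.1 (hK B hB _ e), fun _ _ => rfl⟩)
    (A := ι '' A) (by rintro _ ⟨u, -, rfl⟩; exact hP.ge ⟨u, rfl⟩) (g := g⁻¹) (by
      rintro _ ⟨_, ⟨u, hu, rfl⟩, rfl⟩
      obtain ⟨v, hv⟩ := hg u hu
      exact hP.ge ⟨v, by simpa using hv.symm.symm'.symm.symm' ▸ rfl⟩)
  refine ⟨k⁻¹, inv_mem hk, fun u hu v hv => ?_⟩
  have := e _ ⟨u, hu, rfl⟩
  rw [Cj, inv_inv, this, inv_inv]; exact hv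

/-- Invariants of fusion. -/
theorem inv {p : S → Prop}
    (hE : ∀ A ∈ ess, ∀ g, Into ι g A A → ∀ u ∈ A, ∀ v, Cj ι g u v → p u → p v) {g : G} {u v : S}
    (e : Cj ι g u v) (hu : p u) : p v := by
  obtain ⟨P, hP⟩ := exists_sylow h.syl
  have key : ∀ A ∈ ess, ∀ g, Into ι g⁻¹ A A → ∀ a ∈ A.map ι,
      (∃ w, ι w = g⁻¹ * a * g ∧ p w) = ∃ w, ι w = a ∧ p w := by
    rintro A hA g hg _ ⟨u, hu, rfl⟩
    obtain ⟨v, hv, e⟩ := hg u hu
    have e' : g⁻¹ * ι u * g = ι v := by simpa [Cj] using e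
    simp only [e', h.inj.eq_iff, exists_eq_left, eq_iff_iff]
    exact ⟨hE A hA _ (hg.symm' h.inj) v hv u e.symm, hE A hA _ hg u hu v e⟩
  have := H7.invariant_of_ess P (fun a => ∃ w, ι w = a ∧ p w)
    (fun n hn a ha => key ⊤ (by simp [ess]) n (into_top (hP ▸ inv_mem hn)) a
      (by rwa [← MonoidHom.range_eq_map, ← hP]))
    (fun H n hn a ha => by
      obtain ⟨B, hB, rfl, e⟩ := h.step hP hn
      exact key B hB n e a ha) (a := ι u) (g := g⁻¹) (hP.ge ⟨u, rfl⟩)
    (hP.ge ⟨v, by rw [inv_inv]; exact Eq.symm e⟩)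
  obtain ⟨w, hw, a⟩ := this.symm ▸ (⟨u, rfl, hu⟩ : ∃ w, ι w = ι u ∧ p w)
  rw [inv_inv] at hw
  exact h.inj (hw.trans e) ▸ a

end Fr

end Cfsg.Agent.H11.U5
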