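import Mathlib
import Cfsg.Agent.H11.HsF

/-!
# The action on the extraspecial group of order 128 modulo its centre
-/

set_option autoImplicit false
set_option maxRecDepth 100000
set_option exponentiation.threshold 30000
set_option linter.unusedSectionVars false

namespace Cfsg.Agent.H11.U5

open Cfsg.Agent.H89 Cfsg.Agent.H89.TG Cfsg.Agent.H89.Rec Cfsg.Agent.H11.Hs Subgroup
open Cfsg.Agent.H11.Hd (M anyL anyL_iff el x Q)
open scoped Cfsg.Agent.H11.Hd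

variable {G K : Type*} [Group G] [Group K] {ι : X →* G} {ι' : X →* K}

/-- The image of `ι` is a self-centralising normal subgroup. -/
structure Su0 (ι : X →* G) : Prop where
  inj : Function.Injective ι
  nrm : ∀ g u, ∃ v, Cj ι g u v
  cen : ∀ g, (∀ u, Cj ι g u u) → g ∈ ι.range

/-- The element `g` acts modulo the centre by the map `f`. -/
def Al (ι : X →* G) (g : G) (f : ℕ → ℕ) : Prop := ∀ u, ∃ v, lo v = f (lo u) ∧ Cj ι g u v

/-- A table modulo the centre. -/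
noncomputable def l7 (t v : ℕ) : ℕ := Nat.land (tb t v) (nat_lit 63)

/-- The quadratic form. -/
noncomputable def qf (v : ℕ) : ℕ := par (Nat.land v (Nat.shiftRight v (nat_lit 3)))

theorem lo_e : ∀ v, v < 64 → lo (e v) = v := by
  simp only [lo, El.val_c]; ndec

/-- Isometries. -/
structure Iso (f : ℕ → ℕ) : Prop where
  lt : ∀ v, v < 64 → f v < 64
  add : ∀ v, v < 64 → ∀ w, w < 64 → f (Nat.xor v w) = Nat.xor (f v) (f w)
  q : ∀ v, v < 64 → qf (f v) = qf v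
  b : ∀ v, v < 64 → ∀ w, w < 64 → bf (f v) (f w) = bf v w

namespace Al

variable {g g' : G} {f f' : ℕ → ℕ}

theorem mul (h : Al ι g f) (h' : Al ι g' f') : Al ι (g * g') fun a => f (f' a) := fun u =>
  let ⟨_, a, b⟩ := h' u; let ⟨w, c, d⟩ := h _; ⟨w, c.trans (congrArg f a), b.trans d⟩

theorem of_range (h : g ∈ ι.range) : Al ι g fun a => a := fun u =>
  let ⟨q, e⟩ := h; ⟨_, lo_conj q u, e ▸ Cj.self q u⟩

theorem pow (h : Al ι g f) (k : ℕ) : Al ι (g ^ k) (itr f k) := by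
  induction k with
  | zero => rw [pow_zero]; exact of_range (one_mem _)
  | succ k ih => rw [pow_succ']; exact h.mul ih

theorem congr (h : Al ι g f) (e : ∀ a, a < 64 → f a = f' a) : Al ι g f' := fun u =>
  let ⟨v, a, b⟩ := h u; ⟨v, a.trans (e _ (lo_lt u)), b⟩

theorem coset (h : Al ι g f) (e : g⁻¹ * g' ∈ ι.range) : Al ι g' f := by
  simpa using h.mul (of_range e)

theorem val (hi : Function.Injective ι) (h : Al ι g f) {u v : X} (e : Cj ι g u v) :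
    lo v = f (lo u) :=
  let ⟨_, a, b⟩ := h u; b.uniq hi e ▸ a

theorem uniq (hi : Function.Injective ι) (h : Al ι g f) (h' : Al ι g f') :
    ∀ v, v < 64 → f v = f' v := fun v hv => by
  obtain ⟨w, a, b⟩ := h (e v)
  have := h'.val hi b
  rw [lo_e v hv] at a this
  exact a.symm.trans this

theorem iso (hi : Function.Injective ι) (h : Al ι g f) : Iso f := by
  have key : ∀ v, v < 64 → ∃ w, lo w = f v ∧ Cj ι g (e v) w := fun v hv => by
    have := h (e v); rwa [lo_e v hv] at this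
  refine ⟨fun v hv => ?_, fun v hv w hw => ?_, fun v hv => ?_, fun v hv w hw => ?_⟩ <;>
    obtain ⟨a, a1, a2⟩ := key v hv
  · exact a1 ▸ lo_lt a
  · obtain ⟨b, b1, b2⟩ := key w hw
    have := h.val hi (a2.mul b2)
    rw [lo_mul, lo_mul, lo_e v hv, lo_e w hw, a1, b1] at this
    exact this.symm
  · have h1 := (lo_sq _).symm.trans (((a2.mul a2).eq_iff hi (Cj.one g)).trans (lo_sq _))
    rw [a1, lo_e v hv] at h1
    have h2 : ∀ n, qf n ≤ 1 := fun _ => Nat.and_le_right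
    have := h2 v
    have := h2 (f v)
    change qf v = 0 ↔ qf (f v) = 0 at h1
    omega
  · obtain ⟨b, b1, b2⟩ := key w hw
    rw [← a1, ← b1, bf_eq ((a2.mul b2).eq_iff hi (b2.mul a2)).symm, lo_e v hv, lo_e w hw]

theorem comp (h : Al ι g f) {β : MulAut X} {B B' : ℕ → ℕ} (h1 : ∀ u, lo (β u) = B (lo u))
    (h2 : ∀ u, lo (β.symm u) = B' (lo u)) :
    Al (ι.comp β.toMonoidHom) g fun a => B' (f (B a)) := fun u => by
  obtain ⟨v, a, b⟩ := h (β u)
  exact ⟨β.symm v, by rw [h2, a, h1], by simpa [Cj] using b⟩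

end Al

theorem inner {τ : MulAut X} (h : ∀ u, lo (τ u) = lo u) : ∃ q, ∀ u, τ u = q * u * q⁻¹ := by
  have adj : ∀ y0 : X, lo y0 = 1 → ∀ y1 : X, lo y1 = 2 → ∀ y2 : X, lo y2 = 4 →
      ∀ y3 : X, lo y3 = 8 → ∀ y4 : X, lo y4 = 16 → ∀ y5 : X, lo y5 = 32 → ∃ q : X,
      q * e 1 * q⁻¹ = y0 ∧ q * e 2 * q⁻¹ = y1 ∧ q * e 4 * q⁻¹ = y2 ∧
      q * e 8 * q⁻¹ = y3 ∧ q * e 16 * q⁻¹ = y4 ∧ q * e 32 * q⁻¹ = y5 := by
    tdec [lo, neq_iff]
  have k := fun v hv => (h (e v)).trans (lo_e v hv)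
  obtain ⟨q, q0, q1, q2, q3, q4, q5⟩ := adj _ (k 1 (by norm_num)) _ (k 2 (by norm_num)) _
    (k 4 (by norm_num)) _ (k 8 (by norm_num)) _ (k 16 (by norm_num)) _ (k 32 (by norm_num))
  refine ⟨q, fun u => ?_⟩
  have a := map_ext τ.toMonoidHom (ext1 u)
  have b := map_ext (MulAut.conj q).toMonoidHom (ext1 u)
  simp only [List.map_cons, List.map_nil, MulEquiv.coe_toMonoidHom, MulAut.conj_apply, q0, q1, q2,
    q3, q4, q5, Su.aut_z, (zc q).eq, mul_inv_cancel_right] at a b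
  exact a.trans b.symm

namespace Su0

variable (h : Su0 ι)
include h

theorem exists_aut (g : G) : ∃ σ : MulAut X, ∀ u, Cj ι g u (σ u) := by
  choose a ha using h.nrm g
  choose b hb using h.nrm g⁻¹
  exact ⟨⟨⟨a, b, fun u => (hb _).uniq h.inj (ha u).symm, fun u => (ha _).uniq h.inj (hb u).symm'⟩,
    fun u v => (ha _).uniq h.inj ((ha u).mul (ha v))⟩, ha⟩

theorem exists_al (g : G) : ∃ f, Al ι g f := by
  obtain ⟨σ, hσ⟩ := h.exists_aut g
  refine ⟨fun v => lo (σ (e v)), fun u => ⟨_, ?_, hσ u⟩⟩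
  have k1 : ∀ u : X, u = e (lo u) ∨ u = e (lo u) * z := by tdec [lo]
  have k2 : ∀ u : X, lo (u * z) = lo u := by tdec [lo, neq_iff]
  rcases k1 u with p | p <;> conv_lhs => rw [p]
  rw [map_mul, Su.aut_z, k2]

theorem transfer (h' : Su0 ι') {g : G} {m : K} {f : ℕ → ℕ} (hg : Al ι g f) (hm : Al ι' m f) :
    ∃ q, ∀ u v, Cj ι' m u v → Cj ι (ι q * g) u v := by
  obtain ⟨σ, hσ⟩ := h.exists_aut g
  obtain ⟨σ', hσ'⟩ := h'.exists_aut m
  obtain ⟨q, hq⟩ := inner (τ := σ' * σ⁻¹) fun u => by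
    obtain ⟨u, rfl⟩ := σ.surjective u
    rw [MulAut.mul_apply, MulAut.inv_apply_self, hm.val h'.inj (hσ' u), hg.val h.inj (hσ u)]
  refine ⟨q, fun u v e => (hσ u).trans (Cj.self' ?_)⟩
  rw [← hq, MulAut.mul_apply, MulAut.inv_apply_self, (hσ' u).uniq h'.inj e]

theorem mem {g : G} (hg : Al ι g fun a => a) : g ∈ ι.range := by
  obtain ⟨q, hq⟩ := h.transfer h hg (Al.of_range (one_mem _))
  exact (mul_mem_cancel_left (show ι q ∈ ι.range from ⟨q, rfl⟩)).1 (h.cen _ fun u => hq u u (Cj.refl u))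

theorem comp (β : MulAut X) : Su0 (ι.comp β.toMonoidHom) where
  inj := h.inj.comp β.injective
  nrm g u := by
    obtain ⟨v, hv⟩ := h.nrm g (β u)
    exact ⟨β.symm v, by simpa [Cj] using hv⟩
  cen g hg := by
    obtain ⟨v, hv⟩ := h.cen g fun u => by simpa [Cj] using hg (β.symm u)
    exact ⟨β.symm v, by simpa using hv⟩

theorem card_range : Nat.card ι.range = 128 := by
  rw [← Nat.card_congr (MonoidHom.ofInjective h.inj).toEquiv, El.card]; rfl

theorem normal : ι.range.Normal :=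
  ⟨fun _ ⟨u, hu⟩ g => let ⟨v, hv⟩ := h.nrm g u; ⟨v, hu ▸ Eq.symm hv⟩⟩

end Su0

/-- The pairs of elements with the same action. -/
def Gam (h : Su0 ι) (h' : Su0 ι') : Subgroup (G × K) where
  carrier := {p | ∃ f, Al ι p.1 f ∧ Al ι' p.2 f}
  one_mem' := ⟨_, Al.of_range (one_mem _), Al.of_range (one_mem _)⟩
  mul_mem' := fun ⟨_, a, b⟩ ⟨_, c, d⟩ => ⟨_, a.mul c, b.mul d⟩
  inv_mem' := by
    rintro ⟨g, m⟩ ⟨f, a, b⟩
    obtain ⟨f1, a1⟩ := h.exists_al g⁻¹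
    obtain ⟨f2, b1⟩ := h'.exists_al m⁻¹
    refine ⟨f1, a1, b1.congr fun v hv => ?_⟩
    have p := (a.mul a1).uniq h.inj (Al.of_range (by simp))
    have q := (b1.mul b).uniq h'.inj (Al.of_range (by simp))
    have := q _ ((a1.iso h.inj).lt v hv)
    rwa [p v hv] at this

theorem card_eq [Finite G] [Finite K] (h : Su0 ι) (h' : Su0 ι')
    (h1 : ∀ g, ∃ m, (g, m) ∈ Gam h h') (h2 : ∀ m, ∃ g, (g, m) ∈ Gam h h') :
    Nat.card G = Nat.card K := by
  have s1 : Function.Surjective (Prod.fst ∘ (Gam h h').subtype) := fun g =>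
    let ⟨m, hm⟩ := h1 g; ⟨⟨_, hm⟩, rfl⟩
  have s2 : Function.Surjective (Prod.snd ∘ (Gam h h').subtype) := fun m =>
    let ⟨g, hg⟩ := h2 m; ⟨⟨_, hg⟩, rfl⟩
  have := normal_goursatFst s1
  have := normal_goursatSnd s2
  obtain ⟨ε, -⟩ := goursat_surjective s1 s2
  have e1 : (Gam h h').goursatFst = ι.range := ext fun g => mem_goursatFst.trans
    ⟨fun ⟨_, a, b⟩ => h.mem (a.congr (b.uniq h'.inj (Al.of_range (one_mem _)))),
      fun a => ⟨_, Al.of_range a, Al.of_range (one_mem _)⟩⟩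
  have e2 : (Gam h h').goursatSnd = ι'.range := ext fun g => mem_goursatSnd.trans
    ⟨fun ⟨_, a, b⟩ => h'.mem (b.congr (a.uniq h.inj (Al.of_range (one_mem _)))),
      fun a => ⟨_, Al.of_range (one_mem _), Al.of_range a⟩⟩
  rw [(Gam h h').goursatFst.card_eq_card_quotient_mul_card_subgroup,
    (Gam h h').goursatSnd.card_eq_card_quotient_mul_card_subgroup, Nat.card_congr ε.toEquiv, e1, e2,
    h.card_range, h'.card_range]

/-! ### The search for isometries -/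

/-- A sum over the pairs whose first entry meets `w`. -/
noncomputable def pl (l : List (ℕ × ℕ)) (pr : ℕ × ℕ → ℕ) (W : ℕ) : ℕ := force W fun w =>
  List.rec (motive := fun _ => ℕ) 0 (fun p _ ih => Bool.rec (motive := fun _ => ℕ)
    (Nat.xor (pr p) ih) ih (Nat.beq (Nat.land w p.1) 0)) l

theorem Iso.pl {f : ℕ → ℕ} (h : Iso f) {l : List (ℕ × ℕ)} (hl : ∀ p ∈ l, p.1 < 64 ∧ f p.1 = p.2)
    (w : ℕ) : pl l Prod.fst w < 64 ∧ f (pl l Prod.fst w) = pl l Prod.snd w := by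
  induction l with
  | nil =>
    change 0 < 64 ∧ f 0 = 0
    exact ⟨by norm_num, (h.add 0 (by norm_num) 0 (by norm_num)).trans (Nat.xor_self _)⟩
  | cons p l ih =>
    have e : ∀ pr, U5.pl (p :: l) pr w = Bool.rec (motive := fun _ => ℕ)
      (Nat.xor (pr p) (U5.pl l pr w)) (U5.pl l pr w) (Nat.beq (Nat.land w p.1) 0) := fun _ => rfl
    have a := ih fun q hq => hl q (List.mem_cons_of_mem _ hq)
    have b := hl p List.mem_cons_self
    rw [e, e]
    cases Nat.beq (Nat.land w p.1) 0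
    · exact ⟨Nat.xor_lt_two_pow (n := 6) b.1 a.1, by rw [← b.2, ← a.2]; exact h.add _ b.1 _ a.1⟩
    · exact a

/-- The test for the image `y` of `v`. -/
noncomputable def st (AB : List (ℕ × ℕ)) (v y : ℕ) (l : List (ℕ × ℕ)) : Bool :=
  band (Nat.beq (qf y) (qf v)) (band (allL (fun p => Nat.beq (bf y p.2) (bf v p.1)) l)
    (allL (fun t => bimp (Nat.beq (pl ((v, y) :: l) Prod.fst (l7 t.1 v)) (l7 t.1 v))
      (Nat.beq (pl ((v, y) :: l) Prod.snd (l7 t.1 v)) (l7 t.2 y))) AB))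

/-- The search. -/
noncomputable def srch (AB : List (ℕ × ℕ)) (cc : (ℕ → ℕ) → Bool) (o : List ℕ) :
    List (ℕ × ℕ) → Bool :=
  List.rec (motive := fun _ => List (ℕ × ℕ) → Bool)
    (fun l => band (allF (fun w => Nat.beq (pl l Prod.fst w) w) 64) (cc (pl l Prod.snd)))
    (fun v _ ih l => band (Nat.ble v 63)
      (allF (fun y => bimp (st AB v y l) (ih ((v, y) :: l))) 64)) o

theorem Iso.srch {f : ℕ → ℕ} (h : Iso f) {AB : List (ℕ × ℕ)}
    (hA : ∀ t ∈ AB, ∀ v, v < 64 → f (l7 t.1 v) = l7 t.2 (f v)) {cc : (ℕ → ℕ) → Bool} {o : List ℕ}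
    {l : List (ℕ × ℕ)} (hl : ∀ p ∈ l, p.1 < 64 ∧ f p.1 = p.2) (hs : srch AB cc o l = true) :
    ∃ f', (∀ w, w < 64 → f w = f' w) ∧ cc f' = true := by
  induction o generalizing l with
  | nil =>
    obtain ⟨a, b⟩ := band_iff.2 hs
    refine ⟨_, fun w hw => ?_, b⟩
    rw [← (h.pl hl w).2, neq_iff.2 (allF_iff.2 a w hw)]
  | cons v o ih =>
    obtain ⟨a, b⟩ := band_iff.2 hs
    have hv : v < 64 := Nat.lt_succ_of_le (nle_iff.2 a)
    have hl' : ∀ p ∈ (v, f v) :: l, p.1 < 64 ∧ f p.1 = p.2 := List.forall_mem_cons.2 ⟨⟨hv, rfl⟩, hl⟩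
    refine ih hl' (bimp_iff.2 (allF_iff.2 b _ (h.lt v hv)) ?_)
    simp only [st, ← band_iff, ← allL_iff, ← bimp_iff, ← neq_iff]
    exact ⟨h.q v hv, fun p hp => (hl p hp).2 ▸ h.b v hv _ (hl p hp).1, fun t ht e => by
      rw [← (h.pl hl' _).2, e, hA t ht v hv]⟩

/-- The fourth power is trivial. -/
noncomputable def ccK (f : ℕ → ℕ) : Bool := allF (fun v => Nat.beq (itr f 4 v) v) 64

/-- The map is one of the list. -/
noncomputable def inL (F : List ℕ) (f : ℕ → ℕ) : Bool :=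
  anyL (fun t => allF (fun v => Nat.beq (f v) (l7 t v)) 64) F

/-- The test for a new generator. -/
noncomputable def ccS (c : ℕ) (D F : List ℕ) (f : ℕ → ℕ) : Bool :=
  bimp (allF (fun v => Nat.beq (f (f v)) v) 64)
    (bimp (inL D (itr (fun w => f (l7 c w)) 3)) (inL F f))

theorem inL_iff {F : List ℕ} {f : ℕ → ℕ} :
    inL F f = true ↔ ∃ t ∈ F, ∀ v, v < 64 → f v = l7 t v := by
  simp only [inL, ← anyL_iff, ← allF_iff, ← neq_iff]

/-- A table. -/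
def t12 : ℕ := nat_lit 0xebdbbf4e3cb9f0fbfbffcf3ebdf8dbbb7ecd3ab5e8cb9b3e4c38b1e0ab5abd4a34a9d0bb7afdcb36add89b3a7cc932a5c88b1a3c4830a1c06ad9bb462c99b07af9fbc72e9db85ab97ac52a95a84a993a442891a02a58b9422489903a78f9c3268d981a3878c12285880a183840208180

/-- A table. -/
def t13 : ℕ := nat_lit 0xe7db8f4efcbaf0f7fbcfcffebef8c79b0e4cf8b2e0d7bb4ecdfab6e8b77acdcbf6aed8a75a8d4af4aad0973a4cc9f2a6c8871a0c48f0a2c066d98b46ec9ab076f9cbc7ee9eb846990a44e892a056b94ac5ea96a83678c9c3e68e9826588942e48a90163848c1e2868806180840e08280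

/-- A table. -/
def t23 : ℕ := nat_lit 0xd7ab6ecdfbb4e8c78b2e4cf9b0e0f7ebefcfffbcf8e7cbaf4efdb8f0b76aedcbf7acd8a74aad4af5a8d0972a6cc9f3a4c8870a2c48f1a0c056a96ac5eb94a846892a44e990a076e9ebc7ef9cb866c9ab46ed98b03668e9c3e78c982648a942e58890162868c1e3848806082840e18080

/-- A table. -/
def t21 : ℕ := nat_lit 0xddbf6ecd5af4e8eddfaf4e5cf8f0fdffefcf5efcf8cd9f2e4c58f0e09d3e6cc952e4c8ad5ead4a54e8d0bd7eedcb56ecd88d1e2c4850e0c05cbd6ac54ad4a86cddab464cd8b07cfdebc74edcb84c9d2a4448d0a01c3c68c142c4882c5ca94244c8903c7ce9c346cc980c1c284040c080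

/-- A table. -/
def t32 : ℕ := nat_lit 0xbb72fdeb76acd8ab52bd6a74a8d0dbb37eed7ab4e8cb933e6c78b0e0fbf3ffef7ebcf8ebd3bf6e7cb8f09b327ce972a4c88b123c6870a0c03a70f9e3668c982a50b9626488905ab17ae56a94a84a913a646890a07af1fbe76e9cb86ad1bb666c98b01a3078e16284880a103860608080

/-- A table. -/
def t1323 : ℕ := nat_lit 0xcf8b0e4c79b2e0dfab4ecd7bb6e8efcb8f4e7dbaf0ffebcfcf7fbef8bf6acdcb77aed8af4a8d4a75aad09f2a4cc973a6c88f0a0c4871a2c04e890a446992a05ea94ac56b96a86ec98b466d9ab07ee9cbc76f9eb83e68c9c3678e982e488942658a901e2848c16386880e080840618280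

/-- A table. -/
def t1312 : ℕ := nat_lit 0xf3fbdfcfbebff8e3db9f4ebcbbf0c39b1e4cb8b3e0d3bb5ecdbab7e8a35a9d4ab4abd0b37addcbb6afd8933a5cc9b2a7c8831a1c48b0a3c072f9dbc7ae9fb862d99b46ac9bb042991a44a893a052b95ac5aa97a822589942a48b903278d9c3a68f98123858c1a2878802181840a08380

/-- A table. -/
def t2123 : ℕ := nat_lit 0xf5efefcfdffcf8c58f2e4cd9f0e0d5af6ecddbf4e8e5cfaf4eddf8f0952e6cc9d3e4c8a54ead4ad5e8d0b56eedcbd7ecd8850e2c48d1e0c074edebc7cfdcb8448d2a44c9d0a054ad6ac5cbd4a864cdab46cdd8b0142c68c1c3c488244ca942c5c890346ce9c3c7cc98040c2840c1c080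

/-- A table. -/
def t3212 : ℕ := nat_lit 0xaf52ad6a34a9d0bf72edeb36add8dfb36eed3ab5e8cf932e6c38b1e0efd3af6e3cb9f0fff3efef3ebdf89f326ce932a5c88f122c6830a1c02e50a9622489903e70e9e3268d985eb16ae52a95a84e912a642891a06ed1ab662c99b07ef1ebe72e9db81e3068e12285880e102860208180

/-- A table. -/
def tI : ℕ := nat_lit 0xfffbefcf7ebcf8efdbaf4e7cb8f0dfbb6ecd7ab4e8cf9b2e4c78b0e0bf7aedcb76acd8af5aad4a74a8d09f3a6cc972a4c88f1a2c4870a0c07ef9ebc76e9cb86ed9ab466c98b05eb96ac56a94a84e992a446890a03e78e9c3668c982e58a9426488901e3868c16284880e182840608080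

/-- Automorphisms with their inverses. -/
def Bs : List (ℕ × ℕ) := [(nat_lit 0xfffbefcf7ebcf8efdbaf4e7cb8f0dfbb6ecd7ab4e8cf9b2e4c78b0e0bf7aedcb76acd8af5aad4a74a8d09f3a6cc972a4c88f1a2c4870a0c07ef9ebc76e9cb86ed9ab466c98b05eb96ac56a94a84e992a446890a03e78e9c3668c982e58a9426488901e3868c16284880e182840608080,
  nat_lit 0xfffbefcf7ebcf8efdbaf4e7cb8f0dfbb6ecd7ab4e8cf9b2e4c78b0e0bf7aedcb76acd8af5aad4a74a8d09f3a6cc972a4c88f1a2c4870a0c07ef9ebc76e9cb86ed9ab466c98b05eb96ac56a94a84e992a446890a03e78e9c3668c982e58a9426488901e3868c16284880e182840608080),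
  (nat_lit 0x72e1dba7af1fbe62c19b26ad1bb6dbb37eed3a35eacb933e6c3831e2b76acd8bf7aedca74a8d0af5aad49f3a6cc972a4c88f1a2c4870a0c0f3e3dfafbf3ffee3c39f2ebd3bf65ab17ae52a15aa4a913a642811a23668c983e78e9c26488902e58a941e3868c16284880e182840608080,
  nat_lit 0x72e1dba7af1fbe62c19b26ad1bb6dbb37eed3a35eacb933e6c3831e2b76acd8bf7aedca74a8d0af5aad49f3a6cc972a4c88f1a2c4870a0c0f3e3dfafbf3ffee3c39f2ebd3bf65ab17ae52a15aa4a913a642811a23668c983e78e9c26488902e58a941e3868c16284880e182840608080),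
  (nat_lit 0x4fdb6fc47cb4f85ffb2f457eb0f06f9beec678bce87fbbae477ab8e00f5a6dc074a4d81f7a2d4176a0d02f1aecc270acc83f3aac4372a8c0ced96bcc6c94b8def92b4d6e90b0ee99eace689ca8feb9aa4f6a98a08e5869c86484989e782949668090ae18e8ca608c88be38a84b628880,
  nat_lit 0x4fdb6fc47cb4f85ffb2f457eb0f06f9beec678bce87fbbae477ab8e00f5a6dc074a4d81f7a2d4176a0d02f1aecc270acc83f3aac4372a8c0ced96bcc6c94b8def92b4d6e90b0ee99eace689ca8feb9aa4f6a98a08e5869c86484989e782949668090ae18e8ca608c88be38a84b628880),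
  (nat_lit 0x52e31b25af33b642c35ba4ad37befbb1be6f3a19e2eb91feee381dea074a4d80f5a6dc176a0d01f7a2d42f1aecc270acc83f3aac4372a8c0d3e11f2dbf13f6c3c15facbd17fe7ab3ba672a39a26a93fae6283daa86484988e5869c96680909e78294ae18e8ca608c88be38a84b628880,
  nat_lit 0x4ac37ba42d35be5ae33b252f31b6e391deeeb81feaf3b19e6fba1be20f4a6d8075a4dc1f6a2d0177a0d4271accc2f0aec8373a8c43f2aac0cbc17fac3d15fedbe13f2d3f11f66293dae6a83faa72b39a67aa3ba28e48698865849c9e682909678094a618c8cae08e88b638884be28a80)]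

/-- The possible actions. -/
def F2 : List ℕ := [nat_lit 0x5cbd6ac54ad4a86cddab464cd8b07cfdebc74edcb84c9d2a4448d0a01c3c68c142c4882c5ca94244c8903c7ce9c346cc980c1c284040c080,
  nat_lit 0x74edebc7cfdcb8448d2a44c9d0a054ad6ac5cbd4a864cdab46cdd8b0142c68c1c3c488244ca942c5c890346ce9c3c7cc98040c2840c1c080,
  nat_lit 0x56a94295eb962d6ed9a3566c983176e9c397ef9e3d4e992254689021142c4881c3c68c2c5ca94244c890346cc983c7ce9c0c1c284040c080,
  nat_lit 0x7ef9c3976e9e3d46892254e990215eb942956a962d66c9a356ed98311c3c488142c68c244ca942c5c8903c7cc98346ce9c040c2840c1c080]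

/-- The possible actions. -/
def F4 : List ℕ := [nat_lit 0x3a70f9e3668c982a50b9626488905ab17ae56a94a84a913a646890a07af1fbe76e9cb86ad1bb666c98b01a3078e16284880a103860608080,
  nat_lit 0x2e50a9622489903e70e9e3268d985eb16ae52a95a84e912a642891a06ed1ab662c99b07ef1ebe72e9db81e3068e12285880e102860208180,
  nat_lit 0x6a51b967669c987a71f9e66498900a903a616a84a81ab07ae06880a02ad0bb636e8cb83af0fbe26c88b04a1138656294885a3178e4609080,
  nat_lit 0x7e71e9e62499906e51a967269d980e902a612a85a81eb06ae02881a03ef0ebe22c89b02ed0ab632e8db84e1128652295885e3168e4209180]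

theorem sK2 : srch [(t13, t13), (t23, t23)] ccK [4, 8, 16, 2, 1, 32] [] = true := by decide +kernel

theorem sK4 : srch [(t13, t13), (t12, t12)] ccK [4, 2, 8, 16, 32, 1] [] = true := by decide +kernel

theorem sS2 : srch [(t23, t23), (t13, t1323)] (ccS t12 [tI, t13, t23, t1323] F2)
    [4, 8, 16, 2, 1, 32] [] = true := by decide +kernel

theorem sS4 : srch [(t12, t12), (t13, t1312)] (ccS t23 [tI, t13, t12, t1312] F4)
    [4, 2, 8, 16, 32, 1] [] = true := by decide +kernel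

/-- The test for the tables of an automorphism. -/
def AutOK (t t' : ℕ) : Prop :=
  (∀ a, a < 128 → tb t' (tb t a) = a ∧ tb t (tb t' a) = a ∧
    Nat.land (tb t a) (nat_lit 63) = l7 t (Nat.land a (nat_lit 63)) ∧
    Nat.land (tb t' a) (nat_lit 63) = l7 t' (Nat.land a (nat_lit 63))) ∧
  ∀ a, a < 128 → ∀ b, b < 128 → tb t (mq a b) = mq (tb t a) (tb t b)

theorem autOK : ∀ p ∈ Bs, AutOK p.1 p.2 := by unfold AutOK; ndec

theorem AutOK.exists {t t' : ℕ} (h : AutOK t t') : ∃ β : MulAut X,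
    (∀ u, lo (β u) = l7 t (lo u)) ∧ ∀ u, lo (β.symm u) = l7 t' (lo u) :=
  ⟨{ toFun := fun u => ⟨tb t u.val, tb_lt _ _⟩
     invFun := fun u => ⟨tb t' u.val, tb_lt _ _⟩
     left_inv := fun u => El.ext (h.1 _ u.2).1
     right_inv := fun u => El.ext (h.1 _ u.2).2.1
     map_mul' := fun u v => El.ext (h.2 _ u.2 _ v.2) },
    fun u => (h.1 _ u.2).2.2.1, fun u => (h.1 _ u.2).2.2.2⟩

theorem comb : ∀ t ∈ F2, ∀ t' ∈ F4, ∃ p, p ∈ Bs ∧
    (∀ s ∈ [t12, t13, t23], ∀ v, v < 64 → l7 p.2 (l7 s (l7 p.1 v)) = l7 s v) ∧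
    (∃ s, s ∈ [t21, t2123] ∧ ∀ v, v < 64 → l7 p.2 (l7 t (l7 p.1 v)) = l7 s v) ∧
    ∃ s, s ∈ [t32, t3212] ∧ ∀ v, v < 64 → l7 p.2 (l7 t' (l7 p.1 v)) = l7 s v := by ndec

/-! ### The model -/

theorem al_of {m : M} {t : ℕ} (h : ∀ u : X, m * κ u * m⁻¹ = κ (e (tb t u.val)) ∧
    lo (e (tb t u.val)) = l7 t (lo u)) : Al κ m (l7 t) := fun u => ⟨_, (h u).2, (h u).1⟩

/-- Decide the action of an element of the model. -/
scoped macro "ad" : tactic =>
  `(tactic| (refine al_of ?_; mdec [cd_κ, El.forall_iff, El.val_c, lo, neq_iff]))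

theorem a12 : Al κ (x 1 2) (l7 t12) := by ad
theorem a13 : Al κ (x 1 3) (l7 t13) := by ad
theorem a23 : Al κ (x 2 3) (l7 t23) := by ad
theorem a21 : Al κ (x 2 1) (l7 t21) := by ad
theorem a32 : Al κ (x 3 2) (l7 t32) := by ad
theorem a1323 : Al κ (x 1 3 * x 2 3) (l7 t1323) := by ad
theorem a1312 : Al κ (x 1 3 * x 1 2) (l7 t1312) := by ad
theorem a2123 : Al κ (x 2 1 * x 2 3) (l7 t2123) := by ad
theorem a3212 : Al κ (x 3 2 * x 1 2) (l7 t3212) := by ad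
theorem l7_I : ∀ v, v < 64 → v = l7 tI v := by ndec

theorem range_κ : κ.range = Q :=
  le_antisymm (by rintro _ ⟨u, rfl⟩; revert u; mdec [cd_κ, El.forall_iff])
    (Hd.PS.sub_le (by simp only [MonoidHom.mem_range]; mdec [cd_κ, El.exists_iff]))

theorem nrmQ : ∀ c : M, ∀ u ∈ Q, c * u * c⁻¹ ∈ Q := fun c =>
  Hd.PS.sub_le (K := Q.comap (MulAut.conj c).toMonoidHom) (by
    simp only [mem_comap, MulEquiv.coe_toMonoidHom, MulAut.conj_apply]; revert c; md)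

theorem su0κ : Su0 κ where
  inj := κ_inj
  nrm g u := let ⟨v, hv⟩ := range_κ.ge (nrmQ g _ (range_κ.le ⟨u, rfl⟩)); ⟨v, hv.symm⟩
  cen g hg := range_κ.ge ((show ∀ g : M, (∀ v ∈ [1, 2, 4, 8, 16, 32], Commute g (κ (e v))) → g ∈ Q by
    mdec [cd_κ, El.val_c]) g fun v _ => (hg (e v)).commute)

end Cfsg.Agent.H11.U5
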